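import Groth.Agent.Lib.RG.StepModel
import Groth.Agent.Lib.FlatCA.WeakAssBC
import Groth.Agent.Lib.Pure.FlatML
import Groth.Agent.S0584
import Mathlib.Algebra.TrivSqZeroExt.Basic
import Mathlib.Data.Finsupp.Encodable
import Mathlib.RingTheory.Spectrum.Prime.Chevalley

/-!
# Flat algebras of finite presentation with integral geometric fibres are projective

Every element of such an algebra has a content ideal, compatibly with base change: locally on the base
the algebra embeds universally injectively into a standard smooth faithfully flat algebra, where the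
content is given by the ideal of jets along the universal point.  Applied to trivial extensions of the
base this is the criterion for the Mittag-Leffler property.
-/

set_option autoImplicit false
set_option linter.style.haveILetI false

universe u

open scoped TensorProduct
open IsLocalRing

namespace Groth.Agent.Lib.RG57.ContentProj

open RG.Engine Groth.Agent.Lib.Flat55

/-- All geometric fibre rings are domains. -/
def GID (R D : Type u) [CommRing R] [CommRing D] [Algebra R D] : Prop :=
  ∀ (K : Type u) [Field K] [Algebra R K], IsDomain (K ⊗[R] D)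

variable {R D : Type u} [CommRing R] [CommRing D] [Algebra R D]

theorem gif_of_gid (h : GID R D) : GIF R D := fun K _ _ => by
  haveI := h K
  infer_instance

theorem gid_baseChange (h : GID R D) (A : Type u) [CommRing A] [Algebra R A] : GID A (A ⊗[R] D) := by
  intro K _ _
  letI : Algebra R K := ((algebraMap A K).comp (algebraMap R A)).toAlgebra
  haveI : IsScalarTower R A K := IsScalarTower.of_algebraMap_eq fun _ => rfl
  haveI := h K
  exact (Algebra.TensorProduct.cancelBaseChange R A K K D).toRingEquiv.toMulEquiv.isDomain (K ⊗[R] D)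

theorem mem_smul_top_iff (a : D) (I : Ideal R) :
    a ∈ I • (⊤ : Submodule R D) ↔ (1 : R ⧸ I) ⊗ₜ[R] a = 0 := by
  have h : TensorProduct.quotTensorEquivQuotSMul D I ((1 : R ⧸ I) ⊗ₜ[R] a) = Submodule.Quotient.mk a := by
    rw [show (1 : R ⧸ I) = Ideal.Quotient.mk I 1 from rfl, TensorProduct.quotTensorEquivQuotSMul_mk_tmul, one_smul]
  rw [← LinearEquiv.map_eq_zero_iff (TensorProduct.quotTensorEquivQuotSMul D I), h, Submodule.Quotient.mk_eq_zero]

theorem tmul_eq_zero_map {A A' : Type u} [CommRing A] [Algebra R A] [CommRing A'] [Algebra R A'] (g : A →ₐ[R] A')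
    {a : D} (h : (1 : A) ⊗ₜ[R] a = 0) : (1 : A') ⊗ₜ[R] a = 0 := by
  have := congrArg (g.toLinearMap.rTensor D) h
  rwa [map_zero, LinearMap.rTensor_tmul, AlgHom.toLinearMap_apply, map_one] at this

section Section

variable [Algebra.FinitePresentation R D] [Module.Flat R D]

/-- An element equal to one along a section is regular. -/
theorem eq_zero_of_section (hD : GIF R D) {A : Type u} [CommRing A] [Algebra R A] (σ : A ⊗[R] D →ₐ[A] A)
    (c u : A ⊗[R] D) (hu : σ u = 1) (huc : u * c = 0) : c = 0 := by
  have hc : (u : A ⊗[R] D) • (c ⊗ₜ[A] (1 : A)) = (0 : (A ⊗[R] D) ⊗[A] A) := by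
    rw [TensorProduct.smul_tmul', smul_eq_mul, huc, TensorProduct.zero_tmul]
  have := eq_zero_of_forall_fibre (hD.baseChange A) (u := u) (fun 𝔔 _ h0 => ?_) hc
  · simpa using congrArg (TensorProduct.rid A (A ⊗[R] D)) this
  · let t := 𝔔.comap (algebraMap A (A ⊗[R] D))
    let ψ : t.ResidueField ⊗[A] (A ⊗[R] D) →ₐ[A] t.ResidueField :=
      Algebra.TensorProduct.lift (AlgHom.id A _) ((IsScalarTower.toAlgHom A A t.ResidueField).comp σ)
        fun _ _ => Commute.all _ _
    have h2 := congrArg ψ h0
    rw [map_zero] at h2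
    simp [ψ, hu] at h2

end Section

section

variable [Algebra.FinitePresentation R D] [Module.Flat R D] (hD : GID R D)
include hD

/-- The generic point of a fibre is a smooth point, and has standard smooth neighbourhoods covering
the fibres over a neighbourhood in the base. -/
theorem exists_smooth_element (p : Ideal R) [p.IsPrime] :
    ∃ (F : D) (f : R), f ∉ p ∧ Algebra.IsStandardSmooth R (Localization.Away F) ∧
      ∀ (t : Ideal R) [t.IsPrime], f ∉ t → ∃ (Q : Ideal D) (_ : Q.IsPrime), Q.LiesOver t ∧ F ∉ Q := by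
  haveI := hD p.ResidueField
  let P := RG.StepModel.genPrime p D
  haveI hPp : P.IsPrime := RingHom.ker_isPrime _
  haveI : P.LiesOver p := by
    refine ⟨le_antisymm (fun r hr => ?_) fun r hr => ?_⟩
    · show Algebra.TensorProduct.includeRight (R := R) (A := p.ResidueField) (algebraMap R D r) = 0
      rw [AlgHom.commutes, IsScalarTower.algebraMap_apply R p.ResidueField (p.ResidueField ⊗[R] D),
        Ideal.algebraMap_residueField_eq_zero.2 hr, map_zero]
    · have h0 : Algebra.TensorProduct.includeRight (R := R) (A := p.ResidueField) (algebraMap R D r) = 0 := hr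
      rw [AlgHom.commutes, IsScalarTower.algebraMap_apply R p.ResidueField (p.ResidueField ⊗[R] D)] at h0
      exact Ideal.algebraMap_residueField_eq_zero.1 ((map_eq_zero_iff _ (RingHom.injective _)).1 h0)
  obtain ⟨DA, _, _, _, _, _, _, hloc, hfp, hfl, hgif, hprime, hcomap⟩ :=
    RG.StepModel.exists_localModel (R := R) (D := D) p (gif_of_gid hD) P
      (fun Q _ _ => RG.StepModel.genPrime_le p Q)
  let A := Localization.AtPrime p
  let PA := (maximalIdeal A).map (algebraMap A DA)
  haveI := hloc
  haveI := hfp
  haveI := hfl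
  haveI : PA.IsPrime := hprime
  haveI : Algebra.FormallySmooth A (Localization.AtPrime PA) := RG.GenSmooth.isSmoothAt hgif
  haveI : Algebra.FormallyEtale R A := Algebra.FormallyEtale.of_isLocalization p.primeCompl
  haveI : Algebra.FormallySmooth R (Localization.AtPrime PA) := Algebra.FormallySmooth.comp R A _
  haveI : Algebra.IsSmoothAt R P := by
    have h1 := IsLocalization.isLocalization_isLocalization_atPrime_isLocalization
      (Algebra.algebraMapSubmonoid D p.primeCompl) (T := Localization.AtPrime PA) PA
    haveI : IsLocalization P.primeCompl (Localization.AtPrime PA) := by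
      convert h1 using 1
      ext d
      show d ∉ P ↔ algebraMap D DA d ∉ PA
      rw [← hcomap]
      rfl
    exact Algebra.FormallySmooth.of_equiv
      ((IsLocalization.algEquiv P.primeCompl (Localization.AtPrime PA) (Localization.AtPrime P)).restrictScalars R)
  obtain ⟨F, hF, hss⟩ := exists_notMem_isStandardSmooth (R := R) P
  haveI : Algebra.IsStandardSmooth R (Localization.Away F) := hss
  haveI : Algebra.FinitePresentation R (Localization.Away F) := inferInstance
  haveI : Module.Flat R (Localization.Away F) := Module.Flat.trans R D (Localization.Away F)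
  have hopen := PrimeSpectrum.isOpenMap_comap_of_hasGoingDown_of_finitePresentation (R := R)
    (S := Localization.Away F) _ isOpen_univ
  have hdisj : Disjoint (Submonoid.powers F : Set D) (P : Set D) :=
    (Ideal.disjoint_powers_iff_notMem_of_isPrime F).2 hF
  obtain ⟨_, ⟨f, rfl⟩, hfp', hsub⟩ :=
    PrimeSpectrum.isTopologicalBasis_basic_opens.exists_subset_of_mem_open
      (show (⟨p, inferInstance⟩ : PrimeSpectrum R) ∈
          PrimeSpectrum.comap (algebraMap R (Localization.Away F)) '' Set.univ from
        ⟨⟨P.map (algebraMap D (Localization.Away F)),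
          IsLocalization.isPrime_of_isPrime_disjoint (Submonoid.powers F) _ P inferInstance hdisj⟩, trivial,
          PrimeSpectrum.ext (by
            show (P.map (algebraMap D (Localization.Away F))).comap (algebraMap R (Localization.Away F)) = p
            rw [IsScalarTower.algebraMap_eq R D (Localization.Away F), ← Ideal.comap_comap,
              show (P.map (algebraMap D (Localization.Away F))).comap (algebraMap D (Localization.Away F)) = P from
                IsLocalization.under_map_of_isPrime_disjoint (Submonoid.powers F) _ inferInstance hdisj]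
            exact (P.over_def p).symm)⟩)
      hopen
  refine ⟨F, f, hfp', hss, fun t _ hft => ?_⟩
  obtain ⟨Q, -, hQ⟩ := hsub (show (⟨t, inferInstance⟩ : PrimeSpectrum R) ∈ _ from hft)
  refine ⟨Q.asIdeal.comap (algebraMap D (Localization.Away F)), inferInstance, ⟨?_⟩, fun hFQ => ?_⟩
  · rw [Ideal.under_def, Ideal.comap_comap, ← IsScalarTower.algebraMap_eq]
    exact (congrArg PrimeSpectrum.asIdeal hQ).symm
  · exact Q.isPrime.ne_top (Ideal.eq_top_of_isUnit_mem _ hFQ (IsLocalization.Away.algebraMap_isUnit F))

/-- An element nonzero in the fibres over `D(f)` is regular after tensoring with algebras inverting `f`. -/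
theorem regular_of_inverted {F : D} {f : R}
    (hF : ∀ (t : Ideal R) [t.IsPrime], f ∉ t → (1 : t.ResidueField) ⊗ₜ[R] F ≠ 0)
    (A : Type u) [CommRing A] [Algebra R A] (hf : IsUnit (algebraMap R A f)) (z : D ⊗[R] A) (hz : F • z = 0) :
    z = 0 := by
  by_contra hne
  obtain ⟨Q, hQ⟩ := Ideal.nonempty_minimalPrimes (I := (Submodule.span D {z}).annihilator) fun h => hne (by
    simpa using (Submodule.mem_annihilator_span_singleton z (1 : D)).1 (h ▸ trivial))
  haveI := hQ.1.1
  obtain ⟨hzQ, hnil⟩ := FlatCA.WeakAssBC.nil_of_minimal Q z hQ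
  let e : D ⊗[R] A ≃ₗ[R] D ⊗[R] A := LinearEquiv.lTensor D
    ((LinearEquiv.smulOfUnit hf.unit (R := A) (M := A)).restrictScalars R)
  have he : ∀ y, e y = f • y := fun y => by
    induction y using TensorProduct.induction_on with
    | zero => simp
    | add a b ha hb => rw [map_add, ha, hb, smul_add]
    | tmul a b => rw [← TensorProduct.tmul_smul, Algebra.smul_def]; rfl
  have hfQ : algebraMap R D f ∉ Q := by
    intro hmem
    obtain ⟨n, w, hw, hwz⟩ := hnil _ hmem
    induction n generalizing w with
    | zero => exact hzQ w hw (by rwa [pow_zero, mul_one] at hwz)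
    | succ n ih =>
      refine ih w hw (e.injective ?_)
      rw [map_zero, he, ← algebraMap_smul D f, smul_smul, ← hwz]
      congr 1
      ring
  let t := Q.comap (algebraMap R D)
  haveI : Q.LiesOver t := ⟨rfl⟩
  obtain ⟨w, hw, hwz⟩ := FlatCA.NzdLimit.killed_of_fibre (N := D) t Q F
    (fun y hy => ⟨1, Q.primeCompl.one_mem, by
      rw [one_smul]; exact fibre_regular (gif_of_gid hD) t (hF t hfQ) y hy⟩) A z hz
  exact hzQ w hw hwz

/-- Locally on the base, vanishing loci of elements are closed subschemes. -/
theorem exists_rep_local (p : Ideal R) [p.IsPrime] (a : D) :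
    ∃ f : R, f ∉ p ∧ ∃ J : Ideal (Localization.Away f),
      ∀ (A : Type u) [CommRing A] [Algebra R A] [Algebra (Localization.Away f) A]
        [IsScalarTower R (Localization.Away f) A],
        (1 : A) ⊗ₜ[R] a = 0 ↔ J.map (algebraMap (Localization.Away f) A) = ⊥ := by
  obtain ⟨F, f, hfp, hss, hcov⟩ := exists_smooth_element hD p
  refine ⟨f, hfp, ?_⟩
  let R₀ := Localization.Away f
  let DF := Localization.Away F
  let B := R₀ ⊗[R] DF
  haveI : Algebra.IsStandardSmooth R DF := hss
  obtain ⟨ι, σ, hσ, hι, ⟨P⟩⟩ := ‹Algebra.IsStandardSmooth R DF›.out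
  haveI : Algebra.IsStandardSmoothOfRelativeDimension P.dimension R DF :=
    P.isStandardSmoothOfRelativeDimension rfl
  haveI : Algebra.IsStandardSmoothOfRelativeDimension P.dimension R₀ B := inferInstance
  haveI : Module.Flat R DF := Module.Flat.trans R D DF
  haveI : Algebra.FinitePresentation R DF := inferInstance
  haveI : Module.FaithfullyFlat R₀ B := by
    refine Module.FaithfullyFlat.of_comap_surjective fun t₀ => ?_
    let t : Ideal R := t₀.asIdeal.comap (algebraMap R R₀)
    have hft : f ∉ t := fun h =>
      t₀.isPrime.ne_top (Ideal.eq_top_of_isUnit_mem _ h (IsLocalization.Away.algebraMap_isUnit f))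
    obtain ⟨Q, hQ, hQt, hFQ⟩ := hcov t hft
    haveI := hQ
    haveI := hQt
    let φR : R →+* Q.ResidueField := algebraMap R Q.ResidueField
    have hker : ∀ r, φR r = 0 ↔ r ∈ t := fun r => by
      show algebraMap R Q.ResidueField r = 0 ↔ _
      rw [IsScalarTower.algebraMap_apply R D Q.ResidueField, Ideal.algebraMap_residueField_eq_zero, Q.over_def t]
      rfl
    let φ₀ : R₀ →ₐ[R] Q.ResidueField := IsLocalization.Away.liftAlgHom f (f := Algebra.ofId R Q.ResidueField)
      (isUnit_iff_ne_zero.2 fun h => hft ((hker f).1 h))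
    let φF : DF →ₐ[R] Q.ResidueField := IsLocalization.Away.liftAlgHom F
      (f := IsScalarTower.toAlgHom R D Q.ResidueField)
      (isUnit_iff_ne_zero.2 fun h => hFQ (Ideal.algebraMap_residueField_eq_zero.1 h))
    let φ : B →ₐ[R] Q.ResidueField := Algebra.TensorProduct.lift φ₀ φF fun _ _ => Commute.all _ _
    refine ⟨⟨RingHom.ker φ.toRingHom, RingHom.ker_isPrime _⟩, PrimeSpectrum.ext ?_⟩
    show (RingHom.ker φ.toRingHom).comap (algebraMap R₀ B) = t₀.asIdeal
    refine Ideal.ext fun x => ?_
    obtain ⟨⟨r, s⟩, hx⟩ := IsLocalization.surj (Submonoid.powers f) x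
    have h1 : x ∈ t₀.asIdeal ↔ r ∈ t := by
      show _ ↔ algebraMap R R₀ r ∈ t₀.asIdeal
      rw [← hx, Ideal.mul_unit_mem_iff_mem _ (IsLocalization.map_units R₀ s)]
    rw [h1, ← hker, Ideal.mem_comap, RingHom.mem_ker]
    show φ (x ⊗ₜ[R] 1) = 0 ↔ φR r = 0
    rw [Algebra.TensorProduct.lift_tmul, map_one, mul_one, ← show φ₀ x * φ₀ (algebraMap R R₀ s) = φR r from by
      rw [← map_mul, hx]; exact φ₀.commutes r]
    exact ⟨fun h => by rw [h, zero_mul],
      fun h => (((IsLocalization.map_units R₀ s).map φ₀).mul_left_eq_zero).1 h⟩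
  have hB : GIF R₀ B := ((gif_of_gid hD).localization (Submonoid.powers F) DF).baseChange R₀
  obtain ⟨J, -, hJ⟩ := JetContent.exists_content P.dimension (fun A _ _ σ c u => eq_zero_of_section hB σ c u) ((1 : R₀) ⊗ₜ[R] algebraMap D DF a)
  refine ⟨J, fun A _ _ _ _ => ?_⟩
  rw [← hJ A, ← map_eq_zero_iff _ (Algebra.TensorProduct.cancelBaseChange R R₀ A A DF).injective,
    Algebra.TensorProduct.cancelBaseChange_tmul, one_smul]
  constructor
  · intro h
    have := congrArg ((IsScalarTower.toAlgHom R D DF).toLinearMap.lTensor A) h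
    rwa [map_zero, LinearMap.lTensor_tmul] at this
  · intro h
    have h' : TensorProduct.AlgebraTensorModule.rTensor R A (Algebra.linearMap D DF) (a ⊗ₜ[R] (1 : A)) = 0 := by
      rw [TensorProduct.AlgebraTensorModule.rTensor_tmul]
      have := congrArg (TensorProduct.comm R A DF) h
      rwa [map_zero, TensorProduct.comm_tmul] at this
    haveI := IsLocalizedModule.rTensor (Submonoid.powers F) (R := R) (A := D) (N := A) (Algebra.linearMap D DF)
    obtain ⟨⟨_, k, rfl⟩, hk⟩ := (IsLocalizedModule.eq_zero_iff (Submonoid.powers F) _).1 h'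
    have hk' : F ^ k • (a ⊗ₜ[R] (1 : A)) = 0 := hk
    have hreg : ∀ m : ℕ, ∀ z : D ⊗[R] A, F ^ m • z = 0 → z = 0 := fun m => by
      induction m with
      | zero => intro z hz; rwa [pow_zero, one_smul] at hz
      | succ m ih =>
        intro z hz
        rw [pow_succ', mul_smul] at hz
        refine ih z (regular_of_inverted hD (f := f) (fun t _ hft h0 => ?_) A ?_ _ hz)
        · obtain ⟨Q, hQ, hQt, hFQ⟩ := hcov t hft
          exact hFQ (mem_of_tmul_eq_zero t Q h0)
        · rw [IsScalarTower.algebraMap_apply R R₀ A]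
          exact (IsLocalization.Away.algebraMap_isUnit f).map _
    have := congrArg (TensorProduct.comm R D A) (hreg k _ hk')
    rwa [map_zero, TensorProduct.comm_tmul] at this

/-- Every element has a content ideal. -/
theorem exists_content (a : D) :
    ∃ K : Ideal R, a ∈ K • (⊤ : Submodule R D) ∧ ∀ I : Ideal R, a ∈ I • (⊤ : Submodule R D) → K ≤ I := by
  classical
  choose f hf J hJ using fun p : PrimeSpectrum R => exists_rep_local hD p.asIdeal a
  obtain ⟨s, hs⟩ : ∃ s : Finset (PrimeSpectrum R), Ideal.span (f '' (s : Set (PrimeSpectrum R))) = ⊤ := by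
    have htop : Ideal.span (Set.range f) = ⊤ := by
      by_contra h
      obtain ⟨m, hm, hle⟩ := Ideal.exists_le_maximal _ h
      exact hf ⟨m, hm.isPrime⟩ (hle (Ideal.subset_span ⟨_, rfl⟩))
    obtain ⟨u, hu, hu'⟩ := Submodule.mem_span_finite_of_mem_span
      (show (1 : R) ∈ Submodule.span R (Set.range f) by
        rw [show Submodule.span R (Set.range f) = ⊤ from htop]; trivial)
    obtain ⟨s, -, rfl⟩ := Finset.subset_set_image_iff.1
      (show (u : Set R) ⊆ f '' Set.univ by rwa [Set.image_univ])
    exact ⟨s, (Ideal.eq_top_iff_one _).2 (by rw [← Finset.coe_image]; exact hu')⟩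
  have hspan : ∀ {I : Ideal R} {r : R}, (∀ i ∈ s, ∃ n : ℕ, f i ^ n * r ∈ I) → r ∈ I := fun {I r} h => by
    let I' : Ideal R := I.colon {r}
    have : (⊤ : Ideal R) ≤ I'.radical := hs ▸ Ideal.span_le.2 (by
      rintro _ ⟨i, hi, rfl⟩
      obtain ⟨n, hn⟩ := h i hi
      exact ⟨n, Submodule.mem_colon_singleton.2 hn⟩)
    obtain ⟨n, hn⟩ := this (Submodule.mem_top (x := (1 : R)))
    rw [one_pow] at hn
    simpa using Submodule.mem_colon_singleton.1 hn
  let K : Ideal R := ⨅ i ∈ s, (J i).comap (algebraMap R (Localization.Away (f i)))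
  have hKmem : ∀ r, r ∈ K ↔ ∀ i ∈ s, algebraMap R (Localization.Away (f i)) r ∈ J i := fun r => by
    simp [K, Submodule.mem_iInf]
  -- vanishing transported into localized quotients
  have key : ∀ (Q : Type u) [CommRing Q] [Algebra R Q] (i : PrimeSpectrum R), (1 : Q) ⊗ₜ[R] a = 0 →
      ∀ r : R, algebraMap R (Localization.Away (f i)) r ∈ J i → ∃ n : ℕ, algebraMap R Q (f i ^ n * r) = 0 := by
    intro Q _ _ i hQ r hr
    let A := Localization.Away (algebraMap R Q (f i))
    let χ : Localization.Away (f i) →ₐ[R] A := IsLocalization.Away.liftAlgHom (f i) (f := Algebra.ofId R A)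
      (by
        show IsUnit (algebraMap R A (f i))
        rw [IsScalarTower.algebraMap_apply R Q A]
        exact IsLocalization.Away.algebraMap_isUnit _)
    letI : Algebra (Localization.Away (f i)) A := χ.toRingHom.toAlgebra
    haveI : IsScalarTower R (Localization.Away (f i)) A := IsScalarTower.of_algebraMap_eq fun x => (χ.commutes x).symm
    have h1 := (hJ i A).1 (tmul_eq_zero_map (IsScalarTower.toAlgHom R Q A) hQ)
    have h2 := Ideal.mem_map_of_mem (algebraMap (Localization.Away (f i)) A) hr
    rw [h1, Ideal.mem_bot, ← IsScalarTower.algebraMap_apply, IsScalarTower.algebraMap_apply R Q A,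
      IsLocalization.map_eq_zero_iff (Submonoid.powers (algebraMap R Q (f i)))] at h2
    obtain ⟨⟨_, n, rfl⟩, hn⟩ := h2
    exact ⟨n, by rw [map_mul, map_pow]; exact hn⟩
  refine ⟨K, ?_, fun I hI r hr => hspan fun i hi => ?_⟩
  · rw [mem_smul_top_iff]
    have hann : ∀ i ∈ s, ∃ n : ℕ, (f i ^ n) • ((1 : R ⧸ K) ⊗ₜ[R] a) = 0 := by
      intro i _
      let A := Localization.Away (Ideal.Quotient.mk K (f i))
      let χ : Localization.Away (f i) →ₐ[R] A := IsLocalization.Away.liftAlgHom (f i) (f := Algebra.ofId R A)
        (by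
          show IsUnit (algebraMap R A (f i))
          rw [IsScalarTower.algebraMap_apply R (R ⧸ K) A]
          exact IsLocalization.Away.algebraMap_isUnit _)
      letI : Algebra (Localization.Away (f i)) A := χ.toRingHom.toAlgebra
      haveI : IsScalarTower R (Localization.Away (f i)) A :=
        IsScalarTower.of_algebraMap_eq fun x => (χ.commutes x).symm
      have hJA : (J i).map (algebraMap (Localization.Away (f i)) A) = ⊥ := by
        refine le_bot_iff.1 (Ideal.map_le_iff_le_comap.2 fun x hx => ?_)
        obtain ⟨⟨r, u⟩, hu⟩ := IsLocalization.surj (Submonoid.powers (f i)) x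
        have hr : algebraMap R (Localization.Away (f i)) r ∈ J i := hu ▸ Ideal.mul_mem_right _ _ hx
        have hn : ∀ j ∈ s, ∃ n : ℕ, algebraMap R (Localization.Away (f j)) (f i ^ n * r) ∈ J j := by
          intro j _
          let Q := Localization.Away (f j) ⧸ J j
          obtain ⟨n, hn⟩ := key Q i ((hJ j Q).2 (Ideal.map_quotient_self _)) r hr
          refine ⟨n, Ideal.Quotient.eq_zero_iff_mem.1 ?_⟩
          rw [← hn, IsScalarTower.algebraMap_apply R (Localization.Away (f j)) Q, Ideal.Quotient.algebraMap_eq]
        choose n hn using hn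
        let N := s.attach.sup fun j => n j.1 j.2
        have hK : f i ^ N * r ∈ K := (hKmem _).2 fun j hj => by
          have hle : n j hj ≤ N := Finset.le_sup (f := fun j : {x // x ∈ s} => n j.1 j.2) (Finset.mem_attach _ ⟨j, hj⟩)
          rw [← Nat.sub_add_cancel hle, pow_add, mul_assoc, map_mul]
          exact Ideal.mul_mem_left _ _ (hn j hj)
        have h0 : algebraMap R A (f i ^ N * r) = 0 := by
          rw [IsScalarTower.algebraMap_apply R (R ⧸ K) A, Ideal.Quotient.algebraMap_eq,
            Ideal.Quotient.eq_zero_iff_mem.2 hK, map_zero]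
        have hunit : IsUnit (algebraMap R A (f i ^ N)) := by
          rw [map_pow, IsScalarTower.algebraMap_apply R (R ⧸ K) A]
          exact (IsLocalization.Away.algebraMap_isUnit _).pow _
        rw [map_mul] at h0
        have hr0 : algebraMap R A r = 0 := hunit.mul_right_eq_zero.1 h0
        show algebraMap (Localization.Away (f i)) A x = 0
        refine ((IsLocalization.map_units (Localization.Away (f i)) u).map
          (algebraMap (Localization.Away (f i)) A)).mul_left_eq_zero.1 ?_
        rw [← map_mul, hu, ← IsScalarTower.algebraMap_apply, hr0]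
      have h1 := (hJ i A).2 hJA
      haveI := IsLocalizedModule.rTensor (Submonoid.powers (Ideal.Quotient.mk K (f i))) (R := R) (A := R ⧸ K) (N := D)
        (Algebra.linearMap (R ⧸ K) A)
      have h2 : TensorProduct.AlgebraTensorModule.rTensor R D (Algebra.linearMap (R ⧸ K) A)
          ((1 : R ⧸ K) ⊗ₜ[R] a) = 0 := by
        rw [TensorProduct.AlgebraTensorModule.rTensor_tmul, Algebra.linearMap_apply, map_one]
        exact h1
      obtain ⟨⟨_, n, rfl⟩, hn⟩ :=
        (IsLocalizedModule.eq_zero_iff (Submonoid.powers (Ideal.Quotient.mk K (f i))) _).1 h2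
      exact ⟨n, (algebraMap_smul (R ⧸ K) _ _).symm.trans (by rw [map_pow]; exact hn)⟩
    have hmem : (1 : R) ∈ LinearMap.ker (LinearMap.toSpanSingleton R _ ((1 : R ⧸ K) ⊗ₜ[R] a)) :=
      hspan fun i hi => by
        obtain ⟨n, hn⟩ := hann i hi
        exact ⟨n, by rw [mul_one, LinearMap.mem_ker, LinearMap.toSpanSingleton_apply]; exact hn⟩
    simpa using hmem
  · obtain ⟨n, hn⟩ := key (R ⧸ I) i ((mem_smul_top_iff a I).1 hI) r ((hKmem r).1 hr i hi)
    exact ⟨n, Ideal.Quotient.eq_zero_iff_mem.1 hn⟩

/-- The Mittag-Leffler property, through trivial extensions of the base. -/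
theorem isMittagLeffler : CAlg.IsMittagLeffler R D := by
  refine Pure.FlatML.of_smallest fun n x => ?_
  let F := Fin n → R
  let A := TrivSqZeroExt R F
  let ι : F →ₗ[R] A := TrivSqZeroExt.inrHom R F
  let π : A →ₗ[R] F := TrivSqZeroExt.sndHom R F
  obtain ⟨K, hK, hmin⟩ := exists_content (gid_baseChange hD A) (ι.rTensor D x)
  let toIdeal : Submodule R F → Ideal A := fun W =>
    { carrier := {z | z.fst = 0 ∧ z.snd ∈ W}
      zero_mem' := ⟨rfl, W.zero_mem⟩
      add_mem' := fun ha hb => ⟨by rw [TrivSqZeroExt.fst_add, ha.1, hb.1, add_zero],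
        by rw [TrivSqZeroExt.snd_add]; exact W.add_mem ha.2 hb.2⟩
      smul_mem' := fun c z hz => ⟨by rw [smul_eq_mul, TrivSqZeroExt.fst_mul, hz.1, mul_zero],
        by
          rw [smul_eq_mul, TrivSqZeroExt.snd_mul, hz.1]
          simpa using W.smul_mem _ hz.2⟩ }
  have hup : ∀ W : Submodule R F, x ∈ LinearMap.range (W.subtype.rTensor D) → K ≤ toIdeal W := by
    rintro W ⟨y, hy⟩
    refine hmin _ ?_
    rw [← hy]
    clear hy
    induction y using TensorProduct.induction_on with
    | zero => simp
    | add a b ha hb => rw [map_add, map_add]; exact add_mem ha hb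
    | tmul w d =>
      rw [LinearMap.rTensor_tmul, LinearMap.rTensor_tmul,
        show ι (W.subtype w) ⊗ₜ[R] d = ι (W.subtype w) • ((1 : A) ⊗ₜ[R] d) by
          rw [TensorProduct.smul_tmul', smul_eq_mul, mul_one]]
      exact Submodule.smul_mem_smul (⟨TrivSqZeroExt.fst_inr _ _, by
        show ((ι (W.subtype w)).snd) ∈ W
        rw [show (ι (W.subtype w)).snd = W.subtype w from TrivSqZeroExt.snd_inr _ _]
        exact w.2⟩ : ι (W.subtype w) ∈ toIdeal W) trivial
  let F' : Submodule R F := (K.restrictScalars R).comap ι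
  refine ⟨F', ?_, fun W hW v hv => ?_⟩
  · have hKinr : ∀ k ∈ K, k.fst = 0 := fun k hk =>
      ((hup ⊤ ⟨(LinearMap.rTensor D (Submodule.topEquiv.symm.toLinearMap)) x, by
        rw [← LinearMap.comp_apply, ← LinearMap.rTensor_comp]
        simp [show (⊤ : Submodule R F).subtype ∘ₗ Submodule.topEquiv.symm.toLinearMap = LinearMap.id from
          LinearMap.ext fun _ => rfl]⟩) hk).1
    obtain ⟨y, hy⟩ : ι.rTensor D x ∈ LinearMap.range ((ι ∘ₗ F'.subtype).rTensor D) := by
      refine Submodule.smul_induction_on hK (fun k hk z hz => ?_) fun _ _ => add_mem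
      clear hz
      induction z using TensorProduct.induction_on with
      | zero => simp
      | add a b ha hb => rw [smul_add]; exact add_mem ha hb
      | tmul c d =>
        have hm : k * c ∈ K := K.mul_mem_right c hk
        have heq : ι (k * c).snd = k * c := by
          refine TrivSqZeroExt.ext ?_ ?_
          · exact (TrivSqZeroExt.fst_inr _ _).trans (hKinr _ hm).symm
          · exact TrivSqZeroExt.snd_inr _ _
        refine ⟨(⟨(k * c).snd, show ι (k * c).snd ∈ K from heq.symm ▸ hm⟩ : F') ⊗ₜ d, ?_⟩
        rw [LinearMap.rTensor_tmul, LinearMap.comp_apply, Submodule.subtype_apply, heq,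
          TensorProduct.smul_tmul', smul_eq_mul]
    refine ⟨y, ?_⟩
    have hπι : π ∘ₗ ι = LinearMap.id := LinearMap.ext fun v => TrivSqZeroExt.snd_inr R v
    have h := congrArg (π.rTensor D) hy
    rwa [← LinearMap.comp_apply, ← LinearMap.rTensor_comp, ← LinearMap.comp_assoc, hπι, LinearMap.id_comp,
      ← LinearMap.comp_apply (LinearMap.rTensor D π), ← LinearMap.rTensor_comp, hπι, LinearMap.rTensor_id,
      LinearMap.id_apply] at h
  · have h := (hup W hW hv).2
    rwa [show (ι v).snd = v from TrivSqZeroExt.snd_inr _ v] at h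

/-- A flat algebra of finite presentation with integral geometric fibres is projective. -/
theorem projective : Module.Projective R D := by
  refine (Groth.Agent.S0584.result R D).2 ⟨inferInstance, isMittagLeffler hD, PUnit.{u + 1}, fun _ => ⊤, ?_, fun _ => ?_⟩
  · convert (DirectSum.isInternal_submodule_iff_iSupIndep_and_iSup_eq_top (fun _ : PUnit.{u + 1} => (⊤ : Submodule R D))).2 ⟨fun i => by simp, by simp⟩
  · obtain ⟨n, π, hπ⟩ := Algebra.FiniteType.iff_quotient_mvPolynomial''.1 (inferInstance : Algebra.FiniteType R D)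
    refine ⟨Set.range fun m : Fin n →₀ ℕ => (⟨π (MvPolynomial.monomial m 1), trivial⟩ : (⊤ : Submodule R D)),
      Set.countable_range _, ?_⟩
    rw [eq_top_iff]
    rintro ⟨x, -⟩ -
    obtain ⟨P, rfl⟩ := hπ x
    let ψ : MvPolynomial (Fin n) R →ₗ[R] (⊤ : Submodule R D) := π.toLinearMap.codRestrict ⊤ fun _ => trivial
    have : ψ P ∈ Submodule.span R (Set.range fun m : Fin n →₀ ℕ => ψ (MvPolynomial.monomial m 1)) := by
      clear * - ψ
      induction P using MvPolynomial.induction_on' with
      | monomial m c =>
        rw [show MvPolynomial.monomial m c = c • MvPolynomial.monomial m (1 : R) by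
          rw [MvPolynomial.smul_monomial, smul_eq_mul, mul_one], map_smul]
        exact Submodule.smul_mem _ _ (Submodule.subset_span ⟨m, rfl⟩)
      | add a b ha hb => rw [map_add]; exact add_mem ha hb
    exact this

end

end Groth.Agent.Lib.RG57.ContentProj
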