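import Groth.Agent.Lib.RG57.UnivPurePiece
import Groth.Agent.S0523
import Groth.Agent.Lib.Henselian.LocalRing
import Mathlib.RingTheory.EssentialFiniteness

/-!
# Flat finite modules over essentially finite type algebras over henselian local rings
-/

set_option autoImplicit false
set_option linter.style.haveILetI false

universe u

open scoped TensorProduct

attribute [local instance] Algebra.TensorProduct.rightAlgebra

namespace Groth.Agent.Lib.RG57.HenselML

open RG.StepModel (BijAt)
open RG.NhdPoint (inR)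

section Model

variable {A : Type u} [CommRing A] {P : Type u} [CommRing P] [Algebra A P] [Algebra.FinitePresentation A P]
  (N : Type u) [AddCommGroup N] [Module P N] [Module A N] [IsScalarTower A P N] [Module.Finite P N]

/-- Near a flat point a finite module agrees, after an étale neighbourhood of the base, with a finitely
presented module having a projective chart. -/
theorem exists_model_good (p : Ideal A) [p.IsPrime] (q : Ideal P) [q.IsPrime] [q.LiesOver p]
    (hflat : Module.Flat A (LocalizedModule q.primeCompl N)) :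
    ∃ (R : Type u) (_ : CommRing R) (_ : Algebra A R) (r : Ideal R) (_ : r.IsPrime),
      _root_.FlatCA.IsEtaleNhd A R p r ∧ ∃ (N₀ : Type u) (_ : AddCommGroup N₀) (_ : Module P N₀) (θ : N₀ →ₗ[P] N)
        (w : P ⊗[A] R),
        (∀ Q : Ideal (P ⊗[A] R), Q.IsPrime → Q.comap (algebraMap P (P ⊗[A] R)) = q → Q.comap inR = r → w ∉ Q) ∧
        Module.Projective R (RG.OpenProj.Model N₀ w) ∧
        RG.OpenProj.Good N₀ r q w ∧ Module.FinitePresentation P N₀ ∧
        ∀ Q : Ideal (P ⊗[A] R), Q.IsPrime → w ∉ Q → Q.comap inR ≤ r →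
          ∀ (_ : (Q.comap (algebraMap P (P ⊗[A] R))).IsPrime), BijAt (Q.comap (algebraMap P (P ⊗[A] R))) θ := by
  obtain ⟨R₁, _, _, r₁, hr₁, het₁, h, hh, hgood⟩ := RG.Near.near_of_flat p q hflat
  obtain ⟨k, π, hπ⟩ := Module.Finite.exists_fin' P N
  obtain ⟨T, hT, hgen⟩ := hgood.2 k π hπ
  let K : Submodule P (Fin k → P) := Submodule.span P (T : Set (Fin k → P))
  let N₀ := (Fin k → P) ⧸ K
  let θ : N₀ →ₗ[P] N := K.liftQ π (Submodule.span_le.2 fun t ht => LinearMap.mem_ker.2 (hT t ht))
  haveI : Module.FinitePresentation P N₀ :=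
    Module.finitePresentation_of_surjective K.mkQ K.mkQ_surjective (by rw [K.ker_mkQ]; exact ⟨T, rfl⟩)
  have hθ : ∀ Q ∈ RG.Near.shadow r₁ h, ∀ (_ : Q.IsPrime), BijAt Q θ := by
    intro Q hQ hQp
    refine ⟨fun y => ⟨1, Q.primeCompl.one_mem, ?_⟩, fun v hv => ?_⟩
    · obtain ⟨x, rfl⟩ := hπ y
      exact ⟨Submodule.Quotient.mk x, (Submodule.liftQ_apply _ _ _).trans (one_smul P (π x)).symm⟩
    · obtain ⟨x, rfl⟩ := Submodule.Quotient.mk_surjective _ v
      obtain ⟨w, hw, hwx⟩ := hgen x hv Q hQ
      exact ⟨w, hw, by rw [← Submodule.Quotient.mk_smul, Submodule.Quotient.mk_eq_zero]; exact hwx⟩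
  have hqshadow : q ∈ RG.Near.shadow r₁ h := by
    obtain ⟨Q, hQ, hQq, hQr⟩ := RG.NhdPoint.exists_point (S := P) p r₁ q het₁
    exact ⟨Q, hQ, hh Q hQ hQq hQr, hQr.le, hQq⟩
  have hbij := hθ q hqshadow inferInstance
  have hflat₀ : Module.Flat A (LocalizedModule q.primeCompl N₀) := by
    refine (H19.FlatLocus.flat_iff_killed q.primeCompl (LocalizedModule.mkLinearMap q.primeCompl N₀)).2 fun J ξ hξ => ?_
    let θJ := TensorProduct.AlgebraTensorModule.rTensor A J θ
    have h0 : J.subtype.lTensor N (θJ ξ) = 0 := by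
      show J.subtype.lTensor N ((θ.restrictScalars A).rTensor J ξ) = 0
      rw [← LinearMap.comp_apply, LinearMap.lTensor_comp_rTensor, ← LinearMap.rTensor_comp_lTensor,
        LinearMap.comp_apply, hξ, map_zero]
    obtain ⟨w, hw, hwξ⟩ := (H19.FlatLocus.flat_iff_killed q.primeCompl
      (LocalizedModule.mkLinearMap q.primeCompl N)).1 hflat J _ h0
    obtain ⟨d, hd, hdξ⟩ := (RelAss.FlatAtPoint.bijAt_rTensor q hbij J).2 (w • ξ) (by rw [map_smul]; exact hwξ)
    exact ⟨d * w, q.primeCompl.mul_mem hd hw, by rw [mul_smul, hdξ]⟩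
  obtain ⟨R₂, _, _, r₂, hr₂, het₂, v, hv⟩ := RG.OpenMain.exists_chart p q hflat₀
  haveI := het₂.2.choose
  obtain ⟨r₃, hr₃, hr₃₂, hr₃₁⟩ := RG.NhdPoint.exists_point (S := R₂) p r₁ r₂ het₁
  haveI := hr₃
  let R₃ := R₂ ⊗[A] R₁
  have het₂₃ := RG.NhdPoint.isEtaleNhd p r₁ r₂ het₁ r₃ hr₃₂ hr₃₁
  have het₃ := RG.NhdPoint.trans het₂ het₂₃
  have hgood₃ := RG.OpenProj.good_push N₀ p r₂ r₃ q het₂ het₂₃ hv
  haveI : IsScalarTower A R₁ R₃ := IsScalarTower.of_algebraMap_eq fun a =>
    (AlgHom.commutes (Algebra.TensorProduct.includeRight : R₁ →ₐ[A] R₂ ⊗[A] R₁) a).symm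
  let σ : P ⊗[A] R₁ →ₐ[A] P ⊗[A] R₃ :=
    Algebra.TensorProduct.map (AlgHom.id A P) (IsScalarTower.toAlgHom A R₁ R₃)
  have hσl : ∀ x, σ (algebraMap P (P ⊗[A] R₁) x) = algebraMap P (P ⊗[A] R₃) x := fun x => RG.OpenProj.sig_left x
  have hσr : ∀ x, σ (inR x) = inR (algebraMap R₁ R₃ x) := fun x => RG.OpenProj.sig_inR x
  have hσ : ∀ Q : Ideal (P ⊗[A] R₃), Q.comap inR ≤ r₃ → (Q.comap σ.toRingHom).comap inR ≤ r₁ ∧
      (Q.comap σ.toRingHom).comap (algebraMap P (P ⊗[A] R₁)) = Q.comap (algebraMap P (P ⊗[A] R₃)) := by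
    intro Q hQ
    refine ⟨fun x hx => ?_, Ideal.ext fun x => ?_⟩
    · rw [← hr₃₁]
      refine hQ ?_
      show inR (algebraMap R₁ R₃ x) ∈ Q
      rw [← hσr]
      exact hx
    · show σ (algebraMap P _ x) ∈ Q ↔ _
      rw [hσl]
      rfl
  obtain ⟨R, _, _, _, _, r, hr, het₄, -, hgood⟩ := RG.OpenProj.exists_shrink N₀ p r₃ q het₃ hgood₃ (σ h)
    (fun Q hQ hQq hQr => hh (Q.comap σ.toRingHom) (hQ.comap _) ((hσ Q hQr.le).2.trans hQq) (Ideal.ext fun x => by
      show σ (inR x) ∈ Q ↔ _
      rw [hσr, ← hr₃₁, ← hQr]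
      rfl))
    1 r₃.primeCompl.one_mem
  obtain ⟨hw, hproj, hreg⟩ := hgood
  refine ⟨R, inferInstance, inferInstance, r, hr, RG.NhdPoint.trans het₃ het₄, N₀, inferInstance, inferInstance, θ,
    _, hw, hproj, ⟨hw, hproj, hreg⟩, inferInstance, fun Q hQ hwQ hQr hp => hθ _ ?_ hp⟩
  haveI := het₄.2.choose
  let Q₃ := Q.comap (RG.OpenProj.sig (R' := R₃) (R'' := R)).toRingHom
  have hQ₃r : Q₃.comap inR ≤ r₃ := fun x hx => by
    rw [r.over_def r₃]
    refine hQr ?_
    show inR (algebraMap R₃ R x) ∈ Q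
    rw [← RG.OpenProj.sig_inR]
    exact hx
  refine ⟨Q₃.comap σ.toRingHom, (hQ.comap _).comap _, fun hmem => hwQ ?_, (hσ Q₃ hQ₃r).1, ?_⟩
  · rw [map_mul]
    exact Q.mul_mem_left _ hmem
  · rw [(hσ Q₃ hQ₃r).2]
    refine Ideal.ext fun x => ?_
    show RG.OpenProj.sig (algebraMap P _ x) ∈ Q ↔ _
    rw [RG.OpenProj.sig_left]
    rfl

end Model

/-- Localizing at universally regular elements keeps the Mittag-Leffler property. -/
theorem ml_localized {R S : Type u} [CommRing R] [CommRing S] [Algebra R S] {M M' : Type u} [AddCommGroup M]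
    [Module S M] [Module R M] [IsScalarTower R S M] [AddCommGroup M'] [Module S M'] [Module R M']
    [IsScalarTower R S M'] (hM : CAlg.IsMittagLeffler R M) (W : Submonoid S)
    (hW : ∀ w ∈ W, ∀ (Q : Type u) [AddCommGroup Q] [Module R Q] (z : M ⊗[R] Q), w • z = 0 → z = 0)
    (f : M →ₗ[S] M') [IsLocalizedModule W f] : CAlg.IsMittagLeffler R M' := by
  intro ι Q _ _
  rw [injective_iff_map_eq_zero]
  intro x hx
  let F := TensorProduct.AlgebraTensorModule.rTensor R (∀ i, Q i) f
  haveI : IsLocalizedModule W F := IsLocalizedModule.rTensor W (R := R) (A := S) (N := ∀ i, Q i) f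
  obtain ⟨⟨z, ⟨w, hw⟩⟩, hz⟩ := IsLocalizedModule.surj W F x
  change w • x = F z at hz
  have hz0 : z = 0 := by
    refine (injective_iff_map_eq_zero _).1 (hM ι Q) z (funext fun i => ?_)
    let Fi := TensorProduct.AlgebraTensorModule.rTensor R (Q i) f
    haveI : IsLocalizedModule W Fi := IsLocalizedModule.rTensor W (R := R) (A := S) (N := Q i) f
    have hnat : ∀ v : M ⊗[R] (∀ i, Q i), Fi (TensorProduct.piRightHom R R M Q v i) =
        TensorProduct.piRightHom R R M' Q (F v) i := fun v => by
      induction v with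
      | zero => simp
      | tmul m q => simp [F, Fi]
      | add a b ha hb => simp only [map_add, Pi.add_apply, ha, hb]
    have hsm : ∀ (s : S) (v : M' ⊗[R] (∀ i, Q i)), TensorProduct.piRightHom R R M' Q (s • v) i =
        s • TensorProduct.piRightHom R R M' Q v i := fun s v => by
      induction v with
      | zero => simp
      | tmul m q => simp [TensorProduct.smul_tmul']
      | add a b ha hb => simp only [smul_add, map_add, Pi.add_apply, ha, hb]
    have h0 : Fi (TensorProduct.piRightHom R R M Q z i) = 0 := by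
      rw [hnat, ← hz, hsm, hx, Pi.zero_apply, smul_zero]
    obtain ⟨⟨v, hv⟩, hk⟩ := (IsLocalizedModule.eq_zero_iff W Fi).1 h0
    exact hW v hv (Q i) _ hk
  rw [hz0, map_zero] at hz
  refine ((Module.End.isUnit_iff _).1 (IsLocalizedModule.map_units F (⟨w, hw⟩ : W))).1 ?_
  show w • x = w • (0 : M' ⊗[R] (∀ i, Q i))
  rw [hz, smul_zero]

/-- Over a henselian local ring an elementary étale neighbourhood of the closed point has a section at the point. -/
theorem exists_section {A : Type u} [CommRing A] [HenselianLocalRing A] (R : Type u) [CommRing R] [Algebra A R]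
    (r : Ideal R) [r.IsPrime] (h : _root_.FlatCA.IsEtaleNhd A R (IsLocalRing.maximalIdeal A) r) :
    ∃ τ : R →ₐ[A] A, (IsLocalRing.maximalIdeal A).comap τ.toRingHom = r := by
  obtain ⟨het, hover, hbij⟩ := h
  haveI := het
  haveI := hover
  let m := IsLocalRing.maximalIdeal A
  haveI : HenselianRing A m := (Henselian.LocalRing.henselianLocalRing_iff_henselianRing).1 inferInstance
  let e : (A ⧸ m) ≃ₐ[A] m.ResidueField :=
    AlgEquiv.ofBijective (IsScalarTower.toAlgHom A (A ⧸ m) m.ResidueField) m.bijective_algebraMap_quotient_residueField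
  let φ : m.ResidueField ≃ₐ[A] r.ResidueField :=
    AlgEquiv.ofBijective (Ideal.ResidueField.mapₐ m r (Algebra.ofId A R) hover.over) hbij
  let σ : R →ₐ[A] A ⧸ m :=
    (e.symm.toAlgHom.comp φ.symm.toAlgHom).comp (IsScalarTower.toAlgHom A R r.ResidueField)
  obtain ⟨τ, hτ⟩ := (S0523.result A m).1 inferInstance R σ
  refine ⟨τ, Ideal.ext fun x => ?_⟩
  show τ x ∈ m ↔ _
  rw [← Ideal.Quotient.eq_zero_iff_mem (I := m),
    show Ideal.Quotient.mk m (τ x) = σ x from AlgHom.congr_fun hτ x]
  show e.symm (φ.symm (algebraMap R r.ResidueField x)) = 0 ↔ _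
  rw [EmbeddingLike.map_eq_zero_iff, EmbeddingLike.map_eq_zero_iff, Ideal.algebraMap_residueField_eq_zero]

section Chart

variable {A P R : Type u} [CommRing A] [IsLocalRing A] [CommRing P] [Algebra A P] [CommRing R] [Algebra A R]

/-- A chart over a trivial neighbourhood of the closed point makes the localisation at the point Mittag-Leffler. -/
theorem ml_of_good (hA : Function.Bijective (algebraMap A R)) (r : Ideal R) [r.IsPrime]
    (hr : r.comap (algebraMap A R) = IsLocalRing.maximalIdeal A) (q : Ideal P) [q.IsPrime]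
    (hq : q.comap (algebraMap A P) = IsLocalRing.maximalIdeal A) {N₀ : Type u} [AddCommGroup N₀] [Module P N₀]
    (v : P ⊗[A] R) (hgood : RG.OpenProj.Good N₀ r q v)
    {N₁ N : Type u} [AddCommGroup N₁] [Module P N₁] [AddCommGroup N] [Module P N] [Module A N] [IsScalarTower A P N]
    (f : N₁ →ₗ[P] N) [IsLocalizedModule q.primeCompl f] (θ : N₀ →ₗ[P] N₁) (hθ : BijAt q θ) :
    CAlg.IsMittagLeffler A N := by
  obtain ⟨hv, hproj, hreg⟩ := hgood
  haveI := hproj
  let φ : A ≃ₐ[A] R := AlgEquiv.ofBijective (Algebra.ofId A R) hA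
  let e : P ⊗[A] R →ₐ[A] P := Algebra.TensorProduct.lift (AlgHom.id A P)
    ((Algebra.ofId A P).comp φ.symm.toAlgHom) fun _ _ => Commute.all _ _
  have hel : ∀ c, e (algebraMap P (P ⊗[A] R) c) = c := fun c =>
    (Algebra.TensorProduct.lift_tmul _ _ _ c 1).trans (by rw [map_one, mul_one]; rfl)
  have hsurj : ∀ x : P ⊗[A] R, ∃ c : P, algebraMap P (P ⊗[A] R) c = x := fun x => by
    induction x using TensorProduct.induction_on with
    | zero => exact ⟨0, map_zero _⟩
    | add a b ha hb =>
      obtain ⟨a', rfl⟩ := ha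
      obtain ⟨b', rfl⟩ := hb
      exact ⟨a' + b', map_add _ _ _⟩
    | tmul c y =>
      obtain ⟨a, rfl⟩ := hA.2 y
      refine ⟨a • c, ?_⟩
      show (a • c) ⊗ₜ[A] (1 : R) = _
      rw [TensorProduct.smul_tmul, Algebra.algebraMap_eq_smul_one]
  have her : ∀ x, algebraMap P (P ⊗[A] R) (e x) = x := fun x => by
    obtain ⟨c, rfl⟩ := hsurj x
    rw [hel]
  let P₀ : Ideal (P ⊗[A] R) := q.comap e.toRingHom
  have hP₀q : P₀.comap (algebraMap P (P ⊗[A] R)) = q := Ideal.ext fun c => by
    show e _ ∈ q ↔ _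
    rw [hel]
  have hP₀r : P₀.comap inR = r := Ideal.ext fun y => by
    obtain ⟨a, rfl⟩ := hA.2 y
    show e (inR (algebraMap A R a)) ∈ q ↔ a ∈ r.comap (algebraMap A R)
    rw [RG.NhdPoint.inR_algebraMap, hel, hr, ← hq, Ideal.mem_comap]
  haveI : P₀.IsPrime := Ideal.IsPrime.comap _
  have hvq : e v ∉ q := hv P₀ inferInstance hP₀q hP₀r
  let X := Localization.Away v
  let W := Submonoid.powers (e v)
  have hPX : ∀ x, algebraMap (P ⊗[A] R) X x = algebraMap P X (e x) := fun x => by
    rw [IsScalarTower.algebraMap_apply P (P ⊗[A] R) X, her]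
  haveI hlocX : IsLocalization W X :=
    { map_units := by
        rintro ⟨_, j, rfl⟩
        show IsUnit (algebraMap P X (e v ^ j))
        rw [map_pow, ← hPX]
        exact (IsLocalization.Away.algebraMap_isUnit v).pow j
      surj := fun x => by
        obtain ⟨⟨a, ⟨_, j, rfl⟩⟩, hx⟩ := IsLocalization.surj (Submonoid.powers v) x
        refine ⟨⟨e a, ⟨e v ^ j, j, rfl⟩⟩, ?_⟩
        show x * algebraMap P X (e v ^ j) = algebraMap P X (e a)
        rw [← hPX, ← map_pow, ← hPX]
        exact hx
      exists_of_eq := fun {x y} h => by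
        rw [IsScalarTower.algebraMap_apply P (P ⊗[A] R) X, IsScalarTower.algebraMap_apply P (P ⊗[A] R) X] at h
        obtain ⟨⟨_, j, rfl⟩, hj⟩ := IsLocalization.exists_of_eq (M := Submonoid.powers v) h
        refine ⟨⟨e v ^ j, j, rfl⟩, ?_⟩
        have := congrArg e hj
        simp only [map_mul, map_pow, hel] at this
        exact this }
  let Y := RG.OpenProj.Model N₀ v
  let mk : N₀ →ₗ[P] Y := TensorProduct.mk P X N₀ 1
  haveI : IsLocalizedModule W mk :=
    (isLocalizedModule_iff_isBaseChange W X mk).2 (TensorProduct.isBaseChange P N₀ X)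
  have hunit : ∀ s : q.primeCompl, IsUnit (algebraMap P (Module.End P N) s) := IsLocalizedModule.map_units f
  have hW : W ≤ q.primeCompl := Submonoid.powers_le.2 hvq
  let F : Y →ₗ[P] N := IsLocalizedModule.lift W mk (f.comp θ) fun w => hunit ⟨w, hW w.2⟩
  have hF : ∀ m, F (mk m) = f (θ m) := fun m => IsLocalizedModule.lift_apply W mk _ _ m
  haveI : IsLocalizedModule q.primeCompl F :=
    { map_units := hunit
      surj := fun y => by
        obtain ⟨⟨n, ⟨s, hs⟩⟩, hy⟩ := IsLocalizedModule.surj q.primeCompl f y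
        obtain ⟨d, hd, m, hm⟩ := hθ.1 n
        refine ⟨⟨mk m, ⟨d * s, q.primeCompl.mul_mem hd hs⟩⟩, ?_⟩
        show (d * s) • y = F (mk m)
        rw [hF, hm, map_smul, mul_smul]
        exact congrArg (d • ·) hy
      exists_of_eq := fun {z₁ z₂} h => by
        obtain ⟨⟨m, ⟨s, hs⟩⟩, hm⟩ := IsLocalizedModule.surj W mk (z₁ - z₂)
        change s • (z₁ - z₂) = mk m at hm
        have h0 : f (θ m) = 0 := by rw [← hF, ← hm, map_smul, map_sub, h, sub_self, smul_zero]
        obtain ⟨⟨c, hc⟩, hcm⟩ := (IsLocalizedModule.eq_zero_iff q.primeCompl f).1 h0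
        change c • θ m = 0 at hcm
        obtain ⟨d, hd, hdm⟩ := hθ.2 (c • m) (by rw [map_smul]; exact hcm)
        refine ⟨⟨d * c * s, q.primeCompl.mul_mem (q.primeCompl.mul_mem hd hc) (hW hs)⟩, sub_eq_zero.1 ?_⟩
        show (d * c * s) • z₁ - (d * c * s) • z₂ = 0
        have e1 : (d * c * s) • z₁ - (d * c * s) • z₂ = (d * c) • (s • (z₁ - z₂)) := by
          rw [smul_smul (d * c) s, smul_sub]
        rw [e1, hm, ← map_smul, mul_smul, hdm, map_zero] }
  haveI : IsScalarTower A R X := IsScalarTower.of_algebraMap_eq fun a => by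
    rw [IsScalarTower.algebraMap_apply R (P ⊗[A] R) X, IsScalarTower.algebraMap_apply A (P ⊗[A] R) X]
    exact congrArg _ (RG.NhdPoint.inR_algebraMap (S := P) (R' := R) a).symm
  haveI : IsScalarTower A P X := inferInstance
  haveI : IsScalarTower A P Y := IsScalarTower.of_algebraMap_smul fun a z => by
    induction z using TensorProduct.induction_on with
    | zero => simp
    | add a b ha hb => simp only [smul_add, ha, hb]
    | tmul x y => rw [TensorProduct.smul_tmul', TensorProduct.smul_tmul', algebraMap_smul]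
  haveI : IsScalarTower A R Y := IsScalarTower.of_algebraMap_smul fun a z => by
    induction z using TensorProduct.induction_on with
    | zero => simp
    | add a b ha hb => simp only [smul_add, ha, hb]
    | tmul x y => rw [TensorProduct.smul_tmul', TensorProduct.smul_tmul', algebraMap_smul]
  haveI : Module.Free A R := Module.Free.of_equiv φ.toLinearEquiv
  obtain ⟨sp, hsp⟩ := (Module.projective_def (R := R) (P := Y)).1 hproj
  haveI : Module.Projective A Y := Module.Projective.of_split (sp.restrictScalars A)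
    ((Finsupp.linearCombination R (id : Y → Y)).restrictScalars A) (LinearMap.ext hsp)
  refine ml_localized (R := A) (S := P) (M := Y) Pure.Decomp.ml_of_projective q.primeCompl (fun c hc Q _ _ z hz => ?_) F
  -- regularity at the point
  letI : Module R Q := Module.compHom Q φ.symm.toRingHom
  haveI : IsScalarTower A R Q := IsScalarTower.of_algebraMap_smul fun a x => by
    show φ.symm (algebraMap A R a) • x = a • x
    rw [AlgEquiv.commutes]
    rfl
  haveI : TensorProduct.CompatibleSMul A R Y Q := ⟨fun y m n => by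
    obtain ⟨a, rfl⟩ := hA.2 y
    rw [algebraMap_smul, algebraMap_smul, TensorProduct.smul_tmul]⟩
  let E : Y ⊗[A] Q ≃ₗ[A] Y ⊗[R] Q := (TensorProduct.equivOfCompatibleSMul A R A Y Q).symm
  have hE : ∀ w : Y ⊗[A] Q, E (c • w) = algebraMap P X c • E w := fun w => by
    induction w using TensorProduct.induction_on with
    | zero => simp
    | add a b ha hb => simp only [smul_add, map_add, ha, hb]
    | tmul y x =>
      show E ((c • y) ⊗ₜ[A] x) = algebraMap P X c • (y ⊗ₜ[R] x)
      rw [TensorProduct.smul_tmul', algebraMap_smul]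
      rfl
  obtain ⟨s, hs, hsz⟩ := RG.ProjMod.killed_of_regular r (algebraMap P X c)
    (fun y hy => hreg P₀ inferInstance hP₀q hP₀r (algebraMap P (P ⊗[A] R) c) (fun h => hc (hP₀q.le h)) y
      (by rw [← IsScalarTower.algebraMap_apply P (P ⊗[A] R) X]; exact hy))
    Q (E z) (by rw [← hE, hz, map_zero])
  obtain ⟨a, rfl⟩ := hA.2 s
  have ha : IsUnit a := IsLocalRing.notMem_maximalIdeal.1 fun h => hs (hr.ge h)
  rw [algebraMap_smul, ← map_smul, EmbeddingLike.map_eq_zero_iff] at hsz
  rw [← one_smul A z, ← ha.val_inv_mul, mul_smul, hsz, smul_zero]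

end Chart

section Presentation

/-- A finite module over a localisation is the localisation of a finite submodule. -/
theorem exists_finite_sub {P B : Type u} [CommRing P] [CommRing B] [Algebra P B] (q : Ideal P) [q.IsPrime]
    (hunit : ∀ s, s ∉ q → IsUnit (algebraMap P B s))
    (hfrac : ∀ b : B, ∃ s ∉ q, ∃ c, algebraMap P B s * b = algebraMap P B c)
    (N : Type u) [AddCommGroup N] [Module B N] [Module P N] [IsScalarTower P B N] [Module.Finite B N] :
    ∃ N₁ : Submodule P N, Module.Finite P N₁ ∧ IsLocalizedModule q.primeCompl N₁.subtype := by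
  obtain ⟨k, g, hg⟩ := Module.Finite.exists_fin (R := B) (M := N)
  let N₁ : Submodule P N := Submodule.span P (Set.range g)
  have hN₁ : ∀ y : N, ∃ s ∉ q, s • y ∈ N₁ := fun y => by
    induction (hg ▸ Submodule.mem_top : y ∈ Submodule.span B (Set.range g)) using Submodule.span_induction with
    | mem z hz => exact ⟨1, q.primeCompl.one_mem, by rw [one_smul]; exact Submodule.subset_span hz⟩
    | zero => exact ⟨1, q.primeCompl.one_mem, by rw [smul_zero]; exact zero_mem _⟩
    | add a b _ _ ha hb =>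
      obtain ⟨s, hs, ha⟩ := ha
      obtain ⟨t, ht, hb⟩ := hb
      refine ⟨s * t, q.primeCompl.mul_mem hs ht, ?_⟩
      rw [smul_add]
      refine add_mem ?_ ?_
      · rw [mul_comm, mul_smul]; exact N₁.smul_mem _ ha
      · rw [mul_smul]; exact N₁.smul_mem _ hb
    | smul b z _ hz =>
      obtain ⟨s, hs, hz⟩ := hz
      obtain ⟨t, ht, c, hc⟩ := hfrac b
      refine ⟨t * s, q.primeCompl.mul_mem ht hs, ?_⟩
      have : (t * s) • b • z = c • s • z := by
        rw [← algebraMap_smul B (t * s), ← algebraMap_smul B c, ← algebraMap_smul B s z, smul_smul, smul_smul, map_mul,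
          ← hc]
        congr 1
        ring
      rw [this]
      exact N₁.smul_mem _ hz
  refine ⟨N₁, Module.Finite.span_of_finite P (Set.finite_range g), ?_⟩
  exact
    { map_units := fun s => (Module.End.isUnit_iff _).2 (by
        convert (hunit s s.2).smul_bijective (β := N) using 2 with y
        exact (algebraMap_smul B (s : P) y).symm)
      surj := fun y => by
        obtain ⟨s, hs, hy⟩ := hN₁ y
        exact ⟨⟨⟨_, hy⟩, ⟨s, hs⟩⟩, rfl⟩
      exists_of_eq := fun {a b} h => ⟨1, by rw [Subtype.ext h]⟩ }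

end Presentation

/-- The localisation at a point over the closed point of a finite flat module over a finitely presented algebra
over a henselian local ring is Mittag-Leffler. -/
theorem ml_of_localized {A P : Type u} [CommRing A] [HenselianLocalRing A] [CommRing P] [Algebra A P]
    [Algebra.FinitePresentation A P] (q : Ideal P) [q.IsPrime] [q.LiesOver (IsLocalRing.maximalIdeal A)]
    {N₁ N : Type u} [AddCommGroup N₁] [Module P N₁] [Module A N₁] [IsScalarTower A P N₁] [Module.Finite P N₁]
    [AddCommGroup N] [Module P N] [Module A N] [IsScalarTower A P N] [Module.Flat A N]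
    (f : N₁ →ₗ[P] N) [IsLocalizedModule q.primeCompl f] : CAlg.IsMittagLeffler A N := by
  have hflat : Module.Flat A (LocalizedModule q.primeCompl N₁) :=
    Module.Flat.of_linearEquiv ((IsLocalizedModule.iso q.primeCompl f).restrictScalars A)
  obtain ⟨R, _, _, r, hr, het, N₀, _, _, θ, w, -, -, hgood, -, hθ⟩ :=
    exists_model_good (P := P) N₁ (IsLocalRing.maximalIdeal A) q hflat
  haveI := het.1
  obtain ⟨τ, hτ⟩ := exists_section R r het
  letI : Algebra R A := τ.toRingHom.toAlgebra
  haveI : IsScalarTower A R A := IsScalarTower.of_algebraMap_eq fun a => (τ.commutes a).symm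
  haveI : Algebra.Etale R A := Algebra.Etale.of_restrictScalars (R := A) (A := R) (B := A)
  have hsec : _root_.FlatCA.IsEtaleNhd R A r (IsLocalRing.maximalIdeal A) := by
    have hover : (IsLocalRing.maximalIdeal A).LiesOver r := ⟨hτ.symm⟩
    haveI := hover
    refine ⟨inferInstance, hover, RingHom.injective _, fun z => ?_⟩
    obtain ⟨a, rfl⟩ := (IsLocalRing.maximalIdeal A).algebraMap_residueField_surjective z
    refine ⟨algebraMap R r.ResidueField (algebraMap A R a), ?_⟩
    rw [AlgHom.commutes, IsScalarTower.algebraMap_apply R A (IsLocalRing.maximalIdeal A).ResidueField,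
      ← IsScalarTower.algebraMap_apply A R A]
    rfl
  obtain ⟨P', hP', hP'q, hP'r⟩ := RG.NhdPoint.exists_point (S := P) (IsLocalRing.maximalIdeal A) r q het
  haveI := hP'
  have hθq : BijAt q θ := by
    have h := hθ P' hP' (hgood.1 P' hP' hP'q hP'r) hP'r.le (hP'.comap _)
    simpa only [hP'q] using h
  exact ml_of_good (R := A) Function.bijective_id (IsLocalRing.maximalIdeal A) (Ideal.comap_id _) q
    (q.over_def (IsLocalRing.maximalIdeal A)).symm _
    (RG.OpenProj.good_push N₀ (IsLocalRing.maximalIdeal A) r (IsLocalRing.maximalIdeal A) q het hsec hgood) f θ hθq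

/-- A flat finite module over a local algebra essentially of finite type over a henselian local ring is
Mittag-Leffler. -/
theorem isMittagLeffler {A B : Type u} [CommRing A] [HenselianLocalRing A] [CommRing B] [IsLocalRing B] [Algebra A B]
    [IsLocalHom (algebraMap A B)] [Algebra.EssFiniteType A B]
    (N : Type u) [AddCommGroup N] [Module B N] [Module A N] [IsScalarTower A B N] [Module.Finite B N]
    [Module.Flat A N] : CAlg.IsMittagLeffler A N := by
  let S₀ := Algebra.EssFiniteType.subalgebra A B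
  obtain ⟨n, π, hπ⟩ := Algebra.FiniteType.iff_quotient_mvPolynomial''.1 (inferInstance : Algebra.FiniteType A S₀)
  let P := MvPolynomial (Fin n) A
  letI : Algebra P B := (S₀.val.comp π).toRingHom.toAlgebra
  haveI : IsScalarTower A P B := IsScalarTower.of_algebraMap_eq fun a => ((S₀.val.comp π).commutes a).symm
  let q : Ideal P := (IsLocalRing.maximalIdeal B).comap (algebraMap P B)
  have hunit : ∀ s, s ∉ q → IsUnit (algebraMap P B s) := fun s hs => by
    by_contra hu
    exact hs ((IsLocalRing.mem_maximalIdeal _).2 hu)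
  haveI : q.LiesOver (IsLocalRing.maximalIdeal A) := ⟨Ideal.ext fun a => by
    show _ ↔ algebraMap P B (algebraMap A P a) ∈ IsLocalRing.maximalIdeal B
    rw [← IsScalarTower.algebraMap_apply, IsLocalRing.mem_maximalIdeal, IsLocalRing.mem_maximalIdeal,
      mem_nonunits_iff, mem_nonunits_iff, isUnit_map_iff]⟩
  have hfracB : ∀ b : B, ∃ s ∉ q, ∃ c, algebraMap P B s * b = algebraMap P B c := fun b => by
    obtain ⟨⟨x, ⟨y, hy⟩⟩, hxy⟩ := IsLocalization.surj (Algebra.EssFiniteType.submonoid A B) b
    obtain ⟨s, rfl⟩ := hπ y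
    obtain ⟨c, rfl⟩ := hπ x
    exact ⟨s, fun hs => (IsLocalRing.mem_maximalIdeal _).1 hs hy, c, (mul_comm _ _).trans hxy⟩
  letI : Module P N := Module.compHom N (algebraMap P B)
  haveI : IsScalarTower P B N := IsScalarTower.of_algebraMap_smul fun _ _ => rfl
  haveI : IsScalarTower A P N := IsScalarTower.of_algebraMap_smul fun a x => by
    rw [← algebraMap_smul B (algebraMap A P a) x, ← IsScalarTower.algebraMap_apply, algebraMap_smul]
  obtain ⟨N₁, hN₁, hloc⟩ := exists_finite_sub q hunit hfracB N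
  haveI := hN₁
  haveI := hloc
  exact ml_of_localized (A := A) (P := P) q N₁.subtype

end Groth.Agent.Lib.RG57.HenselML
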