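import Groth.Agent.Lib.RG.StepLemmas
import Groth.Agent.Lib.RG57.ContentProj

/-!
# Projectivity along complete dévissages

For a flat finitely presented module with a complete dévissage over a prime of the base, the step maps
are universally injective on a basic open neighbourhood of the prime, so that there the module is a
product of the free modules of the steps, each of which is projective over the base.
-/

set_option autoImplicit false
set_option linter.style.haveILetI false

universe u

open scoped TensorProduct
open CategoryTheory AlgebraicGeometry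

namespace Groth.Agent.Lib.RG57.DevissageProj

section Away

variable {R : Type u} [CommRing R]

/-- Flatness away from the zero set of `F`. -/
def FlatAway (F : R) (M : Type u) [AddCommGroup M] [Module R M] : Prop :=
  ∀ (J : Ideal R) (ξ : M ⊗[R] J), J.subtype.lTensor M ξ = 0 → ∃ k : ℕ, F ^ k • ξ = 0

/-- Universal injectivity away from the zero set of `F`. -/
def UIAway (F : R) {M N : Type u} [AddCommGroup M] [Module R M] [AddCommGroup N] [Module R N]
    (α : M →ₗ[R] N) : Prop :=
  ∀ (Q : Type u) [AddCommGroup Q] [Module R Q] (z : M ⊗[R] Q), α.rTensor Q z = 0 → ∃ k : ℕ, F ^ k • z = 0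

theorem UIAway.mono {F F' : R} {M N : Type u} [AddCommGroup M] [Module R M] [AddCommGroup N] [Module R N]
    {α : M →ₗ[R] N} (h : UIAway F α) (hF : F ∣ F') : UIAway F' α := fun Q _ _ z hz => by
  obtain ⟨k, hk⟩ := h Q z hz
  obtain ⟨c, rfl⟩ := hF
  exact ⟨k, by rw [mul_pow, mul_comm, mul_smul, hk, smul_zero]⟩

theorem FlatAway.mono {F F' : R} {M : Type u} [AddCommGroup M] [Module R M]
    (h : FlatAway F M) (hF : F ∣ F') : FlatAway F' M := fun J ξ hξ => by
  obtain ⟨k, hk⟩ := h J ξ hξ
  obtain ⟨c, rfl⟩ := hF
  exact ⟨k, by rw [mul_pow, mul_comm, mul_smul, hk, smul_zero]⟩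

theorem FlatAway.of_equiv {F : R} {M N : Type u} [AddCommGroup M] [Module R M] [AddCommGroup N] [Module R N]
    (h : FlatAway F M) (e : M ≃ₗ[R] N) : FlatAway F N := fun J ξ hξ => by
  have h1 : J.subtype.lTensor M (e.symm.toLinearMap.rTensor J ξ) = 0 := by
    rw [← LinearMap.comp_apply, LinearMap.lTensor_comp_rTensor, ← LinearMap.rTensor_comp_lTensor,
      LinearMap.comp_apply, hξ, map_zero]
  obtain ⟨k, hk⟩ := h J _ h1
  refine ⟨k, ?_⟩
  have h2 := congrArg (e.toLinearMap.rTensor J) hk
  rwa [map_smul, map_zero, ← LinearMap.comp_apply, ← LinearMap.rTensor_comp, e.comp_symm, LinearMap.rTensor_id,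
    LinearMap.id_apply] at h2

variable {B M : Type u} [CommRing B] [Algebra R B] [AddCommGroup M] [Module B M] [Module R M] [IsScalarTower R B M]

theorem pow_smul_eq {X : Type u} [AddCommGroup X] [Module B X] [Module R X] [IsScalarTower R B X] (F : R) (k : ℕ)
    (x : X) : algebraMap R B F ^ k • x = F ^ k • x := by
  rw [← map_pow, algebraMap_smul]

theorem FlatAway.flat_localized {F : R} (h : FlatAway F M) (W : Submonoid B) (hW : algebraMap R B F ∈ W) :
    Module.Flat R (LocalizedModule W M) :=
  (H19.FlatLocus.flat_iff_killed W (LocalizedModule.mkLinearMap W M)).2 fun J ξ hξ => by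
    obtain ⟨k, hk⟩ := h J ξ hξ
    exact ⟨_, pow_mem hW k, by rw [pow_smul_eq]; exact hk⟩

theorem flatAway_of_flat_localized {F : R}
    (h : Module.Flat R (LocalizedModule (Submonoid.powers (algebraMap R B F)) M)) : FlatAway F M := fun J ξ hξ => by
  obtain ⟨_, ⟨k, rfl⟩, hk⟩ := (H19.FlatLocus.flat_iff_killed (Submonoid.powers (algebraMap R B F))
    (LocalizedModule.mkLinearMap _ M)).1 h J ξ hξ
  exact ⟨k, by rw [← pow_smul_eq (B := B)]; exact hk⟩

end Away

section Step

variable {R B : Type u} [CommRing R] [CommRing B] [Algebra R B] [Algebra.Smooth R B]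
  (hB : _root_.FlatCA.GeomIrredFibres R B) (rr : Ideal R) [rr.IsPrime] [(rr.map (algebraMap R B)).IsPrime]
  {M : Type u} [AddCommGroup M] [Module B M] [Module R M] [IsScalarTower R B M] [Module.FinitePresentation B M]

include hB in
/-- One step of the dévissage on a basic open of the base. -/
theorem exists_step {F : R} (hF : F ∉ rr) (hflat : FlatAway F M) {r : ℕ} (α : (Fin r → B) →ₗ[B] M)
    (hα : Function.Bijective (α.baseChange (rr.map (algebraMap R B)).ResidueField)) :
    ∃ F' : R, F' ∉ rr ∧ F ∣ F' ∧ UIAway F' (α.restrictScalars R) ∧ FlatAway F' (M ⧸ LinearMap.range α) := by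
  have hgif := RG.Fibres.gif_of_smooth_of_geomIrred hB
  haveI : Module.Flat R B := inferInstance
  let P := rr.map (algebraMap R B)
  haveI hPl : P.LiesOver rr := by
    haveI := RG.Fibres.isDomain_of_smooth_of_geomIrred hB rr.ResidueField
    let K := RingHom.ker (Algebra.TensorProduct.includeRight : B →ₐ[R] rr.ResidueField ⊗[R] B).toRingHom
    refine ⟨le_antisymm Ideal.le_comap_map fun a ha => ?_⟩
    have hK : P ≤ K := Ideal.map_le_iff_le_comap.2 fun b hb => by
      show Algebra.TensorProduct.includeRight (R := R) (A := rr.ResidueField) (algebraMap R B b) = 0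
      rw [AlgHom.commutes, IsScalarTower.algebraMap_apply R rr.ResidueField (rr.ResidueField ⊗[R] B),
        Ideal.algebraMap_residueField_eq_zero.2 hb, map_zero]
    have h0 : Algebra.TensorProduct.includeRight (R := R) (A := rr.ResidueField) (algebraMap R B a) = 0 := hK ha
    rw [AlgHom.commutes, IsScalarTower.algebraMap_apply R rr.ResidueField (rr.ResidueField ⊗[R] B)] at h0
    exact Ideal.algebraMap_residueField_eq_zero.1 ((map_eq_zero_iff _ (RingHom.injective _)).1 h0)
  have hP : ∀ Q : Ideal B, ∀ _ : Q.IsPrime, Q.LiesOver rr → P ≤ Q := fun Q _ hQ =>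
    Ideal.map_le_iff_le_comap.2 (Q.over_def rr).le
  have hFP : algebraMap R B F ∈ P.primeCompl := fun h => hF (by rw [P.over_def rr]; exact h)
  have hb := RG.StepLemmas.bijAt_of_residue hgif rr P hP (hflat.flat_localized P.primeCompl hFP) α hα
  obtain ⟨g, hg, hui⟩ := RG.StepLemmas.exists_ui_away hgif rr P hP α hb
  refine ⟨F * g, fun h => (Ideal.IsPrime.mem_or_mem inferInstance h).elim hF hg, dvd_mul_right F g, ?_⟩
  have hUI : UIAway (F * g) (α.restrictScalars R) := by
    refine UIAway.mono (F := g) (fun Q _ _ z hz => ?_) (dvd_mul_left g F)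
    let W := Submonoid.powers (algebraMap R B g)
    haveI := IsLocalizedModule.rTensor W (R := R) (A := B) (N := Q) (LocalizedModule.mkLinearMap W (Fin r → B))
    let gF := TensorProduct.AlgebraTensorModule.rTensor R Q (LocalizedModule.mkLinearMap W (Fin r → B))
    let gM := TensorProduct.AlgebraTensorModule.rTensor R Q (LocalizedModule.mkLinearMap W M)
    have hcomm : ∀ w, ((LocalizedModule.map W α).restrictScalars R).rTensor Q (gF w) =
        gM ((α.restrictScalars R).rTensor Q w) := fun w => by
      induction w with
      | zero => simp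
      | add a b ha hb => simp only [map_add, ha, hb]
      | tmul a b =>
        simp only [gF, gM, TensorProduct.AlgebraTensorModule.rTensor_tmul, LinearMap.rTensor_tmul,
          LinearMap.coe_restrictScalars, LocalizedModule.mkLinearMap_apply, LocalizedModule.map_mk]
    have h1 : gF z = 0 := (LinearMap.lTensor_inj_iff_rTensor_inj _ _).1 (hui Q)
      (by rw [hcomm, hz, map_zero, map_zero])
    obtain ⟨⟨_, k, rfl⟩, hk⟩ := (IsLocalizedModule.eq_zero_iff W gF).1 h1
    exact ⟨k, (pow_smul_eq (B := B) g k z).symm.trans hk⟩
  refine ⟨hUI, flatAway_of_flat_localized (B := B) ?_⟩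
  haveI := (hflat.mono (dvd_mul_right F g)).flat_localized (Submonoid.powers (algebraMap R B (F * g)))
    (Submonoid.mem_powers _)
  refine RG.FlatStep.flat_coker_localized α _ fun Q _ _ z hz => ?_
  obtain ⟨k, hk⟩ := hUI Q z hz
  exact ⟨_, ⟨k, rfl⟩, (pow_smul_eq (F * g) k z).trans hk⟩

end Step

section FP

variable {B A M : Type u} [CommRing B] [CommRing A] [Algebra B A] [AddCommGroup M] [Module A M] [Module B M]
  [IsScalarTower B A M]

/-- Finite presentation passes along a surjection of rings. -/
theorem finitePresentation_of_surjective (hs : Function.Surjective (algebraMap B A))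
    [Module.FinitePresentation B M] : Module.FinitePresentation A M := by
  let m : A ⊗[B] M →ₗ[A] M := LinearMap.liftBaseChange A LinearMap.id
  have hm : Function.Bijective m := by
    refine ⟨(injective_iff_map_eq_zero m).2 fun z hz => ?_, fun x => ⟨1 ⊗ₜ x, by simp [m]⟩⟩
    obtain ⟨x, rfl⟩ : ∃ x : M, (1 : A) ⊗ₜ[B] x = z := by
      clear hz
      induction z using TensorProduct.induction_on with
      | zero => exact ⟨0, TensorProduct.tmul_zero _ _⟩
      | add a b ha hb =>
        obtain ⟨x, rfl⟩ := ha
        obtain ⟨y, rfl⟩ := hb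
        exact ⟨x + y, TensorProduct.tmul_add _ _ _⟩
      | tmul a x =>
        obtain ⟨b, rfl⟩ := hs a
        exact ⟨b • x, by rw [← TensorProduct.smul_tmul, Algebra.smul_def, mul_one]⟩
    simp [m] at hz
    rw [hz, TensorProduct.tmul_zero]
  exact Module.FinitePresentation.of_equiv (LinearEquiv.ofBijective m hm)

/-- Finite presentation passes to a ring over which the algebra is finite. -/
theorem finitePresentation_of_finite (R : Type u) [CommRing R] [Algebra R B] [Algebra R A] [IsScalarTower R B A]
    [Algebra.FiniteType R B] [Algebra.FinitePresentation R A] [Module.Finite B A]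
    [Module.FinitePresentation A M] : Module.FinitePresentation B M := by
  haveI : Algebra.FinitePresentation B A := Algebra.FinitePresentation.of_restrict_scalars_finitePresentation R B A
  haveI : Module.FinitePresentation B A := Module.FinitePresentation.of_finite_of_finitePresentation B A
  exact Module.FinitePresentation.trans B M A

end FP

section Form

variable {R : Type u} [CommRing R]

/-- A product of free modules over smooth algebras with geometrically irreducible fibres, each
projective over the base. -/
def HasForm (R : Type u) [CommRing R] (X : Type u) [AddCommGroup X] [Module R X] : Prop :=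
  ∃ (k : ℕ) (B : Fin k → Type u) (_ : ∀ i, CommRing (B i)) (_ : ∀ i, Algebra R (B i)) (r : Fin k → ℕ),
    (∀ i, Algebra.Smooth R (B i) ∧ _root_.FlatCA.GeomIrredFibres R (B i) ∧ Module.Projective R (B i)) ∧
    Nonempty (X ≃ₗ[R] (∀ i, Fin (r i) → B i))

theorem projective_pi {ι : Type} [Fintype ι] (M : ι → Type u) [∀ i, AddCommGroup (M i)] [∀ i, Module R (M i)]
    [∀ i, Module.Projective R (M i)] : Module.Projective R (∀ i, M i) := by
  classical
  exact Module.Projective.of_equiv (DFinsupp.linearEquivFunOnFintype (R := R) (M := M))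

theorem HasForm.projective {X : Type u} [AddCommGroup X] [Module R X] (h : HasForm R X) :
    Module.Projective R X := by
  obtain ⟨k, B, _, _, r, hB, ⟨e⟩⟩ := h
  haveI : ∀ i, Module.Projective R (Fin (r i) → B i) := fun i => by
    haveI := (hB i).2.2
    exact projective_pi _
  haveI := projective_pi (R := R) (fun i => Fin (r i) → B i)
  exact Module.Projective.of_equiv e.symm

theorem hasForm_single {X B : Type u} [AddCommGroup X] [Module R X] [CommRing B] [Algebra R B] [Algebra.Smooth R B]
    (hB : _root_.FlatCA.GeomIrredFibres R B) [Module.Projective R B] {r : ℕ} (e : X ≃ₗ[R] (Fin r → B)) :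
    HasForm R X :=
  ⟨1, fun _ => B, inferInstance, inferInstance, fun _ => r, fun _ => ⟨inferInstance, hB, inferInstance⟩,
    ⟨e.trans (LinearEquiv.funUnique (Fin 1) R (Fin r → B)).symm⟩⟩

theorem hasForm_cons {X Y B : Type u} [AddCommGroup X] [Module R X] [AddCommGroup Y] [Module R Y] [CommRing B]
    [Algebra R B] [Algebra.Smooth R B] (hB : _root_.FlatCA.GeomIrredFibres R B) [Module.Projective R B] {r : ℕ}
    (e : ((Fin r → B) × Y) ≃ₗ[R] X) (h : HasForm R Y) : HasForm R X := by
  obtain ⟨k, Bs, cBs, aBs, rs, hBs, ⟨eY⟩⟩ := h
  let B' : Fin (k + 1) → Type u := Fin.cases B Bs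
  letI cB' : ∀ i, CommRing (B' i) := fun i => Fin.cases (inferInstance : CommRing B) cBs i
  letI aB' : ∀ i, Algebra R (B' i) := fun i => by
    induction i using Fin.cases with
    | zero => exact (inferInstance : Algebra R B)
    | succ j => exact aBs j
  let r' : Fin (k + 1) → ℕ := Fin.cases r rs
  refine ⟨k + 1, B', cB', aB', r', fun i => ?_, ⟨?_⟩⟩
  · induction i using Fin.cases with
    | zero => exact ⟨inferInstanceAs (Algebra.Smooth R B), hB, inferInstanceAs (Module.Projective R B)⟩
    | succ j => exact hBs j
  · exact e.symm.trans (((LinearEquiv.refl R (Fin r → B)).prodCongr eY).trans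
      (Fin.consLinearEquiv R (fun i => Fin (r' i) → B' i)))

end Form

section BaseChange

variable {R : Type u} [CommRing R] (A : Type u) [CommRing A] [Algebra R A]

theorem geomIrredFibres_baseChange {B : Type u} [CommRing B] [Algebra R B] (h : _root_.FlatCA.GeomIrredFibres R B) :
    _root_.FlatCA.GeomIrredFibres A (A ⊗[R] B) :=
  MorphismProperty.of_isPullback (P := @GeometricallyIrreducible)
    ((isPullback_SpecMap_of_isPushout _ _ _ _ (CommRingCat.isPushout_tensorProduct R A B)).flip) h

theorem lTensor_injective_of_uiAway {F : R} (hF : IsUnit (algebraMap R A F)) {M N : Type u} [AddCommGroup M]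
    [Module R M] [AddCommGroup N] [Module R N] {α : M →ₗ[R] N} (h : UIAway F α) :
    Function.Injective (α.baseChange A) := by
  rw [LinearMap.baseChange_eq_ltensor]
  refine (LinearMap.lTensor_inj_iff_rTensor_inj _ _).2 ((injective_iff_map_eq_zero _).2 fun z hz => ?_)
  obtain ⟨k, hk⟩ := h A z hz
  have hu : IsUnit (algebraMap R A (F ^ k)) := by rw [map_pow]; exact hF.pow k
  let e : M ⊗[R] A ≃ₗ[R] M ⊗[R] A := LinearEquiv.lTensor M
    ((LinearEquiv.smulOfUnit hu.unit (R := A) (M := A)).restrictScalars R)
  have he : ∀ y, e y = F ^ k • y := fun y => by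
    induction y using TensorProduct.induction_on with
    | zero => simp
    | add a b ha hb => rw [map_add, ha, hb, smul_add]
    | tmul a b => rw [← TensorProduct.tmul_smul, Algebra.smul_def]; rfl
  exact e.injective (by rw [map_zero, he, hk])

end BaseChange

section Chain

variable {R S : Type u} [CommRing R] [CommRing S] [Algebra R S] [Algebra.FinitePresentation R S]
  {N : Type u} [AddCommGroup N] [Module S N] [Module R N] [IsScalarTower R S N] [Module.FinitePresentation S N]
  {rr : Ideal R} [rr.IsPrime] (D : _root_.FlatCA.CompleteDevissage R S N rr)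

omit [Algebra.FinitePresentation R S] [Module R N] [IsScalarTower R S N] [Module.FinitePresentation S N] in
theorem tower_prev (i : ℕ) : IsScalarTower R (D.B i) (D.M (i + 1)) :=
  IsScalarTower.of_algebraMap_smul fun a x => by
    rw [← algebraMap_smul (D.A (i + 1)) (algebraMap R (D.B i) a) x, ← IsScalarTower.algebraMap_apply,
      IsScalarTower.algebraMap_apply R (D.B (i + 1)) (D.A (i + 1)), algebraMap_smul, algebraMap_smul]

omit [Algebra.FinitePresentation R S] [Module R N] [IsScalarTower R S N] [Module.FinitePresentation S N] in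
theorem tower_zero : IsScalarTower R S (D.M 0) :=
  IsScalarTower.of_algebraMap_smul fun a x => by
    rw [← algebraMap_smul (D.A 0) (algebraMap R S a) x, ← IsScalarTower.algebraMap_apply,
      IsScalarTower.algebraMap_apply R (D.B 0) (D.A 0), algebraMap_smul, algebraMap_smul]

omit [Module R N] [IsScalarTower R S N] in
theorem finitePresentation_M : ∀ i, i < D.n → Module.FinitePresentation (D.B i) (D.M i)
  | 0, h => by
    haveI := D.smooth 0 h
    haveI := D.finiteBA 0 h
    haveI := D.fpSA
    haveI : Algebra.FinitePresentation R (D.A 0) := Algebra.FinitePresentation.trans R S (D.A 0)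
    haveI : Module.FinitePresentation S (D.M 0) := Module.FinitePresentation.of_equiv D.isoN
    haveI : Module.FinitePresentation (D.A 0) (D.M 0) := finitePresentation_of_surjective D.surjSA
    exact finitePresentation_of_finite (A := D.A 0) R
  | i + 1, h => by
    haveI := finitePresentation_M i (Nat.lt_of_succ_lt h)
    haveI := D.smooth i (Nat.lt_of_succ_lt h)
    haveI := D.smooth (i + 1) h
    haveI := D.finiteBA (i + 1) h
    haveI := D.fpBA' i h
    haveI : Algebra.FinitePresentation R (D.A (i + 1)) := Algebra.FinitePresentation.trans R (D.B i) (D.A (i + 1))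
    haveI : Module.FinitePresentation (D.B i) (D.M i ⧸ LinearMap.range (D.α i)) :=
      Module.finitePresentation_of_surjective (LinearMap.range (D.α i)).mkQ (Submodule.mkQ_surjective _)
        (by rw [Submodule.ker_mkQ]; exact Submodule.fg_range _)
    haveI : Module.FinitePresentation (D.B i) (D.M (i + 1)) := Module.FinitePresentation.of_equiv (D.isoCoker i h)
    haveI : Module.FinitePresentation (D.A (i + 1)) (D.M (i + 1)) := finitePresentation_of_surjective (D.surjBA' i h)
    exact finitePresentation_of_finite (A := D.A (i + 1)) R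

variable [Module.Flat R N]

theorem exists_uiAway : ∀ k, k < D.n → ∃ F : R, F ∉ rr ∧
    (∀ j ≤ k, UIAway F ((D.α j).restrictScalars R)) ∧ (k + 1 < D.n → FlatAway F (D.M (k + 1))) := by
  have hnext : ∀ k, k < D.n → ∀ F : R, F ∉ rr → FlatAway F (D.M k) → ∃ F' : R, F' ∉ rr ∧ F ∣ F' ∧
      UIAway F' ((D.α k).restrictScalars R) ∧ (k + 1 < D.n → FlatAway F' (D.M (k + 1))) := by
    intro k hk F hF hfl
    haveI := D.smooth k hk
    haveI := finitePresentation_M D k hk
    obtain ⟨F', h1, h2, h3, h4⟩ := exists_step (D.geomIrred k hk) rr hF hfl (D.α k) (D.fibreIso k hk)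
    haveI := tower_prev D k
    exact ⟨F', h1, h2, h3, fun h => h4.of_equiv ((D.isoCoker k h).restrictScalars R)⟩
  intro k
  induction k with
  | zero =>
    intro h
    haveI := tower_zero D
    have h1 : (1 : R) ∉ rr := fun h1 => Ideal.IsPrime.ne_top inferInstance ((Ideal.eq_top_iff_one _).2 h1)
    have h0 : FlatAway (1 : R) N := fun J ξ hξ =>
      ⟨0, by rw [pow_zero, one_smul]
             exact Module.Flat.lTensor_preserves_injective_linearMap _ J.injective_subtype (hξ.trans (map_zero _).symm)⟩
    obtain ⟨F', a, -, b, c⟩ := hnext 0 h 1 h1 (h0.of_equiv (D.isoN.restrictScalars R))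
    exact ⟨F', a, fun j hj => (Nat.le_zero.1 hj) ▸ b, c⟩
  | succ k ih =>
    intro h
    obtain ⟨F, hF, hui, hfl⟩ := ih (Nat.lt_of_succ_lt h)
    obtain ⟨F', a, hd, b, c⟩ := hnext (k + 1) h F hF (hfl h)
    refine ⟨F', a, fun j hj => ?_, c⟩
    rcases Nat.lt_or_eq_of_le hj with hj | rfl
    · exact (hui j (Nat.lt_succ_iff.1 hj)).mono hd
    · exact b

omit [Algebra.FinitePresentation R S] [Module.FinitePresentation S N] [Module.Flat R N] [Module R N]
  [IsScalarTower R S N] in
/-- Splitting along the steps once the step maps are universally injective. -/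
theorem hasForm_baseChange {F : R} (A : Type u) [CommRing A] [Algebra R A] (hF : IsUnit (algebraMap R A F))
    (hui : ∀ j, j < D.n → UIAway F ((D.α j).restrictScalars R)) :
    ∀ (k i : ℕ), i + k + 1 = D.n → HasForm A (A ⊗[R] D.M i) := by
  have hproj : ∀ i, i < D.n → Module.Projective A (A ⊗[R] D.B i) ∧ Algebra.Smooth A (A ⊗[R] D.B i) := fun i hi => by
    haveI := D.smooth i hi
    haveI : Module.Projective R (D.B i) := ContentProj.projective fun K _ _ =>
      RG.Fibres.isDomain_of_smooth_of_geomIrred (D.geomIrred i hi) K
    exact ⟨inferInstance, inferInstance⟩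
  intro k
  induction k with
  | zero =>
    intro i hi
    have hlt : i < D.n := by omega
    obtain ⟨hp, hs⟩ := hproj i hlt
    haveI := hp
    haveI := hs
    have hsurj : Function.Surjective (D.α i) := by
      have h := D.cokerLast
      rwa [show D.n - 1 = i by omega] at h
    let g := ((D.α i).restrictScalars R).baseChange A
    let e := LinearEquiv.ofBijective g ⟨lTensor_injective_of_uiAway A hF (hui i hlt),
      LinearMap.lTensor_surjective A hsurj⟩
    exact hasForm_single (geomIrredFibres_baseChange A (D.geomIrred i hlt))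
      (e.symm.trans (TensorProduct.piRight R A A fun _ : Fin (D.r i) => D.B i))
  | succ k ih =>
    intro i hi
    have hlt : i < D.n := by omega
    have hlt' : i + 1 < D.n := by omega
    obtain ⟨hp, hs⟩ := hproj i hlt
    haveI := hp
    haveI := hs
    have hY := ih (i + 1) (by omega)
    haveI := hY.projective
    haveI := tower_prev D i
    let g := ((D.α i).restrictScalars R).baseChange A
    let π : D.M i →ₗ[R] D.M (i + 1) :=
      (((D.isoCoker i hlt').toLinearMap).comp (LinearMap.range (D.α i)).mkQ).restrictScalars R
    have hπ : Function.Surjective π := (D.isoCoker i hlt').surjective.comp (Submodule.mkQ_surjective _)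
    have hex : Function.Exact ((D.α i).restrictScalars R) π := fun x => by
      show (D.isoCoker i hlt') (Submodule.Quotient.mk x) = 0 ↔ x ∈ Set.range (D.α i)
      rw [LinearEquiv.map_eq_zero_iff, Submodule.Quotient.mk_eq_zero]
      rfl
    let h := π.baseChange A
    have hh : Function.Surjective h := LinearMap.lTensor_surjective A hπ
    have hexA : Function.Exact g h := lTensor_exact A hex hπ
    have hginj : Function.Injective g := lTensor_injective_of_uiAway A hF (hui i hlt)
    obtain ⟨l, hl⟩ := Module.projective_lifting_property h LinearMap.id hh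
    have hl' : ∀ y, h (l y) = y := fun y => LinearMap.congr_fun hl y
    have hbij : Function.Bijective (g.coprod l) := by
      refine ⟨(injective_iff_map_eq_zero _).2 fun ⟨a, b⟩ hab => ?_, fun x => ?_⟩
      · rw [LinearMap.coprod_apply] at hab
        have hb : b = 0 := by
          have := congrArg h hab
          rwa [map_add, map_zero, (hexA (g a)).2 ⟨a, rfl⟩, zero_add, hl'] at this
        subst hb
        rw [map_zero, add_zero] at hab
        have ha : a = 0 := hginj (hab.trans (map_zero g).symm)
        rw [ha]
        rfl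
      · obtain ⟨a, ha⟩ := (hexA (x - l (h x))).1 (by rw [map_sub, hl', sub_self])
        exact ⟨(a, h x), by rw [LinearMap.coprod_apply, ha, sub_add_cancel]⟩
    exact hasForm_cons (geomIrredFibres_baseChange A (D.geomIrred i hlt))
      ((LinearEquiv.prodCongr (TensorProduct.piRight R A A fun _ : Fin (D.r i) => D.B i).symm
        (LinearEquiv.refl A _)).trans (LinearEquiv.ofBijective _ hbij)) hY

include D in
/-- A flat finitely presented module with a complete dévissage is a product of free modules over smooth
algebras with geometrically irreducible fibres, on a basic open of the base. -/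
theorem exists_hasForm :
    ∃ f : R, f ∉ rr ∧ HasForm (Localization.Away f) (Localization.Away f ⊗[R] N) := by
  obtain ⟨F, hF, hui, -⟩ := exists_uiAway D (D.n - 1) (Nat.sub_lt D.pos one_pos)
  refine ⟨F, hF, ?_⟩
  haveI := tower_zero D
  obtain ⟨k, B, _, _, r, hB, ⟨e⟩⟩ := hasForm_baseChange D (Localization.Away F)
    (IsLocalization.Away.algebraMap_isUnit F) (fun j hj => hui j (by omega)) (D.n - 1) 0 (by have := D.pos; omega)
  exact ⟨k, B, _, _, r, hB, ⟨(TensorProduct.AlgebraTensorModule.congr (LinearEquiv.refl (Localization.Away F) _)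
    (D.isoN.restrictScalars R)).trans e⟩⟩

end Chain

end Groth.Agent.Lib.RG57.DevissageProj
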