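import Groth.Agent.Lib.RelAss.FlatAtPoint
import Groth.Agent.Lib.RG.FibrePoint
import Groth.Agent.S1233

/-!
# Associated points of fibres along étale maps
-/

set_option autoImplicit false
set_option linter.style.haveILetI false

universe u

open scoped TensorProduct

namespace Groth.Agent.Lib.RG57.EtaleAssoc

open RelAss.FlatAtPoint (MinAt mem_weakAss_iff_exists assoc_iff_minAt)

theorem exists_minAt_equiv {S X Y : Type u} [CommRing S] [AddCommGroup X] [Module S X] [AddCommGroup Y] [Module S Y]
    (q : Ideal S) [q.IsPrime] (e : X ≃ₗ[S] Y) : (∃ z : X, MinAt q z) ↔ ∃ y : Y, MinAt q y :=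
  RelAss.FlatAtPoint.exists_minAt_iff (f := e.toLinearMap)
    ⟨fun y => ⟨1, q.primeCompl.one_mem, e.symm y, by simp⟩,
      fun v hv => ⟨1, q.primeCompl.one_mem, by rw [one_smul]; exact e.map_eq_zero_iff.1 hv⟩⟩

variable {R S S' : Type u} [CommRing R] [CommRing S] [CommRing S'] [Algebra R S] [Algebra R S'] [Algebra S S']
  [IsScalarTower R S S'] [Algebra.FiniteType R S] [Algebra.Etale S S']
  {N : Type u} [AddCommGroup N] [Module S N] [Module R N] [IsScalarTower R S N] [Module.Finite S N]
  {G : Type u} [AddCommGroup G] [Module S' G] [Module S G] [IsScalarTower S S' G] [Module R G]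
  [IsScalarTower R S' G] [IsScalarTower R S G]

/-- A point of an étale algebra is associated in its fibre iff the point below is. -/
theorem assoc_iff (f : N →ₗ[S] G) (hf : IsBaseChange S' f) (t : Ideal R) [t.IsPrime] (Q : Ideal S) [Q.IsPrime]
    [Q.LiesOver t] (Q' : Ideal S') [Q'.IsPrime] [Q'.LiesOver Q] [Q'.LiesOver t] :
    _root_.FlatCA.fiberIdeal t Q' ∈ associatedPrimes (t.Fiber S') (_root_.FlatCA.fiberMod t S' G) ↔
      _root_.FlatCA.fiberIdeal t Q ∈ associatedPrimes (t.Fiber S) (_root_.FlatCA.fiberMod t S N) := by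
  haveI : Algebra.FiniteType R S' := Algebra.FiniteType.trans (S := S) inferInstance inferInstance
  haveI : Module.Finite S' G := Module.Finite.of_surjective hf.equiv.toLinearMap hf.equiv.surjective
  rw [assoc_iff_minAt G t Q', assoc_iff_minAt N t Q,
    exists_minAt_equiv Q' (RG.FibrePoint.tensorEquiv f hf t.ResidueField),
    ← mem_weakAss_iff_exists, ← mem_weakAss_iff_exists]
  exact @S1233.result S S' _ _ _ _ (N ⊗[R] t.ResidueField) _ _ Q _ Q' _ _

end Groth.Agent.Lib.RG57.EtaleAssoc
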