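import Groth.Agent.Lib.RG57.FlatPtsStep
import Groth.Agent.Lib.RG57.HenselML
import Mathlib.RingTheory.Finiteness.ModuleFinitePresentation
import Mathlib.RingTheory.FiniteStability

/-!
# The flattening ideal at a point of the closed fibre over a henselian local ring
-/

set_option autoImplicit false
set_option linter.style.haveILetI false
set_option maxHeartbeats 400000

universe u

open IsLocalRing
open scoped TensorProduct

attribute [local instance] Algebra.TensorProduct.rightAlgebra

namespace Groth.Agent.Lib.RG57.FlatPtsInduct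

open FlatPts (FlatPts)

/-- A module of finite presentation over a ring is so over any quotient acting on it. -/
theorem fp_of_surjective {S C : Type u} [CommRing S] [CommRing C] [Algebra S C]
    (h : Function.Surjective (algebraMap S C)) (G : Type u) [AddCommGroup G] [Module S G] [Module C G]
    [IsScalarTower S C G] [Module.FinitePresentation S G] : Module.FinitePresentation C G := by
  classical
  obtain ⟨k, π, hπ⟩ := Module.Finite.exists_fin' S G
  obtain ⟨n, v, hv⟩ := Submodule.fg_iff_exists_fin_generating_family.1 (Module.FinitePresentation.fg_ker π hπ)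
  let Φ : (Fin k → C) →ₗ[C] G := Fintype.linearCombination C fun i => π (Pi.single i 1)
  let c : (Fin k → S) →ₗ[S] (Fin k → C) := LinearMap.pi fun i => (Algebra.linearMap S C).comp (LinearMap.proj i)
  have hc : ∀ x, Φ (c x) = π x := fun x => by
    rw [Fintype.linearCombination_apply]
    conv_rhs => rw [← Finset.univ_sum_single x, map_sum]
    refine Finset.sum_congr rfl fun i _ => ?_
    show algebraMap S C (x i) • _ = _
    rw [algebraMap_smul, ← map_smul, ← Pi.single_smul, smul_eq_mul, mul_one]
  have hcs : Function.Surjective c := fun y => by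
    choose x hx using fun i => h (y i)
    exact ⟨x, funext hx⟩
  refine Module.finitePresentation_of_surjective Φ (fun g => ?_) ?_
  · obtain ⟨x, rfl⟩ := hπ g
    exact ⟨c x, hc x⟩
  · have hker : LinearMap.ker Φ = Submodule.span C (Set.range fun l => c (v l)) := by
      refine le_antisymm (fun y hy => ?_) (Submodule.span_le.2 ?_)
      · obtain ⟨x, rfl⟩ := hcs y
        rw [LinearMap.mem_ker, hc] at hy
        have hx : x ∈ Submodule.span S (Set.range v) := hv ▸ hy
        obtain ⟨a, rfl⟩ := (Submodule.mem_span_range_iff_exists_fun S).1 hx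
        rw [map_sum]
        refine Submodule.sum_mem _ fun l _ => ?_
        rw [map_smul, ← algebraMap_smul C (a l)]
        exact Submodule.smul_mem _ _ (Submodule.subset_span ⟨l, rfl⟩)
      · rintro _ ⟨l, rfl⟩
        rw [SetLike.mem_coe, LinearMap.mem_ker, hc]
        exact LinearMap.mem_ker.1 (hv ▸ Submodule.subset_span (Set.mem_range_self l))
    rw [hker]
    exact Submodule.fg_span (Set.finite_range _)

/-- A module with vanishing fibre at the point is flat there after every base change. -/
theorem flatPts_of_zeroAt {A S : Type u} [CommRing A] [CommRing S] [Algebra A S] [Algebra.FiniteType A S]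
    {N : Type u} [AddCommGroup N] [Module S N] [Module A N] [IsScalarTower A S N] [Module.Finite S N]
    (p : Ideal A) [p.IsPrime] {q : Ideal S} [q.IsPrime] [q.LiesOver p] (h : RG.FibrePoint.ZeroAt p q N)
    (A' : Type u) [CommRing A'] [IsLocalRing A'] [Algebra A A'] : FlatPts A q N A' := by
  intro T _ _ _ _ _ _ _ X _ _ _ _ _ _ f hf Q _ hQq _
  have hX : ∀ x : X, ∃ w, w ∉ Q ∧ w • x = 0 := fun x => by
    induction x using hf.inductionOn with
    | zero => exact ⟨1, Q.primeCompl.one_mem, smul_zero _⟩
    | tmul n =>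
      obtain ⟨w, hw, hwn⟩ := RG.FibrePoint.eq_zero_of_zeroAt h n
      exact ⟨algebraMap S T w, fun hQ => hw (hQq.le hQ), by rw [algebraMap_smul, ← map_smul, hwn, map_zero]⟩
    | smul t x hx =>
      obtain ⟨w, hw, hwx⟩ := hx
      exact ⟨w, hw, by rw [smul_comm, hwx, smul_zero]⟩
    | add a b ha hb =>
      obtain ⟨wa, hwa, ha'⟩ := ha
      obtain ⟨wb, hwb, hb'⟩ := hb
      exact ⟨wa * wb, Q.primeCompl.mul_mem hwa hwb, by
        rw [smul_add, mul_smul, mul_smul wa wb b, hb', smul_zero, add_zero, smul_comm, ha', smul_zero]⟩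
  refine (H19.FlatLocus.flat_iff_killed Q.primeCompl (LocalizedModule.mkLinearMap Q.primeCompl X)).2
    fun J ξ h0 => ?_
  clear h0
  induction ξ with
  | zero => exact ⟨1, Q.primeCompl.one_mem, smul_zero _⟩
  | tmul a b =>
    obtain ⟨w, hw, hwa⟩ := hX a
    exact ⟨w, hw, by rw [TensorProduct.smul_tmul', hwa, TensorProduct.zero_tmul]⟩
  | add a b ha hb =>
    obtain ⟨wa, hwa, ha'⟩ := ha
    obtain ⟨wb, hwb, hb'⟩ := hb
    exact ⟨wa * wb, Q.primeCompl.mul_mem hwa hwb, by
      rw [smul_add, mul_smul, mul_smul wa wb b, hb', smul_zero, add_zero, smul_comm, ha', smul_zero]⟩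

/-- Over a henselian local ring, a dévissage reduces flatness after base change to a module over a smooth
algebra with integral fibres, over the same ring. -/
theorem exists_reduction {A : Type u} [CommRing A] [HenselianLocalRing A] {S : Type u} [CommRing S] [Algebra A S]
    [Algebra.FiniteType A S] (N : Type u) [AddCommGroup N] [Module S N] [Module A N] [IsScalarTower A S N]
    [Module.Finite S N] (q : Ideal S) [q.IsPrime] [q.LiesOver (maximalIdeal A)] (m : ℕ)
    (E : _root_.FlatCA.ElemDevissage A S N (maximalIdeal A) q m) :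
    ∃ (D : Type u) (_ : CommRing D) (_ : Algebra A D) (_ : Algebra.Smooth A D) (y : Ideal D) (_ : y.IsPrime)
      (_ : y.LiesOver (maximalIdeal A)) (G : Type u) (_ : AddCommGroup G) (_ : Module D G) (_ : Module A G)
      (_ : IsScalarTower A D G) (_ : Module.Finite D G),
      RG.Engine.GIF A D ∧ ringKrullDim ((maximalIdeal A).Fiber D) ≤ m ∧
      (∀ (A' : Type u) [CommRing A'] [IsLocalRing A'] [Algebra A A'] [IsLocalHom (algebraMap A A')],
        FlatPts A q N A' ↔ FlatPts A y G A') ∧
      (Algebra.FinitePresentation A S → Module.FinitePresentation S N → Module.FinitePresentation D G) := by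
  classical
  obtain ⟨hetR, hp'm, hresR⟩ := E.etaleR
  obtain ⟨hetS, hq'q, hresS⟩ := E.etaleS
  haveI := hetR
  haveI := hetS
  haveI := hp'm
  haveI := hq'q
  haveI := E.finiteDC
  haveI := E.finiteG
  haveI : Module.Flat S E.S' := inferInstance
  obtain ⟨τ, hτ⟩ := HenselML.exists_section E.R' E.p' E.etaleR
  letI : Algebra E.R' A := τ.toRingHom.toAlgebra
  haveI : IsScalarTower A E.R' A := .of_algebraMap_eq fun a => (τ.commutes a).symm
  haveI : Algebra.Etale E.R' A := Algebra.Etale.of_restrictScalars (R := A) (A := E.R') (B := A)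
  haveI : Module.Flat E.R' A := inferInstance
  have hover : (maximalIdeal A).LiesOver E.p' := ⟨hτ.symm⟩
  haveI := hover
  have hτ0 : ∀ x, x - algebraMap A E.R' (τ x) ∈ E.p' := fun x => by
    rw [← hτ]
    show τ (x - algebraMap A E.R' (τ x)) ∈ maximalIdeal A
    rw [map_sub, AlgHom.commutes]
    simp
  -- the residue field of the point of the base
  have hκ : Function.Bijective (Ideal.ResidueField.mapₐ E.p' (maximalIdeal A) (Algebra.ofId E.R' A) hover.over) := by
    refine ⟨RingHom.injective _, fun z => ?_⟩
    obtain ⟨a, rfl⟩ := (maximalIdeal A).algebraMap_residueField_surjective z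
    refine ⟨algebraMap E.R' E.p'.ResidueField (algebraMap A E.R' a), ?_⟩
    rw [AlgHom.commutes, IsScalarTower.algebraMap_apply E.R' A (maximalIdeal A).ResidueField,
      ← IsScalarTower.algebraMap_apply A E.R' A]
    rfl
  -- the residue field of the point of the étale algebra
  let eS := AlgEquiv.ofBijective (Ideal.ResidueField.mapₐ q E.q' (Algebra.ofId S E.S') hq'q.over) hresS
  let ψ₁ : E.S' →ₐ[S] q.ResidueField := eS.symm.toAlgHom.comp (IsScalarTower.toAlgHom S E.S' E.q'.ResidueField)
  have hψ₁ : RingHom.ker ψ₁.toRingHom = E.q' := Ideal.ext fun x => by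
    show eS.symm (algebraMap E.S' E.q'.ResidueField x) = 0 ↔ _
    rw [EmbeddingLike.map_eq_zero_iff, Ideal.algebraMap_residueField_eq_zero]
  -- the smooth algebra over the given ring
  haveI : Algebra.Smooth E.R' E.D := RG.Reduce.smooth_of_smoothRelDim E.smooth
  let D := A ⊗[E.R'] E.D
  haveI : Algebra.IsPushout E.R' A E.D D := inferInstance
  haveI : Module.Flat E.D D :=
    Module.Flat.isBaseChange E.R' E.D A D (Algebra.IsPushout.symm inferInstance).out
  let σ : A →ₐ[E.R'] E.y.ResidueField :=
    { ((algebraMap E.R' E.y.ResidueField).comp (algebraMap A E.R')) with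
      commutes' := fun x => by
        show algebraMap E.R' E.y.ResidueField (algebraMap A E.R' (τ x)) = _
        rw [eq_comm, ← sub_eq_zero, ← map_sub, IsScalarTower.algebraMap_apply E.R' E.D E.y.ResidueField,
          Ideal.algebraMap_residueField_eq_zero, ← Ideal.mem_comap, ← Ideal.under_def, ← Ideal.LiesOver.over (p := E.p')]
        exact hτ0 x }
  let χ : D →ₐ[E.R'] E.y.ResidueField :=
    Algebra.TensorProduct.lift σ (IsScalarTower.toAlgHom E.R' E.D E.y.ResidueField) fun _ _ => mul_comm _ _
  have hχD : ∀ x, χ (algebraMap E.D D x) = algebraMap E.D E.y.ResidueField x := fun x =>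
    (Algebra.TensorProduct.lift_tmul _ _ _ 1 x).trans (by rw [map_one, one_mul]; rfl)
  have hχA : ∀ a, χ (algebraMap A D a) = algebraMap E.R' E.y.ResidueField (algebraMap A E.R' a) := fun a =>
    (Algebra.TensorProduct.lift_tmul _ _ _ a 1).trans (by rw [map_one, mul_one]; rfl)
  let ψ₂ : D →ₐ[E.D] E.y.ResidueField := { χ.toRingHom with commutes' := hχD }
  let y : Ideal D := RingHom.ker ψ₂.toRingHom
  haveI : y.IsPrime := RingHom.ker_isPrime _
  have hyA : y.comap (algebraMap A D) = maximalIdeal A := Ideal.ext fun a => by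
    show χ (algebraMap A D a) = 0 ↔ _
    rw [hχA, IsScalarTower.algebraMap_apply E.R' E.D E.y.ResidueField, Ideal.algebraMap_residueField_eq_zero,
      ← Ideal.mem_comap, ← Ideal.under_def, ← Ideal.LiesOver.over (p := E.p'), ← Ideal.mem_comap, ← Ideal.under_def,
      ← Ideal.LiesOver.over (p := maximalIdeal A)]
  haveI : y.LiesOver (maximalIdeal A) := ⟨hyA.symm⟩
  let G := D ⊗[E.D] E.G
  haveI : Module.Finite E.D E.G := Module.Finite.trans E.C E.G
  refine ⟨D, inferInstance, inferInstance, inferInstance, y, inferInstance, inferInstance, G, inferInstance,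
    inferInstance, inferInstance, inferInstance, inferInstance,
    (RG.Fibres.gif_of_geomIntegral E.geomInt).baseChange A, ?_, fun A' _ _ _ _ => ?_, fun hS hN => ?_⟩
  · -- the dimension of the fibre
    let κA := (maximalIdeal A).ResidueField
    let e₁ : κA ⊗[A] D ≃+* κA ⊗[E.R'] E.D :=
      (Algebra.TensorProduct.cancelBaseChange E.R' A A κA E.D).toRingEquiv
    let eκ := AlgEquiv.ofBijective _ hκ
    let e₂ : E.p'.ResidueField ⊗[E.R'] E.D ≃+* κA ⊗[E.R'] E.D :=
      (Algebra.TensorProduct.congr eκ (AlgEquiv.refl : E.D ≃ₐ[E.R'] E.D)).toRingEquiv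
    rw [show ringKrullDim ((maximalIdeal A).Fiber D) = ringKrullDim (E.p'.Fiber E.D) from
      ringKrullDim_eq_of_ringEquiv (e₁.trans e₂.symm)]
    exact RG.Reduce.fibreDim_le E.smooth E.p'
  · -- the chain of equivalences
    letI : Algebra E.R' A' := ((algebraMap A A').comp (algebraMap E.R' A)).toAlgebra
    haveI : IsScalarTower E.R' A A' := .of_algebraMap_eq' rfl
    haveI : IsScalarTower A E.R' A' := .of_algebraMap_eq fun a => by
      show _ = algebraMap A A' (τ (algebraMap A E.R' a))
      rw [AlgHom.commutes]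
      rfl
    have hmA : (maximalIdeal A').comap (algebraMap A A') = maximalIdeal A :=
      ((IsLocalRing.local_hom_TFAE (algebraMap A A')).out 0 4).1 ‹IsLocalHom (algebraMap A A')›
    have hm₁ : (maximalIdeal A').comap (algebraMap E.R' A') = E.p' := by
      rw [IsScalarTower.algebraMap_eq E.R' A A', ← Ideal.comap_comap, hmA]
      exact hτ
    have hq'p : E.q'.comap (algebraMap E.R' E.S') = E.p' := (E.q'.over_def E.p').symm
    have h1 : FlatPts A q N A' ↔ FlatPts E.R' E.q' E.N' A' :=
      FlatPts.iff_nhd (R := A) (S := S) (R₂ := E.R') (S₂ := E.S') E.q' ψ₁ hψ₁ (hm₁.trans hq'p.symm)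
        (fun x => ⟨τ x, hq'p.symm ▸ hτ0 x⟩) E.N' E.f E.isBaseChange
    have h2 : FlatPts E.R' E.q' E.N' A' ↔ FlatPts E.R' E.q' E.G A' := FlatPts.iff_equiv E.iso
    haveI : Algebra.IsIntegral E.S' E.C := ⟨fun c => by
      obtain ⟨s, rfl⟩ := E.surjC c
      exact isIntegral_algebraMap⟩
    have h3 : FlatPts E.R' E.q' E.G A' ↔ FlatPts E.R' E.z E.G A' :=
      FlatPts.iff_finite E.z (E.z.over_def E.q').symm (fun z₁ _ h =>
        Ideal.comap_injective_of_surjective _ E.surjC (h.trans (E.z.over_def E.q'))) E.G
    haveI : Algebra.IsIntegral E.D E.C := Algebra.IsIntegral.of_finite _ _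
    have h4 : FlatPts E.R' E.y E.G A' ↔ FlatPts E.R' E.z E.G A' :=
      FlatPts.iff_finite E.z (E.z.over_def E.y).symm (fun z₁ hz₁ h => E.uniq z₁ ⟨h.symm⟩) E.G
    have h5 : FlatPts E.R' E.y E.G A' ↔ FlatPts A y G A' :=
      FlatPts.iff_nhd (R := E.R') (S := E.D) (R₂ := A) (S₂ := D) y ψ₂ rfl (hmA.trans hyA.symm)
        (fun x => ⟨algebraMap A E.R' x, by rw [← IsScalarTower.algebraMap_apply]; simp⟩) G
        (TensorProduct.mk E.D D E.G 1) (TensorProduct.isBaseChange E.D E.G D)
    exact h1.trans (h2.trans (h3.trans (h4.symm.trans h5)))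
  · haveI := hS
    haveI := hN
    haveI : Algebra.FinitePresentation A E.S' := Algebra.FinitePresentation.trans A S E.S'
    haveI := E.fpC
    haveI : Module.FinitePresentation E.S' E.N' := Module.FinitePresentation.of_equiv E.isBaseChange.equiv
    haveI : Module.FinitePresentation E.S' E.G := Module.FinitePresentation.of_equiv E.iso
    haveI : Module.FinitePresentation E.C E.G := fp_of_surjective E.surjC E.G
    haveI : Algebra.FinitePresentation E.R' E.C := by
      letI : Algebra A E.C := ((algebraMap E.R' E.C).comp (algebraMap A E.R')).toAlgebra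
      haveI : IsScalarTower A E.R' E.C := .of_algebraMap_eq' rfl
      haveI : IsScalarTower A E.S' E.C := .of_algebraMap_eq fun a => by
        show algebraMap E.R' E.C (algebraMap A E.R' a) = _
        rw [IsScalarTower.algebraMap_apply E.R' E.S' E.C, ← IsScalarTower.algebraMap_apply A E.R' E.S']
      haveI : Algebra.FinitePresentation A E.C := Algebra.FinitePresentation.trans A E.S' E.C
      exact Algebra.FinitePresentation.of_restrict_scalars_finitePresentation A E.R' E.C
    haveI : Algebra.FinitePresentation E.D E.C :=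
      Algebra.FinitePresentation.of_restrict_scalars_finitePresentation E.R' E.D E.C
    haveI : Module.FinitePresentation E.D E.C := Module.FinitePresentation.of_finite_of_finitePresentation E.D E.C
    haveI : Module.FinitePresentation E.D E.G := Module.FinitePresentation.trans E.D E.G E.C
    exact inferInstance

/-- The flattening ideal at a point, by induction on the dimension of the support of the fibre. -/
theorem exists_ideal_aux {A : Type u} [CommRing A] [HenselianLocalRing A] (n : ℕ) :
    ∀ (S : Type u) [CommRing S] [Algebra A S] [Algebra.FiniteType A S]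
      (N : Type u) [AddCommGroup N] [Module S N] [Module A N] [IsScalarTower A S N] [Module.Finite S N]
      (q : Ideal S) [q.IsPrime] [q.LiesOver (maximalIdeal A)], RG.Below.DimLT (maximalIdeal A) q N n →
      ∃ I : Ideal A, (∀ (A' : Type u) [CommRing A'] [IsLocalRing A'] [Algebra A A'] [IsLocalHom (algebraMap A A')],
        FlatPts A q N A' ↔ I.map (algebraMap A A') = ⊥) ∧
        (Algebra.FinitePresentation A S → Module.FinitePresentation S N → I.FG) := by
  induction n with
  | zero =>
    intro S _ _ _ N _ _ _ _ _ q _ _ h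
    exact ⟨⊥, fun A' _ _ _ _ => iff_of_true (flatPts_of_zeroAt _ (RG.Below.zeroAt_of_dimLT_zero h) A') Ideal.map_bot,
      fun _ _ => Submodule.fg_bot⟩
  | succ n ih =>
    intro S _ _ _ N _ _ _ _ _ q _ _ h
    rcases RG.Below.zeroAt_or_exists_dim h with h0 | ⟨x, hx, m, hxq, hmn, hdimm⟩
    · exact ⟨⊥, fun A' _ _ _ _ => iff_of_true (flatPts_of_zeroAt _ h0 A') Ideal.map_bot, fun _ _ => Submodule.fg_bot⟩
    obtain ⟨E⟩ := RG.ElemExist.exists_elemDevissage N (maximalIdeal A) q m x hxq hx hdimm
    obtain ⟨D, _, _, hsm, y, _, _, G, _, _, _, _, _, hgif, hdim, hiff, hfp⟩ := exists_reduction N q m E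
    haveI := hsm
    haveI hP : ((maximalIdeal A).map (algebraMap A D)).IsPrime :=
      FlatPtsStep.genPrime_eq_map A D ▸ (RG.StepModel.genPrime_isPrime (maximalIdeal A) hgif y).1
    obtain ⟨r, α, hα⟩ := RG.StepLemmas.exists_bijective_residue ((maximalIdeal A).map (algebraMap A D)) (N := G)
    obtain ⟨d, hd, hmem⟩ := FlatPtsStep.exists_denominator hgif α hα
    haveI := RG.Induct.isDomain_fiber hgif (maximalIdeal A) y
    have hdimC : RG.Below.DimLT (maximalIdeal A) y (G ⧸ LinearMap.range α) n := by
      refine (RG.Below.dimLT_of_killed hdim d (fun h0 => hd (FlatPtsStep.genPrime_eq_map A D ▸ h0)) fun z => ?_).mono hmn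
      obtain ⟨g, rfl⟩ := Submodule.Quotient.mk_surjective _ z
      rw [← Submodule.Quotient.mk_smul, Submodule.Quotient.mk_eq_zero]
      exact hmem g
    obtain ⟨J, hJ, hJfg⟩ := ih D (G ⧸ LinearMap.range α) y hdimC
    refine ⟨FlatPtsStep.stepIdeal hgif α ⊔ J, fun A' _ _ _ _ => ?_, fun hS hN => ?_⟩
    · rw [hiff, FlatPtsStep.step hgif y α hα, hJ, Ideal.map_sup, sup_eq_bot_iff]
    · haveI := hfp hS hN
      haveI : Module.FinitePresentation D (G ⧸ LinearMap.range α) :=
        Module.finitePresentation_of_surjective (LinearMap.range α).mkQ (Submodule.mkQ_surjective _) (by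
          rw [Submodule.ker_mkQ, LinearMap.range_eq_map]
          exact Module.Finite.fg_top.map α)
      exact Submodule.FG.sup (FlatPtsStep.stepIdeal_fg hgif α hα) (hJfg inferInstance inferInstance)

/-- The flattening ideal at a point of the closed fibre. -/
theorem exists_ideal {A : Type u} [CommRing A] [HenselianLocalRing A] {S : Type u} [CommRing S] [Algebra A S]
    [Algebra.FiniteType A S] (N : Type u) [AddCommGroup N] [Module S N] [Module A N] [IsScalarTower A S N]
    [Module.Finite S N] (q : Ideal S) [q.IsPrime] [q.LiesOver (maximalIdeal A)] :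
    ∃ I : Ideal A, (∀ (A' : Type u) [CommRing A'] [IsLocalRing A'] [Algebra A A'] [IsLocalHom (algebraMap A A')],
      FlatPts A q N A' ↔ I.map (algebraMap A A') = ⊥) ∧
      (Algebra.FinitePresentation A S → Module.FinitePresentation S N → I.FG) := by
  obtain ⟨n, hn⟩ := RG.Induct.exists_dimLT (N := N) (maximalIdeal A) q
  exact exists_ideal_aux n S N q hn

end Groth.Agent.Lib.RG57.FlatPtsInduct
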