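import Groth.Agent.Lib.RG57.FlatPtsChart
import Groth.Agent.Lib.RG57.FlatPtsInduct
import Groth.Agent.Lib.CohBasics.Affine
import Groth.Agent.Lib.Modules.AffineSections
import Groth.Agent.H46.FibreProf.PullFP

/-!
# The flattening ideal along a subset of the closed fibre
-/

set_option autoImplicit false
set_option linter.style.haveILetI false
set_option backward.isDefEq.respectTransparency false
set_option maxHeartbeats 400000

universe u

open CategoryTheory CategoryTheory.Limits AlgebraicGeometry Opposite TopologicalSpace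
open Groth.Agent.Lib Groth.Agent.Lib.QCoh Groth.Agent.Lib.Flat55
open IsLocalRing (maximalIdeal closedPoint)

namespace Groth.Agent.Lib.RG57.FlatAlong

section

variable {S X : Scheme.{u}} (f : X ⟶ S) (F : X.Modules) {T : Scheme.{u}} (g : T ⟶ S)

/-- The base change of `F` is flat at every point over `t` and over `E`. -/
def FlatAlong (E : Set X) (t : T) : Prop :=
  ∀ x' : ↑(pullback f g), (pullback.snd f g).base x' = t → (pullback.fst f g).base x' ∈ E →
    FlatMod.IsFlatOverAt (pullback.snd f g) ((Scheme.Modules.pullback (pullback.fst f g)).obj F) x'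

/-- Flatness along a subset may be checked over the local ring of the point. -/
theorem flatAlong_stalk_iff (E : Set X) (t : T) :
    FlatAlong f F g E t ↔
      FlatAlong f F (T.fromSpecStalk t ≫ g) E (closedPoint (T.presheaf.stalk t)) := by
  let k := T.fromSpecStalk t
  have : Flat k := Groth.Agent.H52.FBase.StalkBC.flat_fromSpecStalk t
  let pr : pullback f (k ≫ g) ⟶ pullback f g :=
    pullback.lift (pullback.fst f (k ≫ g)) (pullback.snd f (k ≫ g) ≫ k) (by rw [Category.assoc, pullback.condition])
  have hpr₁ : pr ≫ pullback.fst f g = pullback.fst f (k ≫ g) := pullback.lift_fst _ _ _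
  have hpr₂ : pr ≫ pullback.snd f g = pullback.snd f (k ≫ g) ≫ k := pullback.lift_snd _ _ _
  have hsq : IsPullback pr (pullback.snd f (k ≫ g)) (pullback.snd f g) k := by
    refine IsPullback.of_right ?_ hpr₂ (IsPullback.of_hasPullback f g)
    rw [hpr₁]
    exact IsPullback.of_hasPullback f (k ≫ g)
  have hkt : k (closedPoint (T.presheaf.stalk t)) = t := Scheme.fromSpecStalk_closedPoint
  let e : (Scheme.Modules.pullback pr).obj ((Scheme.Modules.pullback (pullback.fst f g)).obj F) ≅
      (Scheme.Modules.pullback (pullback.fst f (k ≫ g))).obj F :=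
    (Scheme.Modules.pullbackComp pr (pullback.fst f g)).app F ≪≫ (Scheme.Modules.pullbackCongr hpr₁).app F
  have hfst : ∀ z, (pullback.fst f g) (pr z) = pullback.fst f (k ≫ g) z :=
    fun z => by rw [← Scheme.Hom.comp_apply, hpr₁]
  have hsnd : ∀ z, (pullback.snd f g) (pr z) = k (pullback.snd f (k ≫ g) z) :=
    fun z => by rw [← Scheme.Hom.comp_apply, hpr₂, Scheme.Hom.comp_apply]
  constructor
  · intro h z hz hzE
    refine FlatOverAt.of_iso _ e z (FlatOverAt.isFlatOverAt_baseChange _ _ pr k hsq _ z (h (pr z) ?_ ?_))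
    · exact (hsnd z).trans ((congrArg _ hz).trans hkt)
    · exact (hfst z).symm ▸ hzE
  · intro h x' hx' hxE
    obtain ⟨w, hw₁, hw₂⟩ := Scheme.Pullback.exists_preimage_pullback (f := pullback.snd f g) (g := k) x'
      (closedPoint (T.presheaf.stalk t)) (hx'.trans hkt.symm)
    let z := hsq.isoPullback.inv w
    have hz₁ : pr z = x' := by rw [← Scheme.Hom.comp_apply, hsq.isoPullback_inv_fst, hw₁]
    have hz₂ : pullback.snd f (k ≫ g) z = closedPoint (T.presheaf.stalk t) := by
      rw [← Scheme.Hom.comp_apply, hsq.isoPullback_inv_snd, hw₂]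
    have h1 := h z hz₂ (by
      have h2 := hfst z
      rw [hz₁] at h2
      exact h2 ▸ hxE)
    rw [← hz₁]
    exact FlatOverAt.isFlatOverAt_of_baseChange _ _ pr k hsq _ z (Flat.stalkMap _ _) (FlatOverAt.of_iso _ e.symm z h1)

end

/-- The flattening ideal at one point of the closed fibre. -/
theorem exists_ideal_at {A : Type u} [CommRing A] [HenselianLocalRing A] {X : Scheme.{u}}
    (f : X ⟶ Spec (CommRingCat.of A)) [LocallyOfFiniteType f] (F : X.Modules) [F.IsQuasicoherent]
    (hF : CohB1.IsFT F) {x : X} (hx : f x = closedPoint A) :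
    ∃ I : Ideal A, (∀ (A' : Type u) [CommRing A'] [IsLocalRing A'] [Algebra A A'] [IsLocalHom (algebraMap A A')],
        FlatAlong f F (Spec.map (CommRingCat.ofHom (algebraMap A A'))) {x} (closedPoint A') ↔
          I.map (algebraMap A A') = ⊥) ∧
      (LocallyOfFinitePresentation f → CohB1.IsFP F → I.FG) := by
  obtain ⟨U, hU, hxU, -⟩ := exists_isAffineOpen_mem_and_subset (X := X) (x := x) (U := ⊤) trivial
  let ψ : CommRingCat.of A ⟶ Γ(X, U) := Spec.preimage (hU.fromSpec ≫ f)
  have hψ : Spec.map ψ = hU.fromSpec ≫ f := Spec.map_preimage _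
  letI : Algebra A Γ(X, U) := ψ.hom.toAlgebra
  letI : Module A Γ(F, U) := Module.compHom Γ(F, U) ψ.hom
  haveI : IsScalarTower A Γ(X, U) Γ(F, U) := .of_algebraMap_smul fun _ _ => rfl
  haveI : Algebra.FiniteType A Γ(X, U) := by
    have h : LocallyOfFiniteType (Spec.map ψ) := by rw [hψ]; infer_instance
    exact (HasRingHomProperty.Spec_iff (P := @LocallyOfFiniteType)).1 h
  haveI : SheafOfModules.IsFiniteType (R := X.ringCatSheaf) F := hF
  haveI : Module.Finite Γ(X, U) Γ(F, U) := CohBasics.Affine.finite_sections hU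
  let q := hU.primeIdealOf ⟨x, hxU⟩
  have hq : hU.fromSpec q = x := hU.fromSpec_primeIdealOf ⟨x, hxU⟩
  haveI : q.asIdeal.LiesOver (maximalIdeal A) := by
    have h1 : Spec.map ψ q = closedPoint A := by rw [hψ, Scheme.Hom.comp_apply, hq, hx]
    exact ⟨(congrArg PrimeSpectrum.asIdeal h1).symm⟩
  obtain ⟨I, hI, hfg⟩ := FlatPtsInduct.exists_ideal (A := A) Γ(F, U) q.asIdeal
  refine ⟨I, fun A' _ _ _ _ => ?_, fun hlfp hFP => hfg ?_ ?_⟩
  · exact (FlatPtsChart.chart_iff (A := CommRingCat.of A) f F hU hxU hψ.symm A').trans (hI A')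
  · have h : LocallyOfFinitePresentation (Spec.map ψ) := by rw [hψ]; infer_instance
    exact (HasRingHomProperty.Spec_iff (P := @LocallyOfFinitePresentation)).1 h
  · exact Modules.AffineSections.finitePresentation_sections hFP hU

/-- The flattening ideal along a subset of the closed fibre. -/
theorem exists_ideal {A : Type u} [CommRing A] [HenselianLocalRing A] {X : Scheme.{u}}
    (f : X ⟶ Spec (CommRingCat.of A)) [LocallyOfFiniteType f] (F : X.Modules) [F.IsQuasicoherent]
    (hF : CohB1.IsFT F) (E : Set X) (hE : ∀ x ∈ E, f x = closedPoint A) :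
    ∃ I : Ideal A,
      (∀ (T : Scheme.{u}) (g : T ⟶ Spec (CommRingCat.of A)) (t : T), g t = closedPoint A →
        (FlatAlong f F g E t ↔
          ∀ a ∈ I, (T.presheaf.germ ⊤ t trivial).hom
            (g.appTop.hom ((Scheme.ΓSpecIso (CommRingCat.of A)).inv.hom a)) = 0)) ∧
      (LocallyOfFinitePresentation f → CohB1.IsFP F → IsClosed E → IsCompact E → I.FG) := by
  choose J hJ hJfg using fun x : E => exists_ideal_at f F hF (hE x x.2)
  refine ⟨⨆ x, J x, fun T g t ht => ?_, fun hlfp hFP _ hEc => ?_⟩
  · rw [flatAlong_stalk_iff f F g E t]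
    let O := T.presheaf.stalk t
    let φ : CommRingCat.of A ⟶ O := Spec.preimage (T.fromSpecStalk t ≫ g)
    have hφ : Spec.map φ = T.fromSpecStalk t ≫ g := Spec.map_preimage _
    letI : Algebra A O := φ.hom.toAlgebra
    haveI : IsLocalHom (algebraMap A O) := by
      have h1 : Spec.map φ (closedPoint O) = closedPoint A := by
        rw [hφ, Scheme.Hom.comp_apply, Scheme.fromSpecStalk_closedPoint, ht]
      have h2 : (maximalIdeal O).comap (algebraMap A O) = maximalIdeal A := congrArg PrimeSpectrum.asIdeal h1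
      exact ((IsLocalRing.local_hom_TFAE _).out 0 4).2 h2
    have hrel : ∀ a, algebraMap A O a =
        T.presheaf.germ ⊤ t trivial (g.appTop ((Scheme.ΓSpecIso (CommRingCat.of A)).inv a)) := by
      intro a
      apply (Scheme.ΓSpecIso O).commRingCatIsoToRingEquiv.symm.injective
      have h1 := ConcreteCategory.congr_hom (Scheme.ΓSpecIso_inv_naturality φ) a
      rw [hφ] at h1
      simp only [Scheme.Hom.comp_appTop, Scheme.fromSpecStalk_appTop] at h1
      refine h1.trans ?_
      show _ = (Scheme.ΓSpecIso O).inv _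
      simp only [ConcreteCategory.comp_apply]
      rw [show ((homOfLE le_top : (⊤ : (Spec O).Opens) ⟶ ⊤).op) = 𝟙 _ from rfl, CategoryTheory.Functor.map_id]
      rfl
    have h0 : (∀ a ∈ ⨆ x, J x, T.presheaf.germ ⊤ t trivial (g.appTop ((Scheme.ΓSpecIso (CommRingCat.of A)).inv a)) = 0) ↔
        ∀ x, (J x).map (algebraMap A O) = ⊥ := by
      simp only [← hrel]
      rw [show (∀ a ∈ ⨆ x, J x, algebraMap A O a = 0) ↔ (⨆ x, J x) ≤ RingHom.ker (algebraMap A O) from
        forall_congr' fun a => by rw [RingHom.mem_ker], iSup_le_iff]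
      simp only [Ideal.map_eq_bot_iff_le_ker]
    rw [h0, ← hφ]
    exact ⟨fun h x => (hJ x O).1 fun z hz hzx => h z hz (Set.eq_of_mem_singleton hzx ▸ x.2),
      fun h z hz hzE => (hJ ⟨_, hzE⟩ O).2 (h _) z hz rfl⟩
  · let gq := fun y : E => Spec.map (CommRingCat.ofHom (algebraMap A (A ⧸ J y)))
    let W := fun y : E => {z | FlatMod.IsFlatOverAt (pullback.snd f (gq y))
      ((Scheme.Modules.pullback (pullback.fst f (gq y))).obj F) z}
    have hg : ∀ y, IsClosedImmersion (gq y) := fun y =>
      IsClosedImmersion.spec_of_surjective _ Ideal.Quotient.mk_surjective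
    let V := fun y : E => (pullback.fst f (gq y) '' (W y)ᶜ)ᶜ
    have hV : ∀ y, IsOpen (V y) := fun y => by
      haveI := hg y
      haveI : IsClosedImmersion (pullback.fst f (gq y)) := inferInstance
      haveI : SheafOfModules.IsFinitePresentation (R := (pullback f (gq y)).ringCatSheaf)
          ((Scheme.Modules.pullback (pullback.fst f (gq y))).obj F) :=
        Groth.Agent.H46.FibreProf.PullFP.isFP_pullback _ F hFP
      haveI := QCoh.Pullback.isQCoh_pullback (pullback.fst f (gq y)) F
      exact ((pullback.fst f (gq y)).isClosedEmbedding.isClosedMap _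
        (Groth.Agent.H19.FlatLocus.Scheme.isOpen_isFlatOverAt _ _).isClosed_compl).isOpen_compl
    have hle : ∀ y z : E, (z : X) ∈ V y → J z ≤ J y := by
      intro y z hz
      by_cases hy : J y = ⊤
      · rw [hy]; exact le_top
      haveI : Nontrivial (A ⧸ J y) := Ideal.Quotient.nontrivial_iff.2 hy
      haveI : IsLocalRing (A ⧸ J y) := .of_surjective' _ Ideal.Quotient.mk_surjective
      haveI : IsLocalHom (algebraMap A (A ⧸ J y)) :=
        IsLocalHom.of_surjective _ Ideal.Quotient.mk_surjective
      have h1 := (hJ z (A ⧸ J y)).1 fun w _ hw => by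
        by_contra hn
        exact hz ⟨w, hn, hw⟩
      rwa [Ideal.map_eq_bot_iff_le_ker, Ideal.Quotient.algebraMap_eq, Ideal.mk_ker] at h1
    have hself : ∀ y : E, (y : X) ∈ V y := by
      rintro y ⟨w, hw, hwy⟩
      apply hw
      have hne : J y ≠ ⊤ := fun hy => by
        haveI : Subsingleton (A ⧸ J y) := Ideal.Quotient.subsingleton_iff.2 hy
        exact (inferInstance : IsEmpty (PrimeSpectrum (A ⧸ J y))).false (pullback.snd f (gq y) w)
      haveI : Nontrivial (A ⧸ J y) := Ideal.Quotient.nontrivial_iff.2 hne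
      haveI : IsLocalRing (A ⧸ J y) := .of_surjective' _ Ideal.Quotient.mk_surjective
      haveI : IsLocalHom (algebraMap A (A ⧸ J y)) :=
        IsLocalHom.of_surjective _ Ideal.Quotient.mk_surjective
      refine (hJ y (A ⧸ J y)).2 (by rw [Ideal.Quotient.algebraMap_eq, Ideal.map_quotient_self]) w ?_ hwy
      haveI := hg y
      apply (gq y).isClosedEmbedding.injective
      calc gq y (pullback.snd f (gq y) w) = f (pullback.fst f (gq y) w) := by
            rw [← Scheme.Hom.comp_apply, ← pullback.condition, Scheme.Hom.comp_apply]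
        _ = closedPoint A := by rw [hwy, hE y y.2]
        _ = _ := (IsLocalRing.comap_closedPoint (algebraMap A (A ⧸ J y))).symm
    obtain ⟨s, hs⟩ := hEc.elim_finite_subcover V hV fun z hz => Set.mem_iUnion.2 ⟨⟨z, hz⟩, hself ⟨z, hz⟩⟩
    have heq : ⨆ x, J x = s.sup J := by
      refine le_antisymm (iSup_le fun z => ?_) (Finset.sup_le fun y _ => le_iSup J y)
      obtain ⟨y, hy, hzy⟩ := Set.mem_iUnion₂.1 (hs z.2)
      exact (hle y z hzy).trans (Finset.le_sup hy)
    rw [heq]
    exact Finset.sup_induction Submodule.fg_bot (fun _ ha _ hb => Submodule.FG.sup ha hb)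
      (fun y _ => hJfg y hlfp hFP)

end Groth.Agent.Lib.RG57.FlatAlong
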