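import Groth.Agent.S1201
import Groth.Agent.Lib.RelAss.BaseChange
import Groth.Agent.Lib.RelAss.Flatness
import Groth.Agent.Lib.Flat55.FlatOverAt
import Groth.Agent.Lib.AlgSpThick.FibreDim
import Groth.Agent.Lib.Modules.SupportOps
import Groth.Prelude.Def_FlatFun

/-!
# Flatness in dimensions at least `n` and etale maps of the source
-/

set_option autoImplicit false
set_option linter.style.haveILetI false
set_option backward.isDefEq.respectTransparency false

universe u

open CategoryTheory CategoryTheory.Limits AlgebraicGeometry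
open Groth.Agent.Lib Groth.Agent.Lib.Flat55
open Groth.Agent.Lib.Cyc

namespace Groth.Agent.Lib.RG57.FlatDimEtale

/-- A point of non flatness is the specialisation, in its fibre, of a relative associated one. -/
theorem exists_relAss_not_flat {X S : Scheme.{u}} (f : X ⟶ S) [LocallyOfFiniteType f] (F : X.Modules)
    [F.IsQuasicoherent] [SheafOfModules.IsFiniteType (R := X.ringCatSheaf) F] {x : X}
    (hx : ¬ FlatMod.IsFlatOverAt f F x) :
    ∃ z, z ⤳ x ∧ f z = f x ∧ z ∈ MoreMor.relAss f F ∧ ¬ FlatMod.IsFlatOverAt f F z := by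
  obtain ⟨W, hW, hxW, -⟩ := exists_isAffineOpen_mem_and_subset (U := (⊤ : S.Opens)) (x := f x) trivial
  obtain ⟨V, hV, hxV, e⟩ := exists_isAffineOpen_mem_and_subset (U := f ⁻¹ᵁ W) (x := x) hxW
  let _ := (f.appLE W V e).hom.toAlgebra
  haveI : Algebra.FiniteType Γ(S, W) Γ(X, V) := f.finiteType_appLE hW hV e
  letI : Module Γ(S, W) Γ(F, V) := Module.compHom Γ(F, V) (f.appLE W V e).hom
  haveI : IsScalarTower Γ(S, W) Γ(X, V) Γ(F, V) := IsScalarTower.of_algebraMap_smul fun _ _ => rfl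
  haveI : Module.Finite Γ(X, V) Γ(F, V) := CohBasics.Affine.finite_sections hV
  haveI := RelAss.Affine.liesOver_primeIdealOf f hW hV e hxV
  let p := (hW.primeIdealOf ⟨f x, e hxV⟩).asIdeal
  by_contra hn
  refine hx ((H19.FlatLocus.Scheme.isFlatOverAt_iff f F hW hV e hxV).2
    ((Groth.Agent.S1201.result Γ(F, V) p (hV.primeIdealOf ⟨x, hxV⟩).asIdeal).2 fun q hq hle hqp hass => ?_))
  haveI := hqp
  obtain ⟨z, hz, hzx, hzq⟩ := RelAss.Affine.exists_point f hW hV e (e hxV) q hqp
  subst hzq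
  by_contra hnf
  refine hn ⟨z, (RelAss.Affine.specializes_iff hV hz hxV).2 hle, hzx, ?_,
    fun h => hnf ((H19.FlatLocus.Scheme.isFlatOverAt_iff f F hW hV e hz).1 h)⟩
  have h1 := (Groth.Agent.Lib.FlatCA.FibreAss.assoc_iff Γ(F, V) p (hV.primeIdealOf ⟨z, hz⟩).asIdeal).1 hass
  refine (RelAss.Affine.mem_relAss_iff f hW hV e F hz).2 ?_
  have hp : hW.primeIdealOf ⟨f z, e hz⟩ = hW.primeIdealOf ⟨f x, e hxV⟩ := congrArg _ (Subtype.ext hzx)
  rw [hp]
  exact h1

variable {X X' S : Scheme.{u}} (f : X ⟶ S) (F : X.Modules) (h : X' ⟶ X) (T : Over S)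

/-- The map of base changes induced by a map of the sources. -/
noncomputable def pr : pullback (h ≫ f) T.hom ⟶ pullback f T.hom :=
  pullback.lift (pullback.fst (h ≫ f) T.hom ≫ h) (pullback.snd (h ≫ f) T.hom)
    (by rw [Category.assoc]; exact pullback.condition)

theorem pr_snd : pr f h T ≫ PicF.XTproj f T = PicF.XTproj (h ≫ f) T := pullback.lift_snd _ _ _

theorem pr_fst : pr f h T ≫ pullback.fst f T.hom = pullback.fst (h ≫ f) T.hom ≫ h := pullback.lift_fst _ _ _

theorem isPullback_pr : IsPullback (pullback.fst (h ≫ f) T.hom) (pr f h T) h (pullback.fst f T.hom) := by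
  refine IsPullback.of_bot ?_ (pr_fst f h T).symm (IsPullback.of_hasPullback f T.hom)
  rw [pr, pullback.lift_snd]
  exact IsPullback.of_hasPullback (h ≫ f) T.hom

/-- The pullback of the base change is the base change of the pullback. -/
noncomputable def ETiso : (Scheme.Modules.pullback (pr f h T)).obj (FGA.ET f F T) ≅
    FGA.ET (h ≫ f) ((Scheme.Modules.pullback h).obj F) T :=
  (Scheme.Modules.pullbackComp (pr f h T) (pullback.fst f T.hom)).app F ≪≫
    (Scheme.Modules.pullbackCongr (pr_fst f h T)).app F ≪≫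
    ((Scheme.Modules.pullbackComp (pullback.fst (h ≫ f) T.hom) h).app F).symm

variable [Etale h]

theorem etale_pr : Etale (pr f h T) := MorphismProperty.of_isPullback (isPullback_pr f h T) ‹_›

theorem isFlatOverAt_iff (x' : ↑(pullback (h ≫ f) T.hom)) :
    FlatMod.IsFlatOverAt (PicF.XTproj (h ≫ f) T) (FGA.ET (h ≫ f) ((Scheme.Modules.pullback h).obj F) T) x' ↔
      FlatMod.IsFlatOverAt (PicF.XTproj f T) (FGA.ET f F T) (pr f h T x') := by
  haveI := etale_pr f h T
  rw [← FlatOverAt.isFlatOverAt_pullback_iff (pr f h T) (PicF.XTproj f T) _ x' (Flat.stalkMap _ x'), pr_snd]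
  exact ⟨FlatOverAt.of_iso _ (ETiso f F h T).symm x', FlatOverAt.of_iso _ (ETiso f F h T) x'⟩

theorem trdegAt_eq (x' : ↑(pullback (h ≫ f) T.hom)) :
    Residue.trdegAt (PicF.XTproj (h ≫ f) T) x' = Residue.trdegAt (PicF.XTproj f T) (pr f h T x') := by
  haveI := etale_pr f h T
  have e := Residue.trdegAt_comp (pr f h T) (PicF.XTproj f T) x'
  rw [AlgSpThick.FibreDim.trdegAt_eq_zero (pr f h T) x', add_zero] at e
  rw [← e]
  exact FieldDim.trdegAt_congr (pr_snd f h T).symm x'

theorem dimFibresLT_pullback (n : ℕ)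
    (hT : FlatFun.DimFibresLT n (PicF.XTproj f T)
      {x | ¬ FlatMod.IsFlatOverAt (PicF.XTproj f T) (FGA.ET f F T) x}) :
    FlatFun.DimFibresLT n (PicF.XTproj (h ≫ f) T)
      {x | ¬ FlatMod.IsFlatOverAt (PicF.XTproj (h ≫ f) T) (FGA.ET (h ≫ f) ((Scheme.Modules.pullback h).obj F) T) x} := by
  intro x' hx'
  exact (trdegAt_eq f h T x').trans_lt (hT _ fun hfl => hx' ((isFlatOverAt_iff f F h T x').2 hfl))

theorem dimFibresLT_of_pullback [LocallyOfFiniteType f] [F.IsQuasicoherent] (hF : CohB1.IsFT F)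
    (hAss : MoreMor.relAss f F ⊆ Set.range h.base) (n : ℕ)
    (hT : FlatFun.DimFibresLT n (PicF.XTproj (h ≫ f) T)
      {x | ¬ FlatMod.IsFlatOverAt (PicF.XTproj (h ≫ f) T) (FGA.ET (h ≫ f) ((Scheme.Modules.pullback h).obj F) T) x}) :
    FlatFun.DimFibresLT n (PicF.XTproj f T)
      {x | ¬ FlatMod.IsFlatOverAt (PicF.XTproj f T) (FGA.ET f F T) x} := by
  intro x hx
  let q := PicF.XTproj f T
  haveI : LocallyOfFiniteType q := MorphismProperty.pullback_snd f T.hom ‹_›
  haveI : (FGA.ET f F T).IsQuasicoherent := QCoh.Pullback.isQCoh_pullback _ F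
  haveI : SheafOfModules.IsFiniteType (R := X.ringCatSheaf) F := hF
  haveI : SheafOfModules.IsFiniteType (R := (pullback f T.hom).ringCatSheaf) (FGA.ET f F T) :=
    Modules.SupportOps.isFT_pullback (pullback.fst f T.hom) F
  obtain ⟨z, hzx, hqz, hzA, hzn⟩ := exists_relAss_not_flat q (FGA.ET f F T) hx
  have h1 := RelAss.BaseChange.mem_relAss_of_baseChange (IsPullback.of_hasPullback f T.hom) F hzA
  obtain ⟨y, hy⟩ := hAss h1
  obtain ⟨w, -, hw⟩ := Scheme.Pullback.exists_preimage_pullback (f := h) (g := pullback.fst f T.hom) y z hy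
  let z' := (isPullback_pr f h T).isoPullback.inv w
  have hz' : pr f h T z' = z := by
    rw [← Scheme.Hom.comp_apply, (isPullback_pr f h T).isoPullback_inv_snd, hw]
  have h2 := hT z' fun hfl => hzn (hz' ▸ (isFlatOverAt_iff f F h T z').1 hfl)
  have h3 : Residue.trdegAt q z < n := by
    rw [← hz', ← trdegAt_eq]
    exact h2
  have h4 : Residue.trdegAt q x ≤ Residue.trdegAt q z := by
    rw [H46.FibreTrdeg.trdegAt_eq, H46.FibreTrdeg.trdegAt_eq]
    exact_mod_cast H46.FibreTrdeg.trd_le q hzx hqz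
  exact h4.trans_lt h3

end Groth.Agent.Lib.RG57.FlatDimEtale
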