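import Groth.Prelude.Def_FlatCA
import Groth.Agent.Lib.LocalFlat.UnivInjective
import Mathlib.RingTheory.Localization.BaseChange
import Mathlib.RingTheory.FiniteType
import Mathlib.RingTheory.IsTensorProduct

/-!
# Pure spreadouts of data defined over a field
-/

set_option autoImplicit false
set_option linter.style.haveILetI false

universe u

open scoped TensorProduct
open CategoryTheory

namespace Groth.Agent.Lib.RG57.SpreadCore

/-- Base change along the base of a pushout square restricts to base change along the bottom. -/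
theorem isBaseChange_restrict {k R Bk B1 : Type u} [CommRing k] [CommRing R] [CommRing Bk] [CommRing B1]
    [Algebra k R] [Algebra k Bk] [Algebra R B1] [Algebra Bk B1] [Algebra k B1] [IsScalarTower k R B1]
    [IsScalarTower k Bk B1] [Algebra.IsPushout k R Bk B1] {M N : Type u} [AddCommGroup M] [AddCommGroup N]
    [Module Bk M] [Module k M] [IsScalarTower k Bk M] [Module B1 N] [Module Bk N] [Module R N] [Module k N]
    [IsScalarTower Bk B1 N] [IsScalarTower R B1 N] [IsScalarTower k R N] [IsScalarTower k Bk N]
    {f : M →ₗ[Bk] N} (hf : IsBaseChange B1 f) : IsBaseChange R (f.restrictScalars k) := by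
  refine IsBaseChange.of_equiv
    ((Algebra.IsPushout.cancelBaseChange k R Bk B1 M).symm ≪≫ₗ hf.equiv.restrictScalars R) fun x => ?_
  simp [hf.equiv_tmul]

/-- A map out of a projective module over a local ring, injective on the closed fibre, stays so after tensoring. -/
theorem rTensor_injective {R : Type u} [CommRing R] [IsLocalRing R] {P : Type u} [AddCommGroup P] [Module R P]
    [Module.Projective R P] (f : P →ₗ[R] P)
    (hf : Function.Injective (f.lTensor (IsLocalRing.ResidueField R))) (Q : Type u) [AddCommGroup Q] [Module R Q] :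
    Function.Injective (f.rTensor Q) :=
  Lib.LocalFlat.UnivInjective.rTensor_injective_of_projective f hf Q

variable (k : Type u) [Field k] {Bk : Type u} [CommRing Bk] [Algebra k Bk]
  {Mk : Type u} [AddCommGroup Mk] [Module Bk Mk] [Module k Mk] [Module.Finite Bk Mk]
  {R : Type u} [CommRing R] [IsLocalRing R] [Algebra k R]
  {B1 : Type u} [CommRing B1] [Algebra R B1] [Algebra Bk B1] [Algebra k B1] [IsScalarTower k R B1]
  [IsScalarTower k Bk B1]
  {M1 : Type u} [AddCommGroup M1] [Module B1 M1] [Module Bk M1] [Module R M1] [Module k M1]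
  [IsScalarTower Bk B1 M1] [IsScalarTower R B1 M1]

/-- Multiplication by an element of the algebra, linear over the base. -/
noncomputable def mul (R : Type u) [CommRing R] {B : Type u} [CommRing B] [Algebra R B] (M : Type u)
    [AddCommGroup M] [Module B M] [Module R M] [IsScalarTower R B M] (s : B) : M →ₗ[R] M :=
  (LinearMap.lsmul B M s).restrictScalars R

theorem mul_apply (R : Type u) [CommRing R] {B : Type u} [CommRing B] [Algebra R B] {M : Type u}
    [AddCommGroup M] [Module B M] [Module R M] [IsScalarTower R B M] (s : B) (x : M) : mul R M s x = s • x := rfl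

-- the field of definition is not visible in the conclusion
include k in
/-- Data over a local algebra over a field, coming from the field, have a pure spreadout as soon as one element
of the monoid kills what the monoid kills on the closed fibre. -/
theorem hasPureSpreadout [Algebra.FiniteType k Bk] [Algebra.IsPushout k R Bk B1] [IsScalarTower k Bk Mk]
    [IsScalarTower k R M1] [IsScalarTower k Bk M1] {φ : Mk →ₗ[Bk] M1} (hφ : IsBaseChange B1 φ) (tk : Bk) (T1 : Submonoid B1)
    (htk : algebraMap Bk B1 tk ∈ T1)
    (N : Type u) [AddCommGroup N] [Module (Localization T1) N] [Module R N] [IsScalarTower R (Localization T1) N]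
    [Module B1 N] [IsScalarTower B1 (Localization T1) N] [IsScalarTower R B1 N]
    (ψ : M1 →ₗ[B1] N) [IsLocalizedModule T1 ψ]
    (hyp : ∀ s ∈ T1, ∀ y : IsLocalRing.ResidueField R ⊗[R] M1,
      (mul R M1 s).lTensor _ ((mul R M1 (algebraMap Bk B1 tk)).lTensor _ y) = 0 →
        (mul R M1 (algebraMap Bk B1 tk)).lTensor _ y = 0) :
    FlatCA.HasPureSpreadout R B1 T1 N := by
  classical
  haveI : IsNoetherianRing Bk := Algebra.FiniteType.isNoetherianRing k Bk
  let u0 : Mk →ₗ[Bk] Mk := LinearMap.lsmul Bk Mk tk
  let L0 : Submodule Bk Mk := LinearMap.range u0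
  let ι1 : L0 →ₗ[Bk] B1 ⊗[Bk] L0 := TensorProduct.mk Bk B1 L0 1
  have hι : IsBaseChange B1 ι1 := TensorProduct.isBaseChange Bk L0 B1
  haveI : IsNoetherian Bk Mk := inferInstance
  haveI : Module.FinitePresentation Bk L0 := Module.finitePresentation_of_finite Bk L0
  haveI : Module.FinitePresentation B1 (B1 ⊗[Bk] L0) := inferInstance
  letI : Module k (B1 ⊗[Bk] L0) := TensorProduct.leftModule
  haveI : IsScalarTower k R (B1 ⊗[Bk] L0) := ⟨fun a b z => by
    induction z using TensorProduct.induction_on with
    | zero => simp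
    | tmul x y => simp [TensorProduct.smul_tmul', smul_assoc]
    | add x y hx hy => simp only [smul_add, hx, hy]⟩
  have hPR : IsBaseChange R (ι1.restrictScalars k) := isBaseChange_restrict hι
  have hMR : IsBaseChange R (φ.restrictScalars k) := isBaseChange_restrict hφ
  haveI : Module.Free k (↥L0) := Module.Free.of_divisionRing k _
  haveI : Module.Projective R (B1 ⊗[Bk] L0) := Module.Projective.of_equiv hPR.equiv
  let j : B1 ⊗[Bk] L0 →ₗ[B1] M1 := hι.lift (φ.comp L0.subtype)
  let v : M1 →ₗ[B1] B1 ⊗[Bk] L0 := hφ.lift (ι1.comp u0.rangeRestrict)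
  have hj : ∀ x : L0, j (ι1 x) = φ (x : Mk) := fun x => hι.lift_eq _ x
  have hv : ∀ x : Mk, v (φ x) = ι1 (u0.rangeRestrict x) := fun x => hφ.lift_eq _ x
  -- a retraction of `j` over `R`
  obtain ⟨ρ, hρ⟩ := LinearMap.exists_leftInverse_of_injective (L0.subtype.restrictScalars k)
    (LinearMap.ker_eq_bot.2 Subtype.val_injective)
  let ρR : M1 →ₗ[R] B1 ⊗[Bk] L0 := hMR.lift ((ι1.restrictScalars k).comp ρ)
  have hρR : ρR.comp (j.restrictScalars R) = LinearMap.id := hPR.algHom_ext _ _ fun x => by
    show ρR (j (ι1 x)) = ι1 x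
    rw [hj]
    refine (hMR.lift_eq _ (x : Mk)).trans ?_
    show ι1 (ρ (x : Mk)) = ι1 x
    exact congrArg ι1 (LinearMap.congr_fun hρ x)
  have hjinj : Function.Injective j := fun a b hab => by
    have := congrArg ρR hab
    exact (LinearMap.congr_fun hρR a).symm.trans (this.trans (LinearMap.congr_fun hρR b))
  have hjv : j.comp v = LinearMap.lsmul B1 M1 (algebraMap Bk B1 tk) := hφ.algHom_ext _ _ fun x => by
    show j (v (φ x)) = algebraMap Bk B1 tk • φ x
    rw [hv, hj, algebraMap_smul, ← map_smul]
    rfl
  have hvsurj : Function.Surjective v := by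
    intro z
    induction z using TensorProduct.induction_on with
    | zero => exact ⟨0, map_zero v⟩
    | tmul b x =>
      obtain ⟨y, hy⟩ := u0.surjective_rangeRestrict x
      refine ⟨b • φ y, ?_⟩
      rw [map_smul, hv, hy]
      show b • ((1 : B1) ⊗ₜ[Bk] x) = _
      rw [TensorProduct.smul_tmul', smul_eq_mul, mul_one]
    | add a b ha hb =>
      obtain ⟨y, rfl⟩ := ha
      obtain ⟨z, rfl⟩ := hb
      exact ⟨y + z, map_add v y z⟩
  have hs : ∀ s ∈ T1, Function.Injective
      ((mul R (B1 ⊗[Bk] L0) s).lTensor (IsLocalRing.ResidueField R)) := by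
    intro s hsT
    refine (injective_iff_map_eq_zero _).2 fun z hz => ?_
    obtain ⟨y, rfl⟩ := LinearMap.lTensor_surjective _ (g := v.restrictScalars R) hvsurj z
    have hc : ((j.restrictScalars R).lTensor (IsLocalRing.ResidueField R))
        ((v.restrictScalars R).lTensor _ y) = (mul R M1 (algebraMap Bk B1 tk)).lTensor _ y := by
      rw [← LinearMap.comp_apply, ← LinearMap.lTensor_comp]
      congr 2
      exact LinearMap.ext fun m => LinearMap.congr_fun hjv m
    have hcomm : (j.restrictScalars R).comp (mul R (B1 ⊗[Bk] L0) s) =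
        (mul R M1 s).comp (j.restrictScalars R) := LinearMap.ext fun m => j.map_smul s m
    have h1 := congrArg ((j.restrictScalars R).lTensor (IsLocalRing.ResidueField R)) hz
    rw [map_zero, ← LinearMap.comp_apply, ← LinearMap.lTensor_comp, hcomm, LinearMap.lTensor_comp,
      LinearMap.comp_apply, hc] at h1
    have h2 := hyp s hsT y h1
    rw [← hc] at h2
    have h3 := congrArg (ρR.lTensor (IsLocalRing.ResidueField R)) h2
    rwa [map_zero, ← LinearMap.comp_apply, ← LinearMap.lTensor_comp, hρR, LinearMap.lTensor_id,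
      LinearMap.id_apply] at h3
  let g : B1 ⊗[Bk] L0 →ₗ[B1] N := ψ.comp j
  haveI hgloc : IsLocalizedModule T1 g := by
    refine ⟨IsLocalizedModule.map_units ψ, fun y => ?_, ?_⟩
    · obtain ⟨⟨m, s⟩, hms⟩ := IsLocalizedModule.surj T1 ψ y
      refine ⟨(v m, ⟨_, htk⟩ * s), ?_⟩
      show (⟨_, htk⟩ * s : T1) • y = ψ (j (v m))
      rw [mul_smul, show s • y = ψ m from hms, ← LinearMap.comp_apply j v, hjv]
      exact (map_smul ψ (algebraMap Bk B1 tk) m).symm
    · intro a b hab
      obtain ⟨c, hc⟩ := IsLocalizedModule.exists_of_eq (S := T1) (f := ψ) (show ψ (j a) = ψ (j b) from hab)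
      exact ⟨c, hjinj (by rw [Submonoid.smul_def, Submonoid.smul_def, map_smul, map_smul]; exact hc)⟩
  refine ⟨B1, inferInstance, Algebra.id B1, inferInstance, inferInstance, inferInstance, inferInstance,
    inferInstance, inferInstance, inferInstance, inferInstance, B1 ⊗[Bk] L0, inferInstance, inferInstance,
    inferInstance, inferInstance, g, ?_, inferInstance,
    (isLocalizedModule_iff_isBaseChange T1 (Localization T1) g).1 hgloc, inferInstance, ?_⟩
  · rw [show CommRingCat.ofHom (algebraMap B1 B1) = 𝟙 (CommRingCat.of B1) from rfl, AlgebraicGeometry.Spec.map_id]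
    infer_instance
  · intro Q _ _
    rw [LinearMap.lTensor_inj_iff_rTensor_inj, injective_iff_map_eq_zero]
    intro z hz
    obtain ⟨c, hc⟩ := (IsLocalizedModule.eq_zero_iff T1
      (TensorProduct.AlgebraTensorModule.rTensor R Q g)).1 hz
    refine rTensor_injective (mul R (B1 ⊗[Bk] L0) (c : B1)) (hs c c.2) Q ?_
    rw [map_zero, ← hc, Submonoid.smul_def]
    clear hz hc
    induction z using TensorProduct.induction_on with
    | zero => simp
    | tmul a b => rfl
    | add a b ha hb => simp only [map_add, smul_add, ha, hb]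

end Groth.Agent.Lib.RG57.SpreadCore
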