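import Groth.Agent.Lib.RG.Induct
import Groth.Agent.Lib.RG57.SpreadCore
import Mathlib.RingTheory.Etale.Basic

/-!
# Flatness of base changes at all points over a given point
-/

set_option autoImplicit false
set_option linter.style.haveILetI false
set_option maxHeartbeats 400000

universe u

open IsLocalRing
open scoped TensorProduct

attribute [local instance] Algebra.TensorProduct.rightAlgebra

namespace Groth.Agent.Lib.RG57.FlatPts

/-- The base change of `N` to the local algebra `A'` is flat at all points over `q` and over the closed point,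
in every model of the base change. -/
def FlatPts (R : Type u) {S : Type u} [CommRing R] [CommRing S] [Algebra R S] (q : Ideal S) (N : Type u)
    [AddCommGroup N] [Module S N] (A' : Type u) [CommRing A'] [IsLocalRing A'] [Algebra R A'] : Prop :=
  ∀ (T : Type u) [CommRing T] [Algebra A' T] [Algebra S T] [Algebra R T] [IsScalarTower R A' T]
    [IsScalarTower R S T] [Algebra.IsPushout R A' S T] (X : Type u) [AddCommGroup X] [Module T X] [Module S X]
    [Module A' X] [IsScalarTower S T X] [IsScalarTower A' T X] (f : N →ₗ[S] X), IsBaseChange T f →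
    ∀ (Q : Ideal T) [Q.IsPrime], Q.comap (algebraMap S T) = q →
      Q.comap (algebraMap A' T) = maximalIdeal A' → Module.Flat A' (LocalizedModule Q.primeCompl X)

/-- Flatness at equal primes. -/
theorem flat_congr {A' T X : Type u} [CommRing A'] [CommRing T] [AddCommGroup X] [Module T X] [Algebra A' T]
    [Module A' X] [IsScalarTower A' T X] {P Q : Ideal T} [P.IsPrime] [Q.IsPrime] (h : P = Q)
    (hP : Module.Flat A' (LocalizedModule P.primeCompl X)) : Module.Flat A' (LocalizedModule Q.primeCompl X) := by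
  subst h
  exact hP

section Models

variable {A' : Type u} [CommRing A'] [IsLocalRing A']
  {S₁ S₂ : Type u} [CommRing S₁] [CommRing S₂] [Algebra S₁ S₂]
  {N₁ : Type u} [AddCommGroup N₁] [Module S₁ N₁]
  {N₂ : Type u} [AddCommGroup N₂] [Module S₂ N₂] [Module S₁ N₂] [IsScalarTower S₁ S₂ N₂]
  {e : N₁ →ₗ[S₁] N₂} (he : IsBaseChange S₂ e)
  {T₁ : Type u} [CommRing T₁] [Algebra A' T₁] [Algebra S₁ T₁]
  {X₁ : Type u} [AddCommGroup X₁] [Module T₁ X₁] [Module S₁ X₁] [Module A' X₁] [IsScalarTower S₁ T₁ X₁]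
  [IsScalarTower A' T₁ X₁] {f₁ : N₁ →ₗ[S₁] X₁} (hf₁ : IsBaseChange T₁ f₁)
  {T₂ : Type u} [CommRing T₂] [Algebra A' T₂] [Algebra S₂ T₂] [Algebra T₁ T₂] [Algebra S₁ T₂]
  [IsScalarTower A' T₁ T₂] [IsScalarTower S₁ T₁ T₂] [IsScalarTower S₁ S₂ T₂] [Module.Flat T₁ T₂]
  {X₂ : Type u} [AddCommGroup X₂] [Module T₂ X₂] [Module S₂ X₂] [Module A' X₂] [IsScalarTower S₂ T₂ X₂]
  [IsScalarTower A' T₂ X₂] {f₂ : N₂ →ₗ[S₂] X₂} (hf₂ : IsBaseChange T₂ f₂)

include he hf₁ hf₂

/-- Flatness at a point of a model transfers along a flat map of models. -/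
theorem flat_iff_model (Q₂ : Ideal T₂) [Q₂.IsPrime] :
    Module.Flat A' (LocalizedModule (Q₂.comap (algebraMap T₁ T₂)).primeCompl X₁) ↔
      Module.Flat A' (LocalizedModule Q₂.primeCompl X₂) := by
  letI : Module T₁ X₂ := Module.compHom X₂ (algebraMap T₁ T₂)
  haveI : IsScalarTower T₁ T₂ X₂ := .of_algebraMap_smul fun _ _ => rfl
  letI : Module S₁ X₂ := Module.compHom X₂ (algebraMap S₁ T₂)
  haveI : IsScalarTower S₁ T₂ X₂ := .of_algebraMap_smul fun _ _ => rfl
  haveI : IsScalarTower S₁ T₁ X₂ := .of_algebraMap_smul fun s x => by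
    show algebraMap T₁ T₂ (algebraMap S₁ T₁ s) • x = algebraMap S₁ T₂ s • x
    rw [← IsScalarTower.algebraMap_apply]
  haveI : IsScalarTower S₁ S₂ X₂ := .of_algebraMap_smul fun s x => by
    rw [← algebraMap_smul T₂ (algebraMap S₁ S₂ s) x, ← IsScalarTower.algebraMap_apply]
    rfl
  haveI : IsScalarTower A' T₁ X₂ := .of_algebraMap_smul fun s x => by
    show algebraMap T₁ T₂ (algebraMap A' T₁ s) • x = s • x
    rw [← IsScalarTower.algebraMap_apply, algebraMap_smul]
  let g : X₁ →ₗ[T₁] X₂ := hf₁.lift ((f₂.restrictScalars S₁).comp e)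
  have hg : IsBaseChange T₂ g := by
    refine IsBaseChange.of_comp hf₁ ?_
    rw [hf₁.lift_comp]
    exact he.comp hf₂
  exact ⟨fun h => RG.FibrePoint.flatAt_up g hg _ Q₂ rfl h, fun h => RG.FibrePoint.flatAt_down g hg _ Q₂ rfl h⟩

end Models

/-- The map between models for an étale change of base and a flat change of algebra is flat. -/
theorem flat_models {R R₂ S S₂ A' T₁ U V T₂ : Type u} [CommRing R] [CommRing R₂] [CommRing S] [CommRing S₂]
    [CommRing A'] [CommRing T₁] [CommRing U] [CommRing V] [CommRing T₂]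
    [Algebra R R₂] [Algebra R S] [Algebra R S₂] [Algebra R A'] [Algebra R₂ S₂] [Algebra S S₂] [Algebra R₂ A']
    [IsScalarTower R R₂ S₂] [IsScalarTower R S S₂] [IsScalarTower R R₂ A']
    [Algebra A' T₁] [Algebra S T₁] [Algebra R T₁] [IsScalarTower R A' T₁] [IsScalarTower R S T₁]
    [Algebra A' U] [Algebra S₂ U] [Algebra R U] [IsScalarTower R A' U] [IsScalarTower R S₂ U]
    [Algebra A' V] [Algebra R₂ V] [Algebra R V] [IsScalarTower R A' V] [IsScalarTower R R₂ V]
    [Algebra A' T₂] [Algebra S₂ T₂] [Algebra R₂ T₂] [IsScalarTower R₂ A' T₂] [IsScalarTower R₂ S₂ T₂]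
    [Algebra.IsPushout R S A' T₁] [Algebra.IsPushout R S₂ A' U] [Algebra.IsPushout R R₂ A' V]
    [Algebra.IsPushout R₂ A' S₂ T₂] [Algebra.Etale R R₂] [Algebra.Etale A' V] [Module.Flat S S₂]
    (i : T₁ →ₐ[A'] U) (hi : ∀ x, i (algebraMap S T₁ x) = algebraMap S₂ U (algebraMap S S₂ x))
    (w : V →ₐ[A'] U) (hw : ∀ x, w (algebraMap R₂ V x) = algebraMap S₂ U (algebraMap R₂ S₂ x))
    (v : V →ₐ[A'] A') (hv : ∀ x, v (algebraMap R₂ V x) = algebraMap R₂ A' x)
    (k : U →ₐ[A'] T₂) (hk : ∀ x, k (algebraMap S₂ U x) = algebraMap S₂ T₂ x)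
    (hkw : ∀ z, k (w z) = algebraMap A' T₂ (v z)) :
    RingHom.Flat (k.toRingHom.comp i.toRingHom) := by
  letI : Algebra T₁ U := i.toRingHom.toAlgebra
  letI : Algebra V U := w.toRingHom.toAlgebra
  letI : Algebra V A' := v.toRingHom.toAlgebra
  letI : Algebra U T₂ := k.toRingHom.toAlgebra
  letI : Algebra T₁ T₂ := (k.toRingHom.comp i.toRingHom).toAlgebra
  haveI : IsScalarTower T₁ U T₂ := .of_algebraMap_eq' rfl
  haveI : IsScalarTower A' T₁ U := .of_algebraMap_eq fun x => (i.commutes x).symm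
  haveI : IsScalarTower A' V U := .of_algebraMap_eq fun x => (w.commutes x).symm
  haveI : IsScalarTower A' V A' := .of_algebraMap_eq fun x => (v.commutes x).symm
  haveI : IsScalarTower A' U T₂ := .of_algebraMap_eq fun x => (k.commutes x).symm
  haveI : IsScalarTower S₂ U T₂ := .of_algebraMap_eq fun x => (hk x).symm
  haveI : IsScalarTower R₂ V A' := .of_algebraMap_eq fun x => (hv x).symm
  letI : Algebra S U := ((algebraMap S₂ U).comp (algebraMap S S₂)).toAlgebra
  haveI : IsScalarTower S S₂ U := .of_algebraMap_eq' rfl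
  haveI : IsScalarTower S T₁ U := .of_algebraMap_eq fun x => (hi x).symm
  haveI : IsScalarTower R T₁ U := .of_algebraMap_eq fun x => by
    rw [IsScalarTower.algebraMap_apply R A' T₁, ← IsScalarTower.algebraMap_apply A' T₁ U,
      ← IsScalarTower.algebraMap_apply]
  letI : Algebra R₂ U := ((algebraMap S₂ U).comp (algebraMap R₂ S₂)).toAlgebra
  haveI : IsScalarTower R₂ S₂ U := .of_algebraMap_eq' rfl
  haveI : IsScalarTower R₂ V U := .of_algebraMap_eq fun x => (hw x).symm
  haveI : IsScalarTower R V U := .of_algebraMap_eq fun x => by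
    rw [IsScalarTower.algebraMap_apply R A' V, ← IsScalarTower.algebraMap_apply A' V U,
      ← IsScalarTower.algebraMap_apply]
  letI : Algebra V T₂ := ((algebraMap A' T₂).comp (algebraMap V A')).toAlgebra
  haveI : IsScalarTower V A' T₂ := .of_algebraMap_eq' rfl
  haveI : IsScalarTower V U T₂ := .of_algebraMap_eq fun x => (hkw x).symm
  haveI : IsScalarTower R₂ U T₂ := .of_algebraMap_eq fun x => by
    rw [IsScalarTower.algebraMap_apply R₂ S₂ U, ← IsScalarTower.algebraMap_apply S₂ U T₂,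
      ← IsScalarTower.algebraMap_apply]
  haveI : Algebra.Etale V A' := Algebra.Etale.of_restrictScalars (R := A') (A := V) (B := A')
  haveI : Module.Flat T₁ U := by
    haveI : Algebra.IsPushout S S₂ T₁ U := (Algebra.IsPushout.comp_iff R S A' T₁).1 inferInstance
    exact Module.Flat.isBaseChange S T₁ S₂ U (Algebra.IsPushout.symm inferInstance).out
  haveI : Module.Flat U T₂ := by
    haveI : Algebra.IsPushout R₂ S₂ V U := (Algebra.IsPushout.comp_iff R R₂ A' V).1 inferInstance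
    haveI : Algebra.IsPushout R₂ V S₂ U := Algebra.IsPushout.symm inferInstance
    haveI : Algebra.IsPushout V A' U T₂ := (Algebra.IsPushout.comp_iff R₂ V S₂ U).1 inferInstance
    exact Module.Flat.isBaseChange V U A' T₂ (Algebra.IsPushout.symm inferInstance).out
  exact Module.Flat.trans T₁ U T₂

variable {R S : Type u} [CommRing R] [CommRing S] [Algebra R S] {q : Ideal S}
  {N : Type u} [AddCommGroup N] [Module S N] {A' : Type u} [CommRing A'] [IsLocalRing A'] [Algebra R A']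

/-- One model decides. -/
theorem iff_model (T : Type u) [CommRing T] [Algebra A' T] [Algebra S T] [Algebra R T] [IsScalarTower R A' T]
    [IsScalarTower R S T] [Algebra.IsPushout R A' S T] (X : Type u) [AddCommGroup X] [Module T X] [Module S X]
    [Module A' X] [IsScalarTower S T X] [IsScalarTower A' T X] (f : N →ₗ[S] X) (hf : IsBaseChange T f) :
    FlatPts R q N A' ↔ ∀ (Q : Ideal T) [Q.IsPrime], Q.comap (algebraMap S T) = q →
      Q.comap (algebraMap A' T) = maximalIdeal A' → Module.Flat A' (LocalizedModule Q.primeCompl X) := by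
  refine ⟨fun h => h T X f hf, fun h T₂ _ _ _ _ _ _ hpo X₂ _ _ _ _ _ _ f₂ hf₂ Q _ hQq hQm => ?_⟩
  let a : A' →ₐ[R] T₂ := IsScalarTower.toAlgHom R A' T₂
  let b : S →ₐ[R] T₂ := IsScalarTower.toAlgHom R S T₂
  let φ : T →ₐ[R] T₂ := Algebra.pushoutDesc T a b fun _ _ => mul_comm _ _
  have hφa : ∀ x, φ (algebraMap A' T x) = algebraMap A' T₂ x := fun x => Algebra.pushoutDesc_left T a b _ x
  have hφb : ∀ x, φ (algebraMap S T x) = algebraMap S T₂ x := fun x => Algebra.pushoutDesc_right T a b _ x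
  letI : Algebra T T₂ := φ.toRingHom.toAlgebra
  haveI : IsScalarTower A' T T₂ := .of_algebraMap_eq fun x => (hφa x).symm
  haveI : IsScalarTower S T T₂ := .of_algebraMap_eq fun x => (hφb x).symm
  haveI : IsScalarTower R T T₂ := .of_algebraMap_eq fun x => (φ.commutes x).symm
  haveI : Algebra.IsPushout A' A' T T₂ := by
    haveI := hpo
    haveI : Algebra.IsPushout R S A' T := Algebra.IsPushout.symm inferInstance
    haveI : Algebra.IsPushout R A' S T₂ := hpo
    exact (Algebra.IsPushout.comp_iff R A' S T).1 hpo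
  haveI : Module.Flat T T₂ := Module.Flat.isBaseChange A' T A' T₂ (Algebra.IsPushout.symm inferInstance).out
  have hQ₁ := h (Q.comap (algebraMap T T₂))
    (by rw [Ideal.comap_comap, ← IsScalarTower.algebraMap_eq, hQq])
    (by rw [Ideal.comap_comap, ← IsScalarTower.algebraMap_eq, hQm])
  exact (flat_iff_model (e := LinearMap.id) (IsBaseChange.ofEquiv (LinearEquiv.refl S N)) hf hf₂ Q).1 hQ₁

/-- The canonical model decides. -/
theorem iff_canonical :
    FlatPts R q N A' ↔ ∀ (Q : Ideal (A' ⊗[R] S)) [Q.IsPrime], Q.comap (algebraMap S (A' ⊗[R] S)) = q →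
      Q.comap (algebraMap A' (A' ⊗[R] S)) = maximalIdeal A' →
      Module.Flat A' (LocalizedModule Q.primeCompl ((A' ⊗[R] S) ⊗[S] N)) :=
  iff_model (A' ⊗[R] S) ((A' ⊗[R] S) ⊗[S] N) (TensorProduct.mk S (A' ⊗[R] S) N 1) (TensorProduct.isBaseChange S N _)

/-- Étale changes of the base, between given models. -/
theorem nhd_aux {R₂ S₂ : Type u} [CommRing R₂] [CommRing S₂] [Algebra R R₂] [Algebra R₂ S₂] [Algebra R S₂]
    [Algebra S S₂] [IsScalarTower R R₂ S₂] [IsScalarTower R S S₂]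
    [Algebra R₂ A'] [IsScalarTower R R₂ A'] [q.IsPrime] (q₂ : Ideal S₂) (ψ : S₂ →ₐ[S] q.ResidueField)
    (hψ : RingHom.ker ψ.toRingHom = q₂) (hm : (maximalIdeal A').comap (algebraMap R₂ A') = q₂.comap (algebraMap R₂ S₂))
    (hres : ∀ x : R₂, ∃ a : R, x - algebraMap R R₂ a ∈ q₂.comap (algebraMap R₂ S₂))
    (N₂ : Type u) [AddCommGroup N₂] [Module S₂ N₂] [Module S N₂] [IsScalarTower S S₂ N₂]
    (e : N →ₗ[S] N₂) (he : IsBaseChange S₂ e)
    {T₁ : Type u} [CommRing T₁] [Algebra A' T₁] [Algebra S T₁] [Algebra R T₁] [IsScalarTower R A' T₁]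
    [IsScalarTower R S T₁] [Algebra.IsPushout R A' S T₁]
    {T₂ : Type u} [CommRing T₂] [Algebra A' T₂] [Algebra S₂ T₂] [Algebra R₂ T₂] [IsScalarTower R₂ A' T₂]
    [IsScalarTower R₂ S₂ T₂] [Algebra.IsPushout R₂ A' S₂ T₂]
    [Algebra T₁ T₂] [Module.Flat T₁ T₂] [IsScalarTower A' T₁ T₂] [Algebra S T₂] [IsScalarTower S T₁ T₂]
    [IsScalarTower S S₂ T₂]
    {X₁ : Type u} [AddCommGroup X₁] [Module T₁ X₁] [Module S X₁] [Module A' X₁] [IsScalarTower S T₁ X₁]
    [IsScalarTower A' T₁ X₁] {f₁ : N →ₗ[S] X₁} (hf₁ : IsBaseChange T₁ f₁)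
    {X₂ : Type u} [AddCommGroup X₂] [Module T₂ X₂] [Module S₂ X₂] [Module A' X₂] [IsScalarTower S₂ T₂ X₂]
    [IsScalarTower A' T₂ X₂] {f₂ : N₂ →ₗ[S₂] X₂} (hf₂ : IsBaseChange T₂ f₂) :
    FlatPts R q N A' ↔ FlatPts R₂ q₂ N₂ A' := by
  rw [iff_model T₁ X₁ f₁ hf₁, iff_model T₂ X₂ f₂ hf₂]
  constructor
  · intro h Q hQ hQq hQm
    refine (flat_iff_model he hf₁ hf₂ Q).1 (h (Q.comap (algebraMap T₁ T₂)) ?_ ?_)
    · rw [Ideal.comap_comap, ← IsScalarTower.algebraMap_eq, IsScalarTower.algebraMap_eq S S₂ T₂,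
        ← Ideal.comap_comap, hQq, ← hψ]
      refine Ideal.ext fun s => ?_
      show ψ (algebraMap S S₂ s) = 0 ↔ _
      rw [AlgHom.commutes, Ideal.algebraMap_residueField_eq_zero]
    · rw [Ideal.comap_comap, ← IsScalarTower.algebraMap_eq, hQm]
  · intro h Q hQ hQq hQm
    -- a point of the second model over the given one
    let K := Q.ResidueField
    let ι : q.ResidueField →+* K := Ideal.ResidueField.map q Q (algebraMap S T₁) hQq.symm
    let a₀ : A' →+* K := (algebraMap T₁ K).comp (algebraMap A' T₁)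
    letI : Algebra R₂ K := (a₀.comp (algebraMap R₂ A')).toAlgebra
    let a : A' →ₐ[R₂] K := { a₀ with commutes' := fun _ => rfl }
    have hι : ∀ s, ι (algebraMap S q.ResidueField s) = algebraMap T₁ K (algebraMap S T₁ s) := fun s =>
      Ideal.ResidueField.map_algebraMap _ _ _ _ s
    have hm0 : ∀ x, x ∈ maximalIdeal A' → a₀ x = 0 := fun x hx =>
      Ideal.algebraMap_residueField_eq_zero.2 (show x ∈ Q.comap (algebraMap A' T₁) from hQm ▸ hx)
    have hψ0 : ∀ x, x ∈ q₂ → ψ x = 0 := fun x hx => by rw [← hψ] at hx; exact hx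
    let b : S₂ →ₐ[R₂] K :=
      { ι.comp ψ.toRingHom with
        commutes' := fun x => by
          show ι (ψ (algebraMap R₂ S₂ x)) = a₀ (algebraMap R₂ A' x)
          obtain ⟨r, hr⟩ := hres x
          have h1 := hψ0 _ hr
          have h2 := hm0 _ (show x - algebraMap R R₂ r ∈ (maximalIdeal A').comap (algebraMap R₂ A') from hm ▸ hr)
          rw [map_sub, map_sub, sub_eq_zero, ← IsScalarTower.algebraMap_apply] at h1 h2
          rw [h1, h2, IsScalarTower.algebraMap_apply R S S₂, AlgHom.commutes, hι]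
          show algebraMap T₁ K (algebraMap S T₁ (algebraMap R S r)) = algebraMap T₁ K (algebraMap A' T₁ _)
          rw [← IsScalarTower.algebraMap_apply R S T₁, ← IsScalarTower.algebraMap_apply R A' T₁] }
    let φ : T₂ →ₐ[R₂] K := Algebra.pushoutDesc T₂ a b fun _ _ => mul_comm _ _
    have hφa : ∀ x, φ (algebraMap A' T₂ x) = a₀ x := fun x => Algebra.pushoutDesc_left T₂ a b _ x
    have hφb : ∀ x, φ (algebraMap S₂ T₂ x) = ι (ψ x) := fun x => Algebra.pushoutDesc_right T₂ a b _ x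
    have hφ : φ.toRingHom.comp (algebraMap T₁ T₂) = algebraMap T₁ K := by
      refine RingHom.ext fun t => ?_
      show φ (algebraMap T₁ T₂ t) = _
      induction t using (inferInstance : Algebra.IsPushout R A' S T₁).out.inductionOn with
      | zero => simp
      | add x y hx hy => simp only [map_add, hx, hy]
      | tmul x =>
        show φ (algebraMap T₁ T₂ (algebraMap S T₁ x)) = _
        rw [← IsScalarTower.algebraMap_apply, IsScalarTower.algebraMap_apply S S₂ T₂, hφb, AlgHom.commutes, hι]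
        rfl
      | smul a x hx =>
        rw [Algebra.smul_def, map_mul, map_mul, map_mul, ← IsScalarTower.algebraMap_apply, hφa, hx]
        rfl
    haveI : (RingHom.ker φ.toRingHom).IsPrime := RingHom.ker_isPrime _
    have hQ₂ := h (RingHom.ker φ.toRingHom) (Ideal.ext fun x => by
        show φ (algebraMap S₂ T₂ x) = 0 ↔ _
        rw [hφb, map_eq_zero, ← hψ]
        rfl) (Ideal.ext fun x => by
        show φ (algebraMap A' T₂ x) = 0 ↔ _
        rw [hφa, ← hQm]
        exact Ideal.algebraMap_residueField_eq_zero)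
    have hc : (RingHom.ker φ.toRingHom).comap (algebraMap T₁ T₂) = Q := by
      rw [RingHom.comap_ker, hφ]
      exact Q.ker_algebraMap_residueField
    exact flat_congr hc ((flat_iff_model he hf₁ hf₂ (RingHom.ker φ.toRingHom)).2 hQ₂)

/-- Étale changes of the base and flat changes of the algebra with trivial residue extension. -/
theorem iff_nhd {R₂ S₂ : Type u} [CommRing R₂] [CommRing S₂] [Algebra R R₂] [Algebra R₂ S₂] [Algebra R S₂]
    [Algebra S S₂] [IsScalarTower R R₂ S₂] [IsScalarTower R S S₂] [Algebra.Etale R R₂] [Module.Flat S S₂]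
    [Algebra R₂ A'] [IsScalarTower R R₂ A'] [q.IsPrime] (q₂ : Ideal S₂) (ψ : S₂ →ₐ[S] q.ResidueField)
    (hψ : RingHom.ker ψ.toRingHom = q₂) (hm : (maximalIdeal A').comap (algebraMap R₂ A') = q₂.comap (algebraMap R₂ S₂))
    (hres : ∀ x : R₂, ∃ a : R, x - algebraMap R R₂ a ∈ q₂.comap (algebraMap R₂ S₂))
    (N₂ : Type u) [AddCommGroup N₂] [Module S₂ N₂] [Module S N₂] [IsScalarTower S S₂ N₂]
    (e : N →ₗ[S] N₂) (he : IsBaseChange S₂ e) :
    FlatPts R q N A' ↔ FlatPts R₂ q₂ N₂ A' := by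
  let i : A' ⊗[R] S →ₐ[A'] A' ⊗[R] S₂ := Algebra.TensorProduct.map (AlgHom.id A' A') (IsScalarTower.toAlgHom R S S₂)
  let w : A' ⊗[R] R₂ →ₐ[A'] A' ⊗[R] S₂ := Algebra.TensorProduct.map (AlgHom.id A' A') (IsScalarTower.toAlgHom R R₂ S₂)
  let v : A' ⊗[R] R₂ →ₐ[A'] A' := Algebra.TensorProduct.lift (AlgHom.id A' A') (IsScalarTower.toAlgHom R R₂ A')
    fun _ _ => mul_comm _ _
  let k : A' ⊗[R] S₂ →ₐ[A'] A' ⊗[R₂] S₂ := Algebra.TensorProduct.lift (Algebra.ofId A' _)
    ((Algebra.TensorProduct.includeRight : S₂ →ₐ[R₂] A' ⊗[R₂] S₂).restrictScalars R) fun _ _ => mul_comm _ _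
  have hk : ∀ (a : A') (s : S₂), k (a ⊗ₜ[R] s) = a ⊗ₜ[R₂] s := fun a s => by
    rw [Algebra.TensorProduct.lift_tmul]
    show (a ⊗ₜ[R₂] (1 : S₂)) * ((1 : A') ⊗ₜ[R₂] s) = _
    rw [Algebra.TensorProduct.tmul_mul_tmul, mul_one, one_mul]
  have hflat := flat_models (R := R) (S := S) (R₂ := R₂) (S₂ := S₂) i (fun _ => rfl) w (fun _ => rfl) v
    (fun x => (Algebra.TensorProduct.lift_tmul _ _ _ 1 x).trans (one_mul _)) k (fun x => hk 1 x) (fun z => by
      induction z using TensorProduct.induction_on with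
      | zero => simp
      | add x y hx hy => simp only [map_add, hx, hy]
      | tmul a x =>
        show k (a ⊗ₜ[R] algebraMap R₂ S₂ x) = (a * algebraMap R₂ A' x) ⊗ₜ[R₂] (1 : S₂)
        rw [hk, Algebra.algebraMap_eq_smul_one x, ← TensorProduct.smul_tmul, Algebra.smul_def, mul_comm])
  letI : Algebra (A' ⊗[R] S) (A' ⊗[R₂] S₂) := (k.toRingHom.comp i.toRingHom).toAlgebra
  haveI : Module.Flat (A' ⊗[R] S) (A' ⊗[R₂] S₂) := hflat
  haveI : IsScalarTower A' (A' ⊗[R] S) (A' ⊗[R₂] S₂) := .of_algebraMap_eq fun s => ((k.comp i).commutes s).symm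
  letI : Algebra S (A' ⊗[R₂] S₂) := ((algebraMap S₂ _).comp (algebraMap S S₂)).toAlgebra
  haveI : IsScalarTower S S₂ (A' ⊗[R₂] S₂) := .of_algebraMap_eq' rfl
  haveI : IsScalarTower S (A' ⊗[R] S) (A' ⊗[R₂] S₂) := .of_algebraMap_eq fun s => (hk 1 (algebraMap S S₂ s)).symm
  exact nhd_aux q₂ ψ hψ hm hres N₂ e he (T₁ := A' ⊗[R] S) (T₂ := A' ⊗[R₂] S₂)
    (TensorProduct.isBaseChange S N (A' ⊗[R] S)) (TensorProduct.isBaseChange S₂ N₂ (A' ⊗[R₂] S₂))

/-- A finite change of the algebra, between given models. -/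
theorem finite_aux {S₂ : Type u} [CommRing S₂] [Algebra R S₂] [Algebra S S₂] [IsScalarTower R S S₂]
    (q₂ : Ideal S₂) (hq : q₂.comap (algebraMap S S₂) = q)
    (huniq : ∀ z : Ideal S₂, z.IsPrime → z.comap (algebraMap S S₂) = q → z = q₂)
    (G : Type u) [AddCommGroup G] [Module S₂ G] [Module S G] [IsScalarTower S S₂ G]
    {T₁ : Type u} [CommRing T₁] [Algebra A' T₁] [Algebra S T₁] [Algebra R T₁] [IsScalarTower R A' T₁]
    [IsScalarTower R S T₁] [Algebra.IsPushout R A' S T₁]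
    {T₂ : Type u} [CommRing T₂] [Algebra A' T₂] [Algebra S₂ T₂] [Algebra R T₂] [IsScalarTower R A' T₂]
    [IsScalarTower R S₂ T₂] [Algebra.IsPushout R A' S₂ T₂]
    [Algebra T₁ T₂] [Algebra.IsIntegral T₁ T₂] [IsScalarTower A' T₁ T₂] [Algebra S T₂] [IsScalarTower S T₁ T₂]
    [IsScalarTower S S₂ T₂] [Algebra.IsPushout S T₁ S₂ T₂]
    {X : Type u} [AddCommGroup X] [Module T₂ X] [Module S₂ X] [Module A' X] [Module T₁ X] [Module S X]
    [IsScalarTower S₂ T₂ X] [IsScalarTower A' T₂ X] [IsScalarTower T₁ T₂ X] [IsScalarTower A' T₁ X]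
    [IsScalarTower S T₁ X] [IsScalarTower S S₂ X] {f₂ : G →ₗ[S₂] X} (hf₂ : IsBaseChange T₂ f₂) :
    FlatPts R q G A' ↔ FlatPts R q₂ G A' := by
  have hf₁ : IsBaseChange T₁ (f₂.restrictScalars S) := SpreadCore.isBaseChange_restrict hf₂
  rw [iff_model T₁ X (f₂.restrictScalars S) hf₁, iff_model T₂ X f₂ hf₂]
  constructor
  · intro h Q hQ hQq hQm
    have hQ₁ := h (Q.comap (algebraMap T₁ T₂))
      (by rw [Ideal.comap_comap, ← IsScalarTower.algebraMap_eq, IsScalarTower.algebraMap_eq S S₂ T₂,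
        ← Ideal.comap_comap, hQq, hq])
      (by rw [Ideal.comap_comap, ← IsScalarTower.algebraMap_eq, hQm])
    refine (H19.FlatLocus.flat_iff_killed Q.primeCompl (LocalizedModule.mkLinearMap Q.primeCompl X)).2
      fun J ξ hξ => ?_
    obtain ⟨w, hw, hwξ⟩ := (H19.FlatLocus.flat_iff_killed (Q.comap (algebraMap T₁ T₂)).primeCompl
      (LocalizedModule.mkLinearMap (Q.comap (algebraMap T₁ T₂)).primeCompl X)).1 hQ₁ J ξ hξ
    exact ⟨algebraMap T₁ T₂ w, hw, by rw [algebraMap_smul]; exact hwξ⟩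
  · intro h Q hQ hQq hQm
    refine RG.DevTools.flatAt_of_forall_over (R := A') (C := T₂) Q fun z hz hzQ => ?_
    haveI := hz
    refine h z (huniq _ (hz.comap _) ?_) ?_
    · rw [Ideal.comap_comap, ← IsScalarTower.algebraMap_eq, IsScalarTower.algebraMap_eq S T₁ T₂,
        ← Ideal.comap_comap, hzQ, hQq]
    · rw [IsScalarTower.algebraMap_eq A' T₁ T₂, ← Ideal.comap_comap, hzQ, hQm]

/-- A module over a finite algebra with a single prime over the given one. -/
theorem iff_finite {S₂ : Type u} [CommRing S₂] [Algebra R S₂] [Algebra S S₂] [IsScalarTower R S S₂]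
    [Algebra.IsIntegral S S₂] (q₂ : Ideal S₂) (hq : q₂.comap (algebraMap S S₂) = q)
    (huniq : ∀ z : Ideal S₂, z.IsPrime → z.comap (algebraMap S S₂) = q → z = q₂)
    (G : Type u) [AddCommGroup G] [Module S₂ G] [Module S G] [IsScalarTower S S₂ G] :
    FlatPts R q G A' ↔ FlatPts R q₂ G A' := by
  let i : A' ⊗[R] S →ₐ[A'] A' ⊗[R] S₂ := Algebra.TensorProduct.map (AlgHom.id A' A') (IsScalarTower.toAlgHom R S S₂)
  letI : Algebra (A' ⊗[R] S) (A' ⊗[R] S₂) := i.toRingHom.toAlgebra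
  haveI : IsScalarTower A' (A' ⊗[R] S) (A' ⊗[R] S₂) := .of_algebraMap_eq fun s => (i.commutes s).symm
  letI : Algebra S (A' ⊗[R] S₂) := ((algebraMap S₂ (A' ⊗[R] S₂)).comp (algebraMap S S₂)).toAlgebra
  haveI : IsScalarTower S S₂ (A' ⊗[R] S₂) := .of_algebraMap_eq' rfl
  haveI : IsScalarTower S (A' ⊗[R] S) (A' ⊗[R] S₂) := .of_algebraMap_eq fun s => rfl
  haveI : IsScalarTower R (A' ⊗[R] S) (A' ⊗[R] S₂) := .of_algebraMap_eq fun x => by
    rw [IsScalarTower.algebraMap_apply R A' (A' ⊗[R] S), ← IsScalarTower.algebraMap_apply A' (A' ⊗[R] S) _,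
      ← IsScalarTower.algebraMap_apply]
  haveI : Algebra.IsPushout S (A' ⊗[R] S) S₂ (A' ⊗[R] S₂) := by
    haveI : Algebra.IsPushout S S₂ (A' ⊗[R] S) (A' ⊗[R] S₂) :=
      (Algebra.IsPushout.comp_iff R S A' (A' ⊗[R] S)).1 inferInstance
    exact Algebra.IsPushout.symm inferInstance
  haveI : Algebra.IsIntegral (A' ⊗[R] S) (A' ⊗[R] S₂) := ⟨fun z => by
    induction z using TensorProduct.induction_on with
    | zero => exact isIntegral_zero
    | add x y hx hy => exact hx.add hy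
    | tmul x s =>
      rw [show (x ⊗ₜ[R] s : A' ⊗[R] S₂) = i (algebraMap A' _ x) * algebraMap S₂ _ s from by
        rw [i.commutes]
        show _ = (x ⊗ₜ[R] (1 : S₂)) * ((1 : A') ⊗ₜ[R] s)
        rw [Algebra.TensorProduct.tmul_mul_tmul, mul_one, one_mul]]
      exact isIntegral_algebraMap.mul
        (((Algebra.IsIntegral.isIntegral (R := S) s).map (IsScalarTower.toAlgHom S S₂ _)).tower_top)⟩
  haveI : IsScalarTower A' (A' ⊗[R] S) ((A' ⊗[R] S₂) ⊗[S₂] G) := IsScalarTower.to₁₂₄ A' (A' ⊗[R] S) (A' ⊗[R] S₂) _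
  haveI : IsScalarTower S (A' ⊗[R] S) ((A' ⊗[R] S₂) ⊗[S₂] G) := IsScalarTower.to₁₂₄ S (A' ⊗[R] S) (A' ⊗[R] S₂) _
  haveI : IsScalarTower S S₂ ((A' ⊗[R] S₂) ⊗[S₂] G) := IsScalarTower.to₁₂₄ S S₂ (A' ⊗[R] S₂) _
  exact finite_aux q₂ hq huniq G (T₁ := A' ⊗[R] S) (T₂ := A' ⊗[R] S₂) (TensorProduct.isBaseChange S₂ G (A' ⊗[R] S₂))

/-- Isomorphic modules, in a given model. -/
theorem equiv_aux {N₂ : Type u} [AddCommGroup N₂] [Module S N₂] (e : N ≃ₗ[S] N₂)
    {T : Type u} [CommRing T] [Algebra A' T] [Algebra S T] [Algebra R T] [IsScalarTower R A' T]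
    [IsScalarTower R S T] [Algebra.IsPushout R A' S T] {X : Type u} [AddCommGroup X] [Module T X] [Module S X]
    [Module A' X] [IsScalarTower S T X] [IsScalarTower A' T X] {f : N →ₗ[S] X} (hf : IsBaseChange T f) :
    FlatPts R q N A' ↔ FlatPts R q N₂ A' := by
  rw [iff_model T X f hf, iff_model T X (f.comp e.symm.toLinearMap) (IsBaseChange.comp_equiv (S := T) e.symm f hf)]

/-- Isomorphic modules. -/
theorem iff_equiv {N₂ : Type u} [AddCommGroup N₂] [Module S N₂] (e : N ≃ₗ[S] N₂) :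
    FlatPts R q N A' ↔ FlatPts R q N₂ A' :=
  equiv_aux e (T := A' ⊗[R] S) (TensorProduct.isBaseChange S N (A' ⊗[R] S))

/-- Some point lies over a given point and the closed point. -/
theorem exists_point [q.IsPrime] (h : q.comap (algebraMap R S) = (maximalIdeal A').comap (algebraMap R A')) :
    ∃ (Q : Ideal (A' ⊗[R] S)) (_ : Q.IsPrime), Q.comap (algebraMap S (A' ⊗[R] S)) = q ∧
      Q.comap (algebraMap A' (A' ⊗[R] S)) = maximalIdeal A' := by
  let p : Ideal R := q.comap (algebraMap R S)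
  let m := maximalIdeal A'
  letI : Algebra p.ResidueField q.ResidueField := (Ideal.ResidueField.map p q (algebraMap R S) rfl).toAlgebra
  letI : Algebra p.ResidueField m.ResidueField := (Ideal.ResidueField.map p m (algebraMap R A') h).toAlgebra
  let W := m.ResidueField ⊗[p.ResidueField] q.ResidueField
  obtain ⟨P, hP⟩ := Ideal.exists_maximal W
  let c : W →+* W ⧸ P := Ideal.Quotient.mk P
  let a₀ : A' →+* W ⧸ P := (c.comp Algebra.TensorProduct.includeLeftRingHom).comp (algebraMap A' m.ResidueField)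
  let b₀ : S →+* W ⧸ P := (c.comp (Algebra.TensorProduct.includeRight :
    q.ResidueField →ₐ[p.ResidueField] W).toRingHom).comp (algebraMap S q.ResidueField)
  let b : S →ₐ[R] W ⧸ P :=
    { b₀ with
      commutes' := fun r => by
        show c ((1 : m.ResidueField) ⊗ₜ[p.ResidueField] algebraMap S q.ResidueField (algebraMap R S r)) =
          c (algebraMap A' m.ResidueField (algebraMap R A' r) ⊗ₜ[p.ResidueField] (1 : q.ResidueField))
        rw [← Ideal.ResidueField.map_algebraMap p q (algebraMap R S) rfl r,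
          ← Ideal.ResidueField.map_algebraMap p m (algebraMap R A') h r]
        show c ((1 : m.ResidueField) ⊗ₜ[p.ResidueField] algebraMap p.ResidueField q.ResidueField _) =
          c (algebraMap p.ResidueField m.ResidueField _ ⊗ₜ[p.ResidueField] (1 : q.ResidueField))
        exact congrArg c (Algebra.TensorProduct.tmul_one_eq_one_tmul _).symm }
  let a : A' →ₐ[R] W ⧸ P := { a₀ with commutes' := fun _ => rfl }
  let φ : A' ⊗[R] S →ₐ[R] W ⧸ P := Algebra.TensorProduct.lift a b fun _ _ => mul_comm _ _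
  haveI := hP
  letI := Ideal.Quotient.field P
  refine ⟨RingHom.ker φ.toRingHom, RingHom.ker_isPrime _, Ideal.ext fun s => ?_, Ideal.ext fun x => ?_⟩
  · show φ ((1 : A') ⊗ₜ[R] s) = 0 ↔ _
    rw [Algebra.TensorProduct.lift_tmul, map_one, one_mul]
    show (c.comp (Algebra.TensorProduct.includeRight :
      q.ResidueField →ₐ[p.ResidueField] W).toRingHom) (algebraMap S q.ResidueField s) = 0 ↔ _
    rw [map_eq_zero, Ideal.algebraMap_residueField_eq_zero]
  · show φ (x ⊗ₜ[R] (1 : S)) = 0 ↔ _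
    rw [Algebra.TensorProduct.lift_tmul, map_one, mul_one]
    show (c.comp Algebra.TensorProduct.includeLeftRingHom) (algebraMap A' m.ResidueField x) = 0 ↔ _
    rw [map_eq_zero, Ideal.algebraMap_residueField_eq_zero]

end Groth.Agent.Lib.RG57.FlatPts
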