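import Groth.Agent.Lib.RG57.FlatPts
import Groth.Agent.Lib.Flat55.FlatOverAt
import Groth.Agent.Lib.Flat55.FreeLocus
import Groth.Agent.H19.FlatLocus.Scheme

/-!
# Flatness of base changed sheaves at points over a point, on affine charts
-/

set_option autoImplicit false
set_option linter.style.haveILetI false
set_option backward.isDefEq.respectTransparency false
set_option maxHeartbeats 400000

universe u

open CategoryTheory CategoryTheory.Limits AlgebraicGeometry Opposite TopologicalSpace
open scoped TensorProduct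
open Groth.Agent.Lib Groth.Agent.Lib.QCoh Groth.Agent.Lib.QCoh.Tilde Groth.Agent.Lib.QCoh.Pullback
open Groth.Agent.Lib.Flat55
open IsLocalRing (maximalIdeal closedPoint)

attribute [local instance] Algebra.TensorProduct.rightAlgebra

namespace Groth.Agent.Lib.RG57.FlatPtsChart

open FlatPts (FlatPts)

/-- Flatness of an affine module at a point. -/
theorem isFlatOverAt_tilde_iff' (R : Type u) (S : CommRingCat.{u}) [CommRing R] [Algebra R S] (M : ModuleCat.{u} S)
    (z : Spec S) :
    letI : Module R M := Module.compHom M (algebraMap R S)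
    haveI : IsScalarTower R S M := .of_algebraMap_smul fun _ _ => rfl
    FlatMod.IsFlatOverAt (Spec.map (CommRingCat.ofHom (algebraMap R S))) ((tilde.functor S).obj M) z ↔
      Module.Flat R (LocalizedModule z.asIdeal.primeCompl M) := by
  letI : Module R M := Module.compHom M (algebraMap R S)
  haveI : IsScalarTower R S M := .of_algebraMap_smul fun _ _ => rfl
  let φ : CommRingCat.of R ⟶ S := CommRingCat.ofHom (algebraMap R S)
  let W := (tilde M).presheaf.stalk z
  let A := (Spec (CommRingCat.of R)).presheaf.stalk (Spec.map φ z)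
  letI : Algebra R A := StructureSheaf.stalkAlgebra R _
  haveI : IsLocalization.AtPrime A (Spec.map φ z : PrimeSpectrum R).asIdeal :=
    StructureSheaf.IsLocalization.to_stalk R _
  letI : Algebra S ((Spec S).presheaf.stalk z) := StructureSheaf.stalkAlgebra S z
  haveI : IsScalarTower S ((Spec S).presheaf.stalk z) W := .of_algebraMap_smul fun _ _ => rfl
  letI : Module A W := FlatMod.moduleStalkOver (Spec.map φ) (tilde M) z
  letI : Module R W := Module.compHom W (algebraMap R S)
  haveI : IsScalarTower R S W := .of_algebraMap_smul fun _ _ => rfl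
  haveI : IsScalarTower R A W := .of_algebraMap_smul fun r w => by
    show ((Spec.map φ).stalkMap z).hom (algebraMap R A r) • w = algebraMap R S r • w
    rw [← algebraMap_smul ((Spec S).presheaf.stalk z) (algebraMap R S r) w]
    exact congrArg (· • w) (stalkMap_toStalk_apply φ z r)
  have h1 : FlatMod.IsFlatOverAt (Spec.map φ) (tilde M) z ↔ Module.Flat R W :=
    Module.flat_iff_of_isLocalization A (Spec.map φ z : PrimeSpectrum R).asIdeal.primeCompl W
  refine h1.trans ?_
  let e := (IsLocalizedModule.iso z.asIdeal.primeCompl (tilde.toStalk M z).hom).restrictScalars R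
  exact ⟨fun _ => Module.Flat.of_linearEquiv e, fun _ => Module.Flat.of_linearEquiv e.symm⟩

/-- Flatness of an affine module at a point. -/
theorem isFlatOverAt_tilde_iff (R S N : Type u) [CommRing R] [CommRing S] [Algebra R S] [AddCommGroup N]
    [Module S N] [Module R N] [IsScalarTower R S N] (z : ↥(Spec (CommRingCat.of S))) :
    FlatMod.IsFlatOverAt (Spec.map (CommRingCat.ofHom (algebraMap R S)))
        ((tilde.functor (CommRingCat.of S)).obj (ModuleCat.of S N)) z ↔
      Module.Flat R (LocalizedModule (z : PrimeSpectrum S).asIdeal.primeCompl N) := by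
  have h := isFlatOverAt_tilde_iff' R (CommRingCat.of S) (ModuleCat.of S N) z
  convert h using 2

variable {A : CommRingCat.{u}} {X : Scheme.{u}} (f : X ⟶ Spec A) (F : X.Modules) [F.IsQuasicoherent]

/-- The points over a point of a chart and over the closed point, after a local base change. -/
theorem chart_iff {U : X.Opens} (hU : IsAffineOpen U) {x : X} (hx : x ∈ U) [Algebra A Γ(X, U)]
    (hψ : hU.fromSpec ≫ f = Spec.map (CommRingCat.ofHom (algebraMap A Γ(X, U))))
    (A' : Type u) [CommRing A'] [IsLocalRing A'] [Algebra A A'] :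
    (∀ x' : ↑(pullback f (Spec.map (CommRingCat.ofHom (algebraMap A A')))),
        (pullback.snd f (Spec.map (CommRingCat.ofHom (algebraMap A A')))).base x' = closedPoint A' →
        (pullback.fst f (Spec.map (CommRingCat.ofHom (algebraMap A A')))).base x' = x →
        FlatMod.IsFlatOverAt (pullback.snd f (Spec.map (CommRingCat.ofHom (algebraMap A A'))))
          ((Scheme.Modules.pullback (pullback.fst f (Spec.map (CommRingCat.ofHom (algebraMap A A'))))).obj F) x') ↔
      FlatPts A (hU.primeIdealOf ⟨x, hx⟩).asIdeal Γ(F, U) A' := by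
  let g := Spec.map (CommRingCat.ofHom (algebraMap A A'))
  let R : Type u := Γ(X, U)
  let W := A' ⊗[A] R
  let inl : CommRingCat.of A' ⟶ CommRingCat.of W := CommRingCat.ofHom (algebraMap A' W)
  let inr : Γ(X, U) ⟶ CommRingCat.of W := CommRingCat.ofHom (algebraMap R W)
  have hpo : IsPushout (CommRingCat.ofHom (algebraMap A A')) (CommRingCat.ofHom (algebraMap A R)) inl inr :=
    CommRingCat.isPushout_tensorProduct A A' R
  have hsq : IsPullback (Spec.map inr) (Spec.map inl) (hU.fromSpec ≫ f) g := by
    rw [hψ]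
    exact (isPullback_SpecMap_of_isPushout _ _ _ _ hpo).flip
  let ι : Spec (CommRingCat.of W) ⟶ pullback f g :=
    pullback.lift (Spec.map inr ≫ hU.fromSpec) (Spec.map inl) (by rw [Category.assoc, hsq.w])
  have hι₂ : ι ≫ pullback.snd f g = Spec.map inl := pullback.lift_snd _ _ _
  have hι₁ : ι ≫ pullback.fst f g = Spec.map inr ≫ hU.fromSpec := pullback.lift_fst _ _ _
  have hpb : IsPullback (Spec.map inr) ι hU.fromSpec (pullback.fst f g) := by
    refine IsPullback.of_bot ?_ hι₁.symm (IsPullback.of_hasPullback f g)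
    rw [hι₂]
    exact hsq
  haveI : IsOpenImmersion ι := MorphismProperty.of_isPullback hpb inferInstance
  have := isQCoh_pullback hU.fromSpec F
  obtain ⟨e₀⟩ := FreeLocus.exists_pullbackChartIso (F := F) hU inr
  let e : (Scheme.Modules.pullback ι).obj ((Scheme.Modules.pullback (pullback.fst f g)).obj F) ≅
      (tilde.functor (CommRingCat.of W)).obj (ModuleCat.of W (W ⊗[R] Γ(F, U))) :=
    (Scheme.Modules.pullbackComp ι (pullback.fst f g)).app F ≪≫ (Scheme.Modules.pullbackCongr hι₁).app F ≪≫ e₀
  -- the key equivalence at a point of the chart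
  have key : ∀ z : ↥(Spec (CommRingCat.of W)),
      FlatMod.IsFlatOverAt (pullback.snd f g) ((Scheme.Modules.pullback (pullback.fst f g)).obj F) (ι z) ↔
        Module.Flat A' (LocalizedModule (z : PrimeSpectrum W).asIdeal.primeCompl (W ⊗[R] Γ(F, U))) := by
    intro z
    rw [← FlatOverAt.isFlatOverAt_pullback_iff ι (pullback.snd f g) _ z (Flat.stalkMap _ z), hι₂,
      ← isFlatOverAt_tilde_iff A' W (W ⊗[R] Γ(F, U)) z]
    exact ⟨FlatOverAt.of_iso _ e z, FlatOverAt.of_iso _ e.symm z⟩
  have hfst : ∀ z : ↥(Spec (CommRingCat.of W)), (pullback.fst f g) (ι z) = hU.fromSpec (Spec.map inr z) :=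
    fun z => by rw [← Scheme.Hom.comp_apply, hι₁, Scheme.Hom.comp_apply]
  have hsnd : ∀ z : ↥(Spec (CommRingCat.of W)), (pullback.snd f g) (ι z) = Spec.map inl z :=
    fun z => by rw [← Scheme.Hom.comp_apply, hι₂]
  have hxq : hU.fromSpec (hU.primeIdealOf ⟨x, hx⟩) = x := hU.fromSpec_primeIdealOf ⟨x, hx⟩
  rw [FlatPts.iff_canonical]
  constructor
  · intro h Q hQ hQq hQm
    refine (key ⟨Q, hQ⟩).1 (h _ ?_ ?_)
    · rw [hsnd]
      exact PrimeSpectrum.ext hQm
    · rw [hfst, show Spec.map inr ⟨Q, hQ⟩ = hU.primeIdealOf ⟨x, hx⟩ from PrimeSpectrum.ext hQq, hxq]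
  · intro h x' hx'₂ hx'₁
    obtain ⟨z, hz⟩ : x' ∈ Set.range ι := by
      obtain ⟨z, -, hz⟩ := Scheme.Pullback.exists_preimage_pullback (f := hU.fromSpec) (g := pullback.fst f g)
        (hU.primeIdealOf ⟨x, hx⟩) x' (hxq.trans hx'₁.symm)
      exact ⟨hpb.isoPullback.inv z, by rw [← Scheme.Hom.comp_apply, hpb.isoPullback_inv_snd, hz]⟩
    subst hz
    refine (key z).2 (h (z : PrimeSpectrum W).asIdeal ?_ ?_)
    · have h1 : Spec.map inr z = hU.primeIdealOf ⟨x, hx⟩ :=
        hU.fromSpec.isOpenEmbedding.injective (by rw [hxq, ← hfst]; exact hx'₁)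
      exact congrArg PrimeSpectrum.asIdeal h1
    · have h1 : Spec.map inl z = closedPoint A' := (hsnd z).symm.trans hx'₂
      exact congrArg PrimeSpectrum.asIdeal h1

end Groth.Agent.Lib.RG57.FlatPtsChart
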