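import Groth.Prelude.Def_FlatCA
import Groth.Agent.Lib.Flat55.Presented
import Mathlib.RingTheory.Extension.Presentation.Core

/-!
# Finitely presented data come from a stage of a directed colimit
-/

set_option autoImplicit false
set_option linter.style.haveILetI false

universe u

open scoped TensorProduct

attribute [local instance] Algebra.TensorProduct.rightAlgebra

namespace Groth.Agent.Lib.RG57.PureStageModel

/-- A finite subset of a directed colimit lies in the image of a stage. -/
theorem exists_subset_range {ι : Type u} [Preorder ι] (G : ι → Type u) [∀ i, CommRing (G i)]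
    (g : ∀ i j, i ≤ j → G i →+* G j) {A : Type u} [CommRing A] [∀ i, Algebra (G i) A]
    (hcolim : FlatCA.IsDirectedColimitRing G g A) (s : Finset A) :
    ∃ i, ∀ a ∈ s, a ∈ Set.range (algebraMap (G i) A) := by
  classical
  obtain ⟨hdir, hne, -, -, hcomp, hsurj, -⟩ := hcolim
  have : IsDirectedOrder ι := hdir
  induction s using Finset.induction with
  | empty =>
    obtain ⟨i⟩ := hne
    exact ⟨i, fun a ha => absurd ha (Finset.notMem_empty a)⟩
  | insert b s _ ih =>
    obtain ⟨i, hi⟩ := ih
    obtain ⟨j, x, hx⟩ := hsurj b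
    obtain ⟨k, hik, hjk⟩ := exists_ge_ge i j
    refine ⟨k, fun a ha => ?_⟩
    rcases Finset.mem_insert.1 ha with rfl | ha
    · exact ⟨g j k hjk x, (RingHom.congr_fun (hcomp j k hjk) x).trans hx⟩
    · obtain ⟨y, hy⟩ := hi a ha
      exact ⟨g i k hik y, (RingHom.congr_fun (hcomp i k hik) y).trans hy⟩

variable {ι : Type u} [Preorder ι] (G : ι → Type u) [∀ i, CommRing (G i)]
  (g : ∀ i j, i ≤ j → G i →+* G j) {A : Type u} [CommRing A] [∀ i, Algebra (G i) A]

/-- A finitely presented algebra and module come from a stage. -/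
theorem exists_model (hcolim : FlatCA.IsDirectedColimitRing G g A)
    (B : Type u) [CommRing B] [Algebra A B] [Algebra.FinitePresentation A B]
    (N : Type u) [AddCommGroup N] [Module B N] [Module.FinitePresentation B N] :
    ∃ (i : ι) (S : Type u) (_ : CommRing S) (_ : Algebra (G i) S) (_ : Algebra S B) (_ : Algebra (G i) B)
      (_ : IsScalarTower (G i) A B) (_ : IsScalarTower (G i) S B)
      (M : Type u) (_ : AddCommGroup M) (_ : Module S M) (_ : Module (G i) M) (_ : IsScalarTower (G i) S M)
      (_ : Module S N) (_ : IsScalarTower S B N) (k : M →ₗ[S] N),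
      Algebra.FinitePresentation (G i) S ∧ Algebra.IsPushout (G i) S A B ∧ Module.FinitePresentation S M ∧
      IsBaseChange B k := by
  classical
  obtain ⟨n, m, ⟨P⟩⟩ := Algebra.Presentation.exists_presentation_fin A B
  obtain ⟨r, K, e, hK⟩ := Module.FinitePresentation.exists_fin B N
  obtain ⟨t, v, hv⟩ := Submodule.fg_iff_exists_fin_generating_family.1 hK
  let poly : Fin t → Fin r → MvPolynomial (Fin n) A := fun a b => P.σ (v a b)
  let s₂ : Finset A := Finset.univ.biUnion fun a => Finset.univ.biUnion fun b => (poly a b).coeffs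
  obtain ⟨i, hi⟩ := exists_subset_range G g hcolim (P.finite_coeffs.toFinset ∪ s₂)
  letI : Algebra (G i) B := ((algebraMap A B).comp (algebraMap (G i) A)).toAlgebra
  haveI : IsScalarTower (G i) A B := .of_algebraMap_eq' rfl
  haveI : P.HasCoeffs (G i) := ⟨fun a ha => hi a (Finset.mem_union_left _ (P.finite_coeffs.mem_toFinset.2 ha))⟩
  let S := P.ModelOfHasCoeffs (G i)
  let ee := P.tensorModelOfHasCoeffsEquiv (G i)
  let σ : S →ₐ[G i] B := (ee.toAlgHom.restrictScalars (G i)).comp Algebra.TensorProduct.includeRight
  letI : Algebra S B := σ.toRingHom.toAlgebra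
  haveI : IsScalarTower (G i) S B := IsScalarTower.of_algebraMap_eq fun x => (σ.commutes x).symm
  haveI hpo : Algebra.IsPushout (G i) A S B :=
    Algebra.IsPushout.of_equiv (R := G i) (R' := A) (S := S) (S' := A ⊗[G i] S) ee (RingHom.ext fun _ => rfl)
  have hlift : ∀ a b, ∃ p₀ : MvPolynomial (Fin n) (G i), MvPolynomial.map (algebraMap (G i) A) p₀ = poly a b :=
    fun a b => MvPolynomial.mem_range_map_iff_coeffs_subset.2 fun x hx => hi x (Finset.mem_union_right _
      (Finset.mem_biUnion.2 ⟨a, Finset.mem_univ _, Finset.mem_biUnion.2 ⟨b, Finset.mem_univ _, hx⟩⟩))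
  choose p₀ hp₀ using hlift
  let gg : Fin t → Fin r → S := fun a b => Ideal.Quotient.mk _ (p₀ a b)
  have hgg : ∀ a b, v a b = algebraMap S B (gg a b) := fun a b => by
    show _ = ee ((1 : A) ⊗ₜ[G i] Ideal.Quotient.mk _ (p₀ a b))
    rw [Algebra.Presentation.tensorModelOfHasCoeffsEquiv_tmul, map_one, one_mul,
      ← MvPolynomial.aeval_map_algebraMap A, hp₀]
    exact (P.aeval_val_σ _).symm
  let e' : ((Fin r → B) ⧸ Submodule.span B (Set.range v)) ≃ₗ[B] N :=
    (Submodule.quotEquivOfEq _ _ hv).trans e.symm
  letI : Module S N := Module.compHom N (algebraMap S B)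
  haveI : IsScalarTower S B N := IsScalarTower.of_algebraMap_smul fun _ _ => rfl
  haveI : Module.FinitePresentation S ((Fin r → S) ⧸ Submodule.span S (Set.range gg)) :=
    Module.finitePresentation_of_surjective (Submodule.mkQ (Submodule.span S (Set.range gg)))
      (Submodule.mkQ_surjective _) (by rw [Submodule.ker_mkQ]; exact Submodule.fg_span (Set.finite_range _))
  exact ⟨i, S, inferInstance, inferInstance, inferInstance, inferInstance, inferInstance, inferInstance,
    (Fin r → S) ⧸ Submodule.span S (Set.range gg), inferInstance, inferInstance, inferInstance, inferInstance,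
    inferInstance, inferInstance, (e'.toLinearMap.restrictScalars S).comp (Flat55.Presented.quotMap gg v hgg),
    inferInstance, hpo.symm, inferInstance,
    (Flat55.Presented.isBaseChange_quotMap gg v hgg).comp (IsBaseChange.ofEquiv e')⟩

end Groth.Agent.Lib.RG57.PureStageModel
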