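import Mathlib.RingTheory.FiniteType
import Mathlib.RingTheory.TensorProduct.Finite
import Mathlib.RingTheory.FiniteStability
import Mathlib.RingTheory.FinitePresentation
import Mathlib.RingTheory.IsTensorProduct
import Mathlib.RingTheory.Localization.Integer
import Mathlib.RingTheory.Localization.BaseChange
import Mathlib.Algebra.Module.FinitePresentation
import Groth.Agent.Lib.Flat55.Presented

/-!
# Torsion of a monoid on a fibre
-/

set_option autoImplicit false
set_option linter.style.haveILetI false

universe u

open scoped TensorProduct

attribute [local instance] Algebra.TensorProduct.rightAlgebra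

namespace Groth.Agent.Lib.RG57.SpreadSelect

/-- On the fibre over a point, one element of the monoid kills everything that the monoid kills. -/
theorem exists_element {A B : Type u} [CommRing A] [CommRing B] [Algebra A B] [Algebra.FiniteType A B]
    (κ : Type u) [Field κ] [Algebra A κ] (M : Type u) [AddCommGroup M] [Module B M] [Module A M]
    [IsScalarTower A B M] [Module.Finite B M] (T : Submonoid B) :
    ∃ t ∈ T, ∀ s ∈ T, ∀ y : κ ⊗[A] M,
      ((LinearMap.lsmul B M s).restrictScalars A).lTensor κ
        (((LinearMap.lsmul B M t).restrictScalars A).lTensor κ y) = 0 →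
        ((LinearMap.lsmul B M t).restrictScalars A).lTensor κ y = 0 := by
  classical
  let C := κ ⊗[A] B
  haveI : Algebra.FiniteType κ C := inferInstanceAs (Algebra.FiniteType κ (κ ⊗[A] B))
  haveI : IsNoetherianRing C := Algebra.FiniteType.isNoetherianRing κ C
  haveI : Module.Finite C (C ⊗[B] M) := inferInstance
  haveI : IsNoetherian C (C ⊗[B] M) := inferInstance
  let e : C ⊗[B] M ≃ₗ[κ] κ ⊗[A] M := Algebra.IsPushout.cancelBaseChange A κ B C M
  have he : ∀ (b : B) (z : C ⊗[B] M),
      ((LinearMap.lsmul B M b).restrictScalars A).lTensor κ (e z) = e ((algebraMap B C b) • z) := by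
    intro b z
    obtain ⟨w, rfl⟩ := e.symm.surjective z
    rw [LinearEquiv.apply_symm_apply]
    induction w using TensorProduct.induction_on with
    | zero => simp
    | tmul c m =>
      rw [← LinearEquiv.symm_apply_eq]
      simp only [LinearMap.lTensor_tmul, LinearMap.restrictScalars_apply, LinearMap.lsmul_apply, e,
        Algebra.IsPushout.cancelBaseChange_symm_tmul]
      rw [TensorProduct.tmul_smul, ← algebraMap_smul C b]
    | add u v hu hv => simp only [map_add, smul_add, hu, hv]
  let K : B → Submodule C (C ⊗[B] M) := fun b =>
    LinearMap.ker (LinearMap.lsmul C (C ⊗[B] M) (algebraMap B C b))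
  obtain ⟨-, ⟨t, ht, rfl⟩, hmax⟩ := set_has_maximal_iff_noetherian.2 (inferInstance : IsNoetherian C (C ⊗[B] M))
    (K '' (T : Set B)) ⟨K 1, ⟨1, T.one_mem, rfl⟩⟩
  refine ⟨t, ht, fun s hs y hy => ?_⟩
  obtain ⟨z, rfl⟩ := e.surjective y
  rw [he, he, e.map_eq_zero_iff, smul_smul, ← map_mul] at hy
  rw [he, e.map_eq_zero_iff]
  have hle : K t ≤ K (s * t) := fun w hw => by
    simp only [K, LinearMap.mem_ker, LinearMap.lsmul_apply] at hw ⊢
    rw [map_mul, mul_smul, hw, smul_zero]
  by_contra hne
  exact hmax _ ⟨s * t, T.mul_mem hs ht, rfl⟩ (lt_of_le_of_ne hle fun heq => hne (by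
    have : z ∈ K t := heq ▸ (show z ∈ K (s * t) from hy)
    exact this))

/-- A finitely presented module over a localisation is a localisation of a finitely presented module. -/
theorem exists_model {B : Type u} [CommRing B] (T : Submonoid B) (N : Type u) [AddCommGroup N]
    [Module (Localization T) N] [Module B N] [IsScalarTower B (Localization T) N]
    [Module.FinitePresentation (Localization T) N] :
    ∃ (M : Type u) (_ : AddCommGroup M) (_ : Module B M) (k : M →ₗ[B] N),
      Module.FinitePresentation B M ∧ IsBaseChange (Localization T) k := by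
  classical
  obtain ⟨r, K, e, hK⟩ := Module.FinitePresentation.exists_fin (Localization T) N
  obtain ⟨n, v, hv⟩ := Submodule.fg_iff_exists_fin_generating_family.1 hK
  obtain ⟨b, hb⟩ := IsLocalization.exist_integer_multiples T
    (Finset.univ : Finset (Fin n × Fin r)) fun x => v x.1 x.2
  have hb' : ∀ a i, ∃ w : B, algebraMap B (Localization T) w = (b : B) • v a i := fun a i =>
    hb (a, i) (Finset.mem_univ _)
  choose w hw using hb'
  let v' : Fin n → Fin r → Localization T := fun a i => algebraMap B (Localization T) (w a i)
  have hspan : Submodule.span (Localization T) (Set.range v') = K := by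
    have hu := IsLocalization.map_units (Localization T) b
    have hv' : ∀ a, v' a = algebraMap B (Localization T) b • v a := fun a => funext fun i => by
      simp only [v', hw, Pi.smul_apply, algebraMap_smul]
    refine le_antisymm (Submodule.span_le.2 ?_) (hv ▸ Submodule.span_le.2 ?_)
    · rintro _ ⟨a, rfl⟩
      rw [hv']
      exact K.smul_mem _ (hv ▸ Submodule.subset_span (Set.mem_range_self a))
    · rintro _ ⟨a, rfl⟩
      have h1 : algebraMap B (Localization T) b • v a ∈ Submodule.span (Localization T) (Set.range v') :=
        hv' a ▸ Submodule.subset_span (Set.mem_range_self a)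
      exact (Submodule.smul_mem_iff_of_isUnit _ hu).1 h1
  let e' : ((Fin r → Localization T) ⧸ Submodule.span (Localization T) (Set.range v')) ≃ₗ[Localization T] N :=
    (Submodule.quotEquivOfEq _ _ hspan).trans e.symm
  exact ⟨(Fin r → B) ⧸ Submodule.span B (Set.range w), inferInstance, inferInstance,
    (e'.toLinearMap.restrictScalars B).comp (Flat55.Presented.quotMap w v' fun _ _ => rfl),
    Module.finitePresentation_of_surjective (Submodule.mkQ (Submodule.span B (Set.range w)))
      (Submodule.mkQ_surjective _) (by rw [Submodule.ker_mkQ]; exact Submodule.fg_span (Set.finite_range _)),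
    (Flat55.Presented.isBaseChange_quotMap w v' fun _ _ => rfl).comp (IsBaseChange.ofEquiv e')⟩

end Groth.Agent.Lib.RG57.SpreadSelect
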