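import Groth.Agent.Lib.RG57.SpreadCore
import Groth.Agent.Lib.RG57.SpreadSelect
import Groth.Agent.Lib.RG57.PureStageModel
import Mathlib.RingTheory.LocalRing.ResidueField.Ideal
import Mathlib.RingTheory.FiniteStability

/-!
# Pure spreadouts modulo a finitely generated ideal
-/

set_option autoImplicit false
set_option linter.style.haveILetI false

universe u

open IsLocalRing
open scoped TensorProduct

namespace Groth.Agent.Lib.RG57.SpreadMain

/-- The finitely generated subrings exhaust a ring. -/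
theorem adjoin_colimit (A : Type u) [CommRing A] :
    FlatCA.IsDirectedColimitRing (fun s : Finset A => (Algebra.adjoin ℤ (s : Set A) : Subalgebra ℤ A))
      (fun _ _ h => (Subalgebra.inclusion (Algebra.adjoin_mono (by simpa using h))).toRingHom) A := by
  classical
  refine ⟨⟨fun a b => ⟨a ∪ b, Finset.subset_union_left, Finset.subset_union_right⟩⟩, ⟨∅⟩, fun i => ?_,
    fun i j k hij hjk => ?_, fun i j h => ?_, fun a => ?_, fun i x hx => ⟨i, le_rfl, ?_⟩⟩
  · exact RingHom.ext fun _ => rfl
  · exact RingHom.ext fun _ => rfl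
  · exact RingHom.ext fun _ => rfl
  · exact ⟨{a}, ⟨a, Algebra.subset_adjoin (by simp)⟩, rfl⟩
  · exact Subtype.ext hx

/-- Every element of a base-changed algebra uses finitely many scalars. -/
theorem exists_scalars {G S A B : Type u} [CommRing G] [CommRing S] [CommRing A] [CommRing B] [Algebra G S]
    [Algebra G A] [Algebra S B] [Algebra A B] [Algebra G B] [IsScalarTower G A B] [IsScalarTower G S B]
    [h : Algebra.IsPushout G S A B] (b : B) :
    ∃ F : Finset A, b ∈ Subring.closure (Set.range (algebraMap S B) ∪ algebraMap A B '' (F : Set A)) := by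
  classical
  induction b using h.out.inductionOn with
  | zero => exact ⟨∅, zero_mem _⟩
  | tmul a => exact ⟨{a}, Subring.subset_closure (Or.inr ⟨a, by simp, rfl⟩)⟩
  | smul s x hx =>
    obtain ⟨F, hF⟩ := hx
    refine ⟨F, ?_⟩
    rw [Algebra.smul_def]
    exact mul_mem (Subring.subset_closure (Or.inl (Set.mem_range_self s))) hF
  | add x y hx hy =>
    obtain ⟨F₁, h₁⟩ := hx
    obtain ⟨F₂, h₂⟩ := hy
    exact ⟨F₁ ∪ F₂, add_mem (Subring.closure_mono (Set.union_subset_union_right _
      (Set.image_mono (Finset.coe_subset.2 Finset.subset_union_left))) h₁)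
      (Subring.closure_mono (Set.union_subset_union_right _
      (Set.image_mono (Finset.coe_subset.2 Finset.subset_union_right))) h₂)⟩

/-- Finitely presented data and one element are defined over a noetherian ring mapping to the base. -/
theorem exists_stage {A B : Type u} [CommRing A] [CommRing B] [Algebra A B] [Algebra.FinitePresentation A B]
    (M : Type u) [AddCommGroup M] [Module B M] [Module.FinitePresentation B M] (t : B) :
    ∃ (G : Type u) (_ : CommRing G) (_ : Algebra G A) (S : Type u) (_ : CommRing S) (_ : Algebra G S) (_ : Algebra S B)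
      (_ : Algebra G B) (_ : IsScalarTower G A B) (_ : IsScalarTower G S B)
      (M₀ : Type u) (_ : AddCommGroup M₀) (_ : Module S M₀) (_ : Module S M) (_ : IsScalarTower S B M)
      (k : M₀ →ₗ[S] M) (A0 : Type u) (_ : CommRing A0) (_ : Algebra A0 A) (inc : G →+* A0),
      IsNoetherianRing A0 ∧ Algebra.FinitePresentation G S ∧ Algebra.IsPushout G S A B ∧
      Module.FinitePresentation S M₀ ∧ IsBaseChange B k ∧ (algebraMap A0 A).comp inc = algebraMap G A ∧
      t ∈ Subring.closure (Set.range (algebraMap S B) ∪ algebraMap A B '' Set.range (algebraMap A0 A)) := by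
  classical
  obtain ⟨i, S, _, _, _, _, _, _, M₀, _, _, _, _, _, _, k, hSfp, hpo, hMfp, hk⟩ :=
    PureStageModel.exists_model _ _ (adjoin_colimit A) B M
  haveI := hpo
  obtain ⟨F, hF⟩ := exists_scalars (G := (Algebra.adjoin ℤ (i : Set A) : Subalgebra ℤ A)) (S := S) (A := A) t
  let A0 : Subalgebra ℤ A := Algebra.adjoin ℤ ((i ∪ F : Finset A) : Set A)
  haveI : Algebra.FiniteType ℤ A0 := .adjoin_of_finite (Finset.finite_toSet _)
  haveI : IsNoetherianRing A0 := Algebra.FiniteType.isNoetherianRing ℤ A0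
  refine ⟨(Algebra.adjoin ℤ (i : Set A) : Subalgebra ℤ A), inferInstance, inferInstance, S, inferInstance,
    inferInstance, inferInstance, inferInstance, inferInstance, inferInstance, M₀, inferInstance, inferInstance,
    inferInstance, inferInstance, k, A0, inferInstance, inferInstance,
    (Subalgebra.inclusion (Algebra.adjoin_mono (by simp))).toRingHom, inferInstance, hSfp, hpo, hMfp, hk, rfl, ?_⟩
  refine Subring.closure_mono (Set.union_subset_union_right _ (Set.image_mono fun a ha => ?_)) hF
  exact ⟨⟨a, Algebra.subset_adjoin (by simp [Finset.mem_coe.1 ha])⟩, rfl⟩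

variable {A B : Type u} [CommRing A] [CommRing B] [Algebra A B]

/-- Localisations of modules survive a change of the ground ring. -/
theorem isLocalizedModule_baseChange {T : Submonoid B} {M N : Type u} [AddCommGroup M] [Module B M] [Module A M]
    [IsScalarTower A B M] [AddCommGroup N] [Module B N] [Module A N] [IsScalarTower A B N]
    {k : M →ₗ[B] N} [IsLocalizedModule T k]
    {R B1 : Type u} [CommRing R] [Algebra A R] [CommRing B1] [Algebra B B1]
    {M1 N1 : Type u} [AddCommGroup M1] [Module B M1] [Module B1 M1] [Module R M1] [Module A M1]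
    [IsScalarTower A R M1] [IsScalarTower B B1 M1] [IsScalarTower A B M1] [SMulCommClass R B M1]
    [AddCommGroup N1] [Module B N1] [Module B1 N1] [Module R N1] [Module A N1]
    [IsScalarTower A R N1] [IsScalarTower B B1 N1] [IsScalarTower A B N1] [SMulCommClass R B N1]
    {iM : M →ₗ[B] M1} (hM : IsBaseChange R (iM.restrictScalars A))
    {iN : N →ₗ[B] N1} (hN : IsBaseChange R (iN.restrictScalars A))
    (ψ : M1 →ₗ[B1] N1) (hψR : ∀ (r : R) (x : M1), ψ (r • x) = r • ψ x) (hψ : ∀ x, ψ (iM x) = iN (k x)) :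
    IsLocalizedModule (T.map (algebraMap B B1)) ψ := by
  let mk : ∀ (X X1 : Type u) [AddCommGroup X] [Module B X] [Module A X] [IsScalarTower A B X]
      [AddCommGroup X1] [Module B X1] [Module A X1] [Module R X1] [IsScalarTower A R X1] [IsScalarTower A B X1]
      [SMulCommClass R B X1] (i : X →ₗ[B] X1), IsBaseChange R (i.restrictScalars A) → (X ⊗[A] R ≃ₗ[B] X1) :=
    fun X X1 _ _ _ _ _ _ _ _ _ _ _ i hi =>
    { ((TensorProduct.comm A X R).toAddEquiv.trans hi.equiv.toAddEquiv) with
      map_smul' := fun b z => by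
        show hi.equiv (TensorProduct.comm A X R (b • z)) = b • hi.equiv (TensorProduct.comm A X R z)
        induction z using TensorProduct.induction_on with
        | zero => simp
        | tmul x r => simp [TensorProduct.smul_tmul', IsBaseChange.equiv_tmul, smul_comm r b]
        | add u v hu hv => simp only [smul_add, map_add, hu, hv] }
  have hmk : ∀ (X X1 : Type u) [AddCommGroup X] [Module B X] [Module A X] [IsScalarTower A B X]
      [AddCommGroup X1] [Module B X1] [Module A X1] [Module R X1] [IsScalarTower A R X1] [IsScalarTower A B X1]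
      [SMulCommClass R B X1] (i : X →ₗ[B] X1) (hi : IsBaseChange R (i.restrictScalars A)) (x : X) (r : R),
      mk X X1 i hi (x ⊗ₜ[A] r) = r • i x := fun X X1 _ _ _ _ _ _ _ _ _ _ _ i hi x r => hi.equiv_tmul r x
  let eM := mk M M1 iM hM
  let eN := mk N N1 iN hN
  let g := TensorProduct.AlgebraTensorModule.rTensor A R k
  haveI : IsLocalizedModule T g := IsLocalizedModule.rTensor T (R := A) (A := B) (N := R) k
  haveI : IsLocalizedModule T (eN.toLinearMap.comp g) := IsLocalizedModule.of_linearEquiv T g eN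
  haveI : IsLocalizedModule T ((eN.toLinearMap.comp g).comp eM.symm.toLinearMap) :=
    IsLocalizedModule.of_linearEquiv_right T _ eM.symm
  have heq : (eN.toLinearMap.comp g).comp eM.symm.toLinearMap = ψ.restrictScalars B := LinearMap.ext fun y => by
    obtain ⟨z, rfl⟩ := eM.surjective y
    simp only [LinearMap.comp_apply, LinearEquiv.coe_coe, LinearEquiv.symm_apply_apply,
      LinearMap.restrictScalars_apply]
    induction z using TensorProduct.induction_on with
    | zero => simp
    | tmul x r =>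
      show eN (k x ⊗ₜ[A] r) = ψ (eM (x ⊗ₜ[A] r))
      rw [hmk, hmk, hψR, hψ]
    | add u v hu hv => simp only [map_add, hu, hv]
  haveI hl : IsLocalizedModule T (ψ.restrictScalars B) := heq ▸ inferInstance
  refine ⟨?_, fun y => ?_, ?_⟩
  · rintro ⟨_, t, ht, rfl⟩
    have h1 := (Module.End.isUnit_iff _).1 (IsLocalizedModule.map_units (ψ.restrictScalars B) (⟨t, ht⟩ : T))
    rw [Module.End.isUnit_iff]
    convert h1 using 1
    exact funext fun y => algebraMap_smul B1 t y
  · obtain ⟨⟨m, s⟩, hms⟩ := IsLocalizedModule.surj T (ψ.restrictScalars B) y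
    refine ⟨(m, ⟨_, s, s.2, rfl⟩), ?_⟩
    rw [Submonoid.smul_def]
    exact (algebraMap_smul B1 (s : B) y).trans hms
  · intro a b hab
    obtain ⟨c, hc⟩ := IsLocalizedModule.exists_of_eq (S := T) (f := ψ.restrictScalars B) hab
    refine ⟨⟨_, c, c.2, rfl⟩, ?_⟩
    rw [Submonoid.smul_def, Submonoid.smul_def]
    exact (algebraMap_smul B1 (c : B) a).trans (hc.trans (algebraMap_smul B1 (c : B) b).symm)

variable [Algebra.FinitePresentation A B] (T : Submonoid B) (N : Type u) [AddCommGroup N]
  [Module (Localization T) N] [Module B N] [Module A N] [IsScalarTower B (Localization T) N]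
  [IsScalarTower A (Localization T) N] [IsScalarTower A B N] [Module.FinitePresentation (Localization T) N]

omit [IsScalarTower A (Localization T) N] in
/-- Modulo a finitely generated ideal inside the maximal ideal there is a pure spreadout. -/
theorem exists_ideal (p : Ideal A) [p.IsPrime] :
    ∃ I : Ideal (Localization.AtPrime p), I.FG ∧ I ≤ maximalIdeal (Localization.AtPrime p) ∧
      ∀ (B₁ N₁ : Type u) [CommRing B₁] [Algebra B B₁] [Algebra (Localization.AtPrime p ⧸ I) B₁] [Algebra A B₁]
        [IsScalarTower A B B₁] [IsScalarTower A (Localization.AtPrime p ⧸ I) B₁]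
        [Algebra.IsPushout A B (Localization.AtPrime p ⧸ I) B₁]
        [AddCommGroup N₁] [Module (Localization (T.map (algebraMap B B₁))) N₁] [Module (Localization.AtPrime p ⧸ I) N₁]
        [IsScalarTower (Localization.AtPrime p ⧸ I) (Localization (T.map (algebraMap B B₁))) N₁]
        [Module B N₁] [IsScalarTower B (Localization (T.map (algebraMap B B₁))) N₁]
        [Module A N₁] [IsScalarTower A (Localization.AtPrime p ⧸ I) N₁] [IsScalarTower A B N₁]
        (h : N →ₗ[B] N₁), IsBaseChange (Localization.AtPrime p ⧸ I) (h.restrictScalars A) →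
        FlatCA.HasPureSpreadout (Localization.AtPrime p ⧸ I) B₁ (T.map (algebraMap B B₁)) N₁ := by
  classical
  obtain ⟨Nf, _, _, kN, hNf, hkN⟩ := SpreadSelect.exists_model T N
  haveI := hNf
  haveI : IsLocalizedModule T kN := (isLocalizedModule_iff_isBaseChange T (Localization T) kN).2 hkN
  letI : Module A Nf := Module.compHom Nf (algebraMap A B)
  haveI : IsScalarTower A B Nf := .of_algebraMap_smul fun _ _ => rfl
  let L := Localization.AtPrime p
  obtain ⟨t, ht, hsel⟩ := SpreadSelect.exists_element (A := A) (ResidueField L) Nf T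
  obtain ⟨G, _, _, S, _, _, _, _, _, _, M, _, _, _, _, k, A0, _, _, inc, hA0, hSfp, hpo, hMfp, hk, hinc, hF⟩ :=
    exists_stage (A := A) Nf t
  haveI := hpo
  haveI := hA0
  let p0 : Ideal A0 := p.comap (algebraMap A0 A)
  let I : Ideal L := p0.map ((algebraMap A L).comp (algebraMap A0 A))
  have hI : I ≤ maximalIdeal L := Ideal.map_le_iff_le_comap.2 fun a ha =>
    (IsLocalization.AtPrime.to_map_mem_maximal_iff L p (algebraMap A0 A a)).2 ha
  refine ⟨I, (show p0.FG from IsNoetherian.noetherian p0).map _, hI, ?_⟩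
  intro B₁ N₁ _ _ _ _ _ _ _ _ _ _ _ _ _ _ _ _ h hh
  haveI : Nontrivial (L ⧸ I) := Ideal.Quotient.nontrivial_iff.2 fun htop =>
    (maximalIdeal.isMaximal L).ne_top (top_le_iff.1 (htop ▸ hI))
  haveI : IsLocalRing (L ⧸ I) := IsLocalRing.of_surjective' (Ideal.Quotient.mk I) Ideal.Quotient.mk_surjective
  -- the field of definition
  let ι0 : A0 →+* L ⧸ I := (algebraMap A (L ⧸ I)).comp (algebraMap A0 A)
  have hι0 : p0 ≤ RingHom.ker ι0 := fun a ha => by
    show algebraMap A (L ⧸ I) (algebraMap A0 A a) = 0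
    rw [IsScalarTower.algebraMap_apply A L (L ⧸ I)]
    exact Ideal.Quotient.eq_zero_iff_mem.2 (Ideal.mem_map_of_mem _ ha)
  have hι0' : p0.primeCompl ≤ (IsUnit.submonoid (L ⧸ I)).comap ι0 := fun a ha => by
    show IsUnit (algebraMap A (L ⧸ I) (algebraMap A0 A a))
    rw [IsScalarTower.algebraMap_apply A L (L ⧸ I)]
    exact (IsLocalization.map_units L (⟨algebraMap A0 A a, ha⟩ : p.primeCompl)).map _
  let K := p0.ResidueField
  letI : Algebra K (L ⧸ I) := (Ideal.ResidueField.lift p0 ι0 hι0 hι0').toAlgebra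
  letI : Algebra G K := ((algebraMap A0 K).comp inc).toAlgebra
  letI : Algebra G B₁ := ((algebraMap A B₁).comp (algebraMap G A)).toAlgebra
  haveI : IsScalarTower G A (L ⧸ I) := inferInstance
  haveI : IsScalarTower G A B₁ := .of_algebraMap_eq' rfl
  haveI : IsScalarTower G B B₁ := IsScalarTower.of_algebraMap_eq (R := G) (S := B) (A := B₁) fun g => by
    show algebraMap A B₁ (algebraMap G A g) = _
    rw [IsScalarTower.algebraMap_apply A B B₁, ← IsScalarTower.algebraMap_apply G A B]
  haveI : IsScalarTower G (L ⧸ I) B₁ := IsScalarTower.of_algebraMap_eq (R := G) (S := L ⧸ I) (A := B₁) fun g => by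
    show algebraMap A B₁ (algebraMap G A g) = _
    rw [IsScalarTower.algebraMap_apply A (L ⧸ I) B₁, ← IsScalarTower.algebraMap_apply G A (L ⧸ I)]
  haveI : IsScalarTower G K (L ⧸ I) := .of_algebraMap_eq fun g => by
    refine Eq.trans ?_ (Ideal.ResidueField.lift_algebraMap p0 ι0 hι0 hι0' (inc g)).symm
    rw [IsScalarTower.algebraMap_apply G A (L ⧸ I)]
    exact congrArg (algebraMap A (L ⧸ I)) (RingHom.congr_fun hinc g).symm
  letI : Algebra K B₁ := ((algebraMap (L ⧸ I) B₁).comp (algebraMap K (L ⧸ I))).toAlgebra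
  haveI : IsScalarTower K (L ⧸ I) B₁ := .of_algebraMap_eq' rfl
  haveI : IsScalarTower G K B₁ := .of_algebraMap_eq fun g => by
    show _ = algebraMap (L ⧸ I) B₁ (algebraMap K (L ⧸ I) (algebraMap G K g))
    rw [← IsScalarTower.algebraMap_apply G K (L ⧸ I), ← IsScalarTower.algebraMap_apply G (L ⧸ I) B₁]
  letI : Algebra S B₁ := ((algebraMap B B₁).comp (algebraMap S B)).toAlgebra
  haveI : IsScalarTower S B B₁ := .of_algebraMap_eq' rfl
  haveI : IsScalarTower G S B₁ := .of_algebraMap_eq fun g => by
    show _ = algebraMap B B₁ (algebraMap S B (algebraMap G S g))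
    rw [← IsScalarTower.algebraMap_apply G S B, ← IsScalarTower.algebraMap_apply G B B₁]
  let Bk := K ⊗[G] S
  let lf : Bk →ₐ[K] B₁ := Algebra.TensorProduct.lift (Algebra.ofId K B₁) (IsScalarTower.toAlgHom G S B₁)
    fun _ _ => Commute.all _ _
  letI : Algebra Bk B₁ := lf.toRingHom.toAlgebra
  letI : Algebra S Bk := Algebra.TensorProduct.rightAlgebra
  haveI : IsScalarTower K Bk B₁ := .of_algebraMap_eq fun x => (lf.commutes x).symm
  haveI : IsScalarTower S Bk B₁ := .of_algebraMap_eq fun x => by
    show _ = lf ((1 : K) ⊗ₜ[G] x)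
    rw [show lf ((1 : K) ⊗ₜ[G] x) = algebraMap K B₁ 1 * algebraMap S B₁ x from
      Algebra.TensorProduct.lift_tmul _ _ _ _ _, map_one, one_mul]
  haveI : IsScalarTower G Bk B₁ := IsScalarTower.of_algebraMap_eq (R := G) (S := Bk) (A := B₁) fun g => by
    rw [IsScalarTower.algebraMap_apply G K Bk, ← IsScalarTower.algebraMap_apply K Bk B₁,
      ← IsScalarTower.algebraMap_apply G K B₁]
  haveI : Algebra.IsPushout G S K Bk := Algebra.IsPushout.symm inferInstance
  haveI : Algebra.IsPushout G S A B := hpo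
  haveI hpoA : Algebra.IsPushout A (L ⧸ I) B B₁ := Algebra.IsPushout.symm inferInstance
  haveI hpoG : Algebra.IsPushout G (L ⧸ I) S B₁ := by
    haveI : Algebra.IsPushout G A S B := Algebra.IsPushout.symm inferInstance
    exact (Algebra.IsPushout.comp_iff G A S B).2 hpoA
  haveI : Algebra.IsPushout K (L ⧸ I) Bk B₁ := by
    haveI : Algebra.IsPushout G K S Bk := inferInstance
    exact (Algebra.IsPushout.comp_iff G K S Bk).1 hpoG
  haveI : Algebra.FiniteType K Bk := Algebra.FiniteType.baseChange K
  -- the modules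
  let Mk := Bk ⊗[S] M
  let M1 := B₁ ⊗[B] Nf
  haveI : IsScalarTower Bk B₁ M1 := inferInstance
  haveI : IsScalarTower (L ⧸ I) B₁ M1 := inferInstance
  haveI : IsScalarTower K (L ⧸ I) M1 := IsScalarTower.to₁₂₄ K (L ⧸ I) B₁ M1
  haveI : IsScalarTower K Bk M1 := IsScalarTower.to₁₂₄ K Bk B₁ M1
  haveI : IsScalarTower S Bk M1 := IsScalarTower.to₁₂₄ S Bk B₁ M1
  haveI : IsScalarTower S B M1 := IsScalarTower.to₁₂₄ S B B₁ M1
  haveI : IsScalarTower A (L ⧸ I) M1 := IsScalarTower.to₁₂₄ A (L ⧸ I) B₁ M1
  let i1 : Nf →ₗ[B] M1 := TensorProduct.mk B B₁ Nf 1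
  have hi1 : IsBaseChange B₁ i1 := TensorProduct.isBaseChange B Nf B₁
  have hR1 : IsBaseChange (L ⧸ I) (i1.restrictScalars A) := SpreadCore.isBaseChange_restrict hi1
  have hmk : IsBaseChange Bk (TensorProduct.mk S Bk M 1) := TensorProduct.isBaseChange S M Bk
  let φ : Mk →ₗ[Bk] M1 := hmk.lift ((i1.restrictScalars S).comp k)
  have hφ : IsBaseChange B₁ φ := by
    refine IsBaseChange.of_comp hmk ?_
    rw [hmk.lift_comp]
    exact hk.comp hi1
  letI : Module B₁ N₁ := Module.compHom N₁ (algebraMap B₁ (Localization (T.map (algebraMap B B₁))))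
  haveI : IsScalarTower B₁ (Localization (T.map (algebraMap B B₁))) N₁ := .of_algebraMap_smul fun _ _ => rfl
  haveI : IsScalarTower B B₁ N₁ := .of_algebraMap_smul fun b x => by
    rw [← algebraMap_smul (Localization (T.map (algebraMap B B₁))) b x,
      IsScalarTower.algebraMap_apply B B₁ (Localization (T.map (algebraMap B B₁))) b]
    exact (algebraMap_smul (Localization (T.map (algebraMap B B₁))) (algebraMap B B₁ b) x).symm
  haveI : IsScalarTower (L ⧸ I) B₁ N₁ := .of_algebraMap_smul fun b x => by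
    rw [← algebraMap_smul (Localization (T.map (algebraMap B B₁))) b x,
      IsScalarTower.algebraMap_apply (L ⧸ I) B₁ (Localization (T.map (algebraMap B B₁))) b]
    exact (algebraMap_smul (Localization (T.map (algebraMap B B₁))) (algebraMap (L ⧸ I) B₁ b) x).symm
  let ψ : M1 →ₗ[B₁] N₁ := hi1.lift (h.comp kN)
  haveI : SMulCommClass (L ⧸ I) B M1 := ⟨fun r b x => by
    rw [← algebraMap_smul B₁ r (b • x), ← algebraMap_smul B₁ r x, ← algebraMap_smul B₁ b x,
      ← algebraMap_smul B₁ b (algebraMap (L ⧸ I) B₁ r • x), smul_comm]⟩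
  haveI : SMulCommClass (L ⧸ I) B N₁ := ⟨fun r b x => by
    rw [← algebraMap_smul B₁ r (b • x), ← algebraMap_smul B₁ r x, ← algebraMap_smul B₁ b x,
      ← algebraMap_smul B₁ b (algebraMap (L ⧸ I) B₁ r • x), smul_comm]⟩
  haveI : IsLocalizedModule (T.map (algebraMap B B₁)) ψ := isLocalizedModule_baseChange (k := kN) hR1 hh ψ
    (fun r x => ψ.map_smul_of_tower r x) fun x => hi1.lift_eq _ x
  -- the chosen element
  obtain ⟨tk, htk⟩ : algebraMap B B₁ t ∈ lf.toRingHom.range := by
    have hle : Subring.closure (Set.range (algebraMap S B) ∪ algebraMap A B '' Set.range (algebraMap A0 A)) ≤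
        lf.toRingHom.range.comap (algebraMap B B₁) := by
      rw [Subring.closure_le]
      rintro _ (⟨s, rfl⟩ | ⟨_, ⟨a, rfl⟩, rfl⟩)
      · refine ⟨(1 : K) ⊗ₜ[G] s, ?_⟩
        show lf ((1 : K) ⊗ₜ[G] s) = _
        rw [show lf ((1 : K) ⊗ₜ[G] s) = algebraMap K B₁ 1 * algebraMap S B₁ s from
          Algebra.TensorProduct.lift_tmul _ _ _ _ _, map_one, one_mul, IsScalarTower.algebraMap_apply S B B₁]
      · refine ⟨algebraMap K Bk (algebraMap A0 K a), ?_⟩
        show lf (algebraMap K Bk _) = _
        rw [lf.commutes, IsScalarTower.algebraMap_apply K (L ⧸ I) B₁, ← IsScalarTower.algebraMap_apply A B B₁,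
          IsScalarTower.algebraMap_apply A (L ⧸ I) B₁]
        exact congrArg _ (Ideal.ResidueField.lift_algebraMap p0 ι0 hι0 hι0' _)
    exact hle hF
  refine SpreadCore.hasPureSpreadout K hφ tk (T.map (algebraMap B B₁)) (Submonoid.mem_map.2 ⟨t, ht, htk.symm⟩) N₁ ψ ?_
  -- comparison of the closed fibres
  haveI : IsLocalHom (Ideal.Quotient.mk I) := ⟨fun a ha => by
    by_contra hn
    have hm : a ∈ maximalIdeal L := (IsLocalRing.mem_maximalIdeal a).2 hn
    obtain ⟨u, hu⟩ := ha.exists_right_inv
    obtain ⟨b, rfl⟩ := Ideal.Quotient.mk_surjective u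
    rw [← map_mul, ← map_one (Ideal.Quotient.mk I), Ideal.Quotient.eq] at hu
    exact (maximalIdeal.isMaximal L).ne_top ((Ideal.eq_top_iff_one _).2
      (by simpa using sub_mem (Ideal.mul_mem_right b _ hm) (hI hu)))⟩
  let ε : ResidueField L →ₗ[A] ResidueField (L ⧸ I) :=
    { toFun := ResidueField.map (Ideal.Quotient.mk I)
      map_add' := map_add _
      map_smul' := fun a x => by
        rw [Algebra.smul_def, map_mul, RingHom.id_apply, Algebra.smul_def]
        rfl }
  have hεb : Function.Bijective ε := ⟨(ResidueField.map (Ideal.Quotient.mk I)).injective, fun x => by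
    obtain ⟨y, rfl⟩ := residue_surjective x
    obtain ⟨z, rfl⟩ := Ideal.Quotient.mk_surjective y
    exact ⟨residue L z, rfl⟩⟩
  let θ : ResidueField L ⊗[A] Nf ≃+ ResidueField (L ⧸ I) ⊗[L ⧸ I] M1 :=
    ((LinearEquiv.ofBijective ε hεb).rTensor Nf).toAddEquiv.trans
      (((TensorProduct.AlgebraTensorModule.cancelBaseChange A (L ⧸ I) (L ⧸ I) (ResidueField (L ⧸ I)) Nf).symm.toAddEquiv).trans
        (hR1.equiv.lTensor (ResidueField (L ⧸ I))).toAddEquiv)
  have hθ : ∀ (b : B) (y : ResidueField L ⊗[A] Nf),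
      (SpreadCore.mul (L ⧸ I) M1 (algebraMap B B₁ b)).lTensor _ (θ y) =
        θ (((LinearMap.lsmul B Nf b).restrictScalars A).lTensor _ y) := by
    intro b y
    induction y using TensorProduct.induction_on with
    | zero => simp
    | tmul c n =>
      show (SpreadCore.mul (L ⧸ I) M1 (algebraMap B B₁ b)).lTensor _
          (ε c ⊗ₜ[L ⧸ I] hR1.equiv ((1 : L ⧸ I) ⊗ₜ[A] n)) = ε c ⊗ₜ[L ⧸ I] hR1.equiv ((1 : L ⧸ I) ⊗ₜ[A] (b • n))
      rw [LinearMap.lTensor_tmul, IsBaseChange.equiv_tmul, IsBaseChange.equiv_tmul, one_smul, one_smul,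
        SpreadCore.mul_apply, algebraMap_smul]
      exact congrArg _ (i1.map_smul b n).symm
    | add u v hu hv => simp only [map_add, hu, hv]
  rintro _ ⟨s, hs, rfl⟩ z hz
  obtain ⟨y, rfl⟩ := θ.surjective z
  rw [show algebraMap Bk B₁ tk = algebraMap B B₁ t from htk, hθ] at hz ⊢
  rw [hθ, θ.map_eq_zero_iff] at hz
  rw [θ.map_eq_zero_iff]
  exact hsel s hs y hz

end Groth.Agent.Lib.RG57.SpreadMain
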