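import Groth.Agent.Lib.RG57.FlatPtsInduct
import Groth.Agent.Lib.RG57.SpreadMain

/-!
# The flattening ideal over a henselian local ring
-/

set_option autoImplicit false
set_option linter.style.haveILetI false
set_option maxHeartbeats 400000

universe u

open IsLocalRing
open scoped TensorProduct

attribute [local instance] Algebra.TensorProduct.rightAlgebra

namespace Groth.Agent.Lib.RG57.FlatPtsModel

open FlatPts (FlatPts)

/-- A module all of whose elements die at a prime is flat there. -/
theorem flat_of_killed {A T X : Type u} [CommRing A] [CommRing T] [Algebra A T] [AddCommGroup X] [Module T X]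
    [Module A X] [IsScalarTower A T X] (Q : Ideal T) [Q.IsPrime] (h : ∀ x : X, ∃ w, w ∉ Q ∧ w • x = 0) :
    Module.Flat A (LocalizedModule Q.primeCompl X) := by
  haveI : Subsingleton (LocalizedModule Q.primeCompl X) := subsingleton_of_forall_eq 0 fun z => by
    induction z using LocalizedModule.induction_on with
    | h x s =>
      obtain ⟨w, hw, hwx⟩ := h x
      rw [← LocalizedModule.zero_mk (1 : Q.primeCompl), LocalizedModule.mk_eq]
      exact ⟨⟨w, hw⟩, by simp only [one_smul, smul_zero, Submonoid.smul_def]; exact hwx⟩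
  infer_instance

/-- A finitely presented module over a localisation is a localisation of a finitely presented module. -/
theorem exists_fp_model {P L : Type u} [CommRing P] [CommRing L] [Algebra P L] (W : Submonoid P) [IsLocalization W L]
    (N : Type u) [AddCommGroup N] [Module L N] [Module P N] [IsScalarTower P L N] [Module.FinitePresentation L N] :
    ∃ (M : Type u) (_ : AddCommGroup M) (_ : Module P M) (k : M →ₗ[P] N),
      Module.FinitePresentation P M ∧ IsLocalizedModule W k := by
  classical
  obtain ⟨r, K, e, hK⟩ := Module.FinitePresentation.exists_fin L N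
  obtain ⟨n, v, hv⟩ := Submodule.fg_iff_exists_fin_generating_family.1 hK
  obtain ⟨b, hb⟩ := IsLocalization.exist_integer_multiples W (Finset.univ : Finset (Fin n × Fin r)) fun x => v x.1 x.2
  have hb' : ∀ a i, ∃ w : P, algebraMap P L w = (b : P) • v a i := fun a i => hb (a, i) (Finset.mem_univ _)
  choose w hw using hb'
  let v' : Fin n → Fin r → L := fun a i => algebraMap P L (w a i)
  have hspan : Submodule.span L (Set.range v') = K := by
    have hu := IsLocalization.map_units L b
    have hv' : ∀ a, v' a = algebraMap P L b • v a := fun a => funext fun i => by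
      simp only [v', hw, Pi.smul_apply, algebraMap_smul]
    refine le_antisymm (Submodule.span_le.2 ?_) (hv ▸ Submodule.span_le.2 ?_)
    · rintro _ ⟨a, rfl⟩
      rw [hv']
      exact K.smul_mem _ (hv ▸ Submodule.subset_span (Set.mem_range_self a))
    · rintro _ ⟨a, rfl⟩
      have h1 : algebraMap P L b • v a ∈ Submodule.span L (Set.range v') :=
        hv' a ▸ Submodule.subset_span (Set.mem_range_self a)
      exact (Submodule.smul_mem_iff_of_isUnit _ hu).1 h1
  let e' : ((Fin r → L) ⧸ Submodule.span L (Set.range v')) ≃ₗ[L] N :=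
    (Submodule.quotEquivOfEq _ _ hspan).trans e.symm
  exact ⟨(Fin r → P) ⧸ Submodule.span P (Set.range w), inferInstance, inferInstance,
    (e'.toLinearMap.restrictScalars P).comp (Flat55.Presented.quotMap w v' fun _ _ => rfl),
    Module.finitePresentation_of_surjective (Submodule.mkQ (Submodule.span P (Set.range w)))
      (Submodule.mkQ_surjective _) (by rw [Submodule.ker_mkQ]; exact Submodule.fg_span (Set.finite_range _)),
    (isLocalizedModule_iff_isBaseChange W L _).2
      ((Flat55.Presented.isBaseChange_quotMap w v' fun _ _ => rfl).comp (IsBaseChange.ofEquiv e'))⟩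

section Translate

variable {A P B : Type u} [CommRing A] [CommRing P] [CommRing B] [IsLocalRing B] [Algebra A P] [Algebra A B]
  [Algebra P B] [IsScalarTower A P B] (q : Ideal P) [q.IsPrime]
  (hunit : ∀ s, s ∉ q → IsUnit (algebraMap P B s))
  (hfrac : ∀ b : B, ∃ s ∉ q, ∃ c, algebraMap P B s * b = algebraMap P B c)
  (hq : (maximalIdeal B).comap (algebraMap P B) = q)
  {N₁ M : Type u} [AddCommGroup N₁] [Module P N₁] [Module A N₁] [IsScalarTower A P N₁]
  [AddCommGroup M] [Module B M] [Module P M] [Module A M] [IsScalarTower P B M] [IsScalarTower A B M]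
  [IsScalarTower A P M]
  {A' : Type u} [CommRing A'] [IsLocalRing A'] [Algebra A A']
  {B' : Type u} [CommRing B'] [Algebra B B'] [Algebra A' B'] [Algebra A B'] [IsScalarTower A B B']
  [IsScalarTower A A' B'] [Algebra.IsPushout A B A' B']
  {M' : Type u} [AddCommGroup M'] [Module B' M'] [Module B M'] [IsScalarTower B B' M'] [Module A' M']
  [IsScalarTower A' B' M'] {f : M →ₗ[B] M'} (hf : IsBaseChange B' f)
  {T : Type u} [CommRing T] [Algebra A' T] [Algebra P T] [Algebra A T] [IsScalarTower A A' T] [IsScalarTower A P T]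
  [Algebra.IsPushout A A' P T]
  {X : Type u} [AddCommGroup X] [Module T X] [Module P X] [Module A' X] [IsScalarTower P T X] [IsScalarTower A' T X]
  {fX : N₁ →ₗ[P] X} (hfX : IsBaseChange T fX)

include hunit hfrac hq hf hfX

/-- Flatness over the local algebra is flatness at the points of the model. -/
theorem translate_aux (k : N₁ →ₗ[P] M) [IsLocalizedModule q.primeCompl k] (φ : T →+* B') (hφA : ∀ a, φ (algebraMap A' T a) = algebraMap A' B' a)
    (hφP : ∀ x, φ (algebraMap P T x) = algebraMap B B' (algebraMap P B x)) :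
    (∀ (q' : Ideal B') [q'.IsPrime], (maximalIdeal A').map (algebraMap A' B') ⊔ (maximalIdeal B).map (algebraMap B B') ≤ q' →
        _root_.FlatCA.FlatAt A' q' M') ↔ FlatPts A q N₁ A' := by
  letI : Algebra T B' := φ.toAlgebra
  letI : Module T M' := Module.compHom M' φ
  haveI : IsScalarTower T B' M' := .of_algebraMap_smul fun _ _ => rfl
  letI : Module P M' := Module.compHom M' (algebraMap P B)
  haveI : IsScalarTower P B M' := .of_algebraMap_smul fun _ _ => rfl
  haveI : IsScalarTower P T M' := .of_algebraMap_smul fun x m => by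
    show φ (algebraMap P T x) • m = algebraMap P B x • m
    rw [hφP, algebraMap_smul]
  haveI : IsScalarTower A' T M' := .of_algebraMap_smul fun x m => by
    show φ (algebraMap A' T x) • m = x • m
    rw [hφA, algebraMap_smul]
  haveI : IsScalarTower A' T B' := .of_algebraMap_eq fun x => (hφA x).symm
  letI : Module A X := Module.compHom X (algebraMap A T)
  haveI : IsScalarTower A T X := .of_algebraMap_smul fun _ _ => rfl
  haveI : IsScalarTower A A' X := IsScalarTower.to₁₂₄ A A' T X
  haveI : IsScalarTower A P X := IsScalarTower.to₁₂₄ A P T X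
  letI : Module A M' := Module.compHom M' (algebraMap A B')
  haveI : IsScalarTower A B' M' := .of_algebraMap_smul fun _ _ => rfl
  haveI : IsScalarTower A A' M' := IsScalarTower.to₁₂₄ A A' B' M'
  haveI : IsScalarTower A B M' := IsScalarTower.to₁₂₄ A B B' M'
  haveI : IsScalarTower A P M' := IsScalarTower.to₁₂₄ A P B M'
  haveI : Algebra.IsPushout A A' B B' := Algebra.IsPushout.symm inferInstance
  haveI : SMulCommClass A' P X := ⟨fun r b x => by
    rw [← algebraMap_smul T r (b • x), ← algebraMap_smul T r x, ← algebraMap_smul T b x,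
      ← algebraMap_smul T b (algebraMap A' T r • x), smul_comm]⟩
  haveI : SMulCommClass A' P M' := ⟨fun r b x => by
    rw [← algebraMap_smul T r (b • x), ← algebraMap_smul T r x, ← algebraMap_smul T b x,
      ← algebraMap_smul T b (algebraMap A' T r • x), smul_comm]⟩
  have hfA : IsBaseChange A' ((f.restrictScalars P).restrictScalars A) := SpreadCore.isBaseChange_restrict (f := f) hf
  have hfXA : IsBaseChange A' (fX.restrictScalars A) := SpreadCore.isBaseChange_restrict hfX
  let g : X →ₗ[T] M' := hfX.lift ((f.restrictScalars P).comp k)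
  haveI hgloc : IsLocalizedModule (q.primeCompl.map (algebraMap P T)) g :=
    SpreadMain.isLocalizedModule_baseChange (k := k) hfXA hfA g (fun r x => g.map_smul_of_tower r x)
      fun x => hfX.lift_eq _ x
  -- fractions
  have hfrac' : ∀ b' : B', ∃ s, s ∉ q ∧ ∃ t, φ (algebraMap P T s) * b' = φ t := fun b' => by
    induction b' using (inferInstance : Algebra.IsPushout A B A' B').out.inductionOn with
    | zero => exact ⟨1, q.primeCompl.one_mem, 0, by rw [map_zero, mul_zero]⟩
    | tmul a => exact ⟨1, q.primeCompl.one_mem, algebraMap A' T a, by rw [map_one, map_one, one_mul, hφA]; rfl⟩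
    | smul b x hx =>
      obtain ⟨s₁, hs₁, t₁, ht₁⟩ := hx
      obtain ⟨s₂, hs₂, c, hc⟩ := hfrac b
      refine ⟨s₂ * s₁, q.primeCompl.mul_mem hs₂ hs₁, algebraMap P T c * t₁, ?_⟩
      rw [map_mul, map_mul, map_mul, hφP c, ← hc, map_mul, ← ht₁, hφP s₂, Algebra.smul_def]
      ring
    | add x y hx hy =>
      obtain ⟨s₁, hs₁, t₁, ht₁⟩ := hx
      obtain ⟨s₂, hs₂, t₂, ht₂⟩ := hy
      refine ⟨s₁ * s₂, q.primeCompl.mul_mem hs₁ hs₂, algebraMap P T s₂ * t₁ + algebraMap P T s₁ * t₂, ?_⟩
      rw [map_mul, map_mul, map_add, map_mul, map_mul, ← ht₁, ← ht₂]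
      ring
  have hunit' : ∀ s, s ∉ q → IsUnit (φ (algebraMap P T s)) := fun s hs => by
    rw [hφP]
    exact (hunit s hs).map _
  -- localisations agree
  have key : ∀ (q' : Ideal B') [q'.IsPrime], Module.Flat A' (LocalizedModule q'.primeCompl M') ↔
      Module.Flat A' (LocalizedModule (q'.comap φ).primeCompl X) := by
    intro q' _
    let Q := q'.comap φ
    let L := LocalizedModule q'.primeCompl M'
    haveI : IsScalarTower T B' L := inferInstance
    haveI : IsScalarTower A' T L := IsScalarTower.to₁₂₄ A' T B' L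
    let l : X →ₗ[T] L := ((LocalizedModule.mkLinearMap q'.primeCompl M').restrictScalars T).comp g
    have hQs : ∀ s, s ∉ q → algebraMap P T s ∉ Q := fun s hs h =>
      Ideal.IsPrime.ne_top (I := q') inferInstance (Ideal.eq_top_of_isUnit_mem _ h (hunit' s hs))
    haveI : IsLocalizedModule Q.primeCompl l :=
      { map_units := by
          rintro ⟨w, hw⟩
          rw [Module.End.isUnit_iff]
          convert (Module.End.isUnit_iff _).1
            (IsLocalizedModule.map_units (LocalizedModule.mkLinearMap q'.primeCompl M') (⟨φ w, hw⟩ : q'.primeCompl)) using 1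
          exact funext fun z => (algebraMap_smul B' w z).symm
        surj := fun y => by
          obtain ⟨⟨m, ⟨b', hb'⟩⟩, hm⟩ := IsLocalizedModule.surj q'.primeCompl (LocalizedModule.mkLinearMap q'.primeCompl M') y
          obtain ⟨⟨x, ⟨_, s₂, hs₂, rfl⟩⟩, hx⟩ := IsLocalizedModule.surj (q.primeCompl.map (algebraMap P T)) g m
          obtain ⟨s, hs, t, ht⟩ := hfrac' b'
          have htQ : t ∉ Q := fun h => by
            have h' : φ (algebraMap P T s) * b' ∈ q' := ht ▸ h
            exact (Ideal.IsPrime.mem_or_mem inferInstance h').elim (hQs s hs) hb'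
          refine ⟨⟨algebraMap P T s • x, ⟨t * algebraMap P T s₂, Q.primeCompl.mul_mem htQ (hQs s₂ hs₂)⟩⟩, ?_⟩
          change b' • y = LocalizedModule.mkLinearMap q'.primeCompl M' m at hm
          change algebraMap P T s₂ • m = g x at hx
          show (t * algebraMap P T s₂) • y = LocalizedModule.mkLinearMap q'.primeCompl M' (g (algebraMap P T s • x))
          rw [← algebraMap_smul B' (t * algebraMap P T s₂) y, show algebraMap T B' (t * algebraMap P T s₂) = φ (t * algebraMap P T s₂) from rfl]
          rw [map_smul g, ← hx, map_mul, ← ht, mul_comm, mul_smul, mul_smul, hm, smul_comm]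
          exact ((map_smul (LocalizedModule.mkLinearMap q'.primeCompl M') (φ (algebraMap P T s)) _).trans
            (congrArg _ (map_smul (LocalizedModule.mkLinearMap q'.primeCompl M') (φ (algebraMap P T s₂)) m))).symm
        exists_of_eq := fun {x₁ x₂} h => by
          obtain ⟨⟨b', hb'⟩, hc⟩ := IsLocalizedModule.exists_of_eq (S := q'.primeCompl)
            (f := LocalizedModule.mkLinearMap q'.primeCompl M') h
          obtain ⟨s, hs, t, ht⟩ := hfrac' b'
          change b' • g x₁ = b' • g x₂ at hc
          have htQ : t ∉ Q := fun h' => by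
            have h'' : φ (algebraMap P T s) * b' ∈ q' := ht ▸ h'
            exact (Ideal.IsPrime.mem_or_mem inferInstance h'').elim (hQs s hs) hb'
          have h2 : g (t • x₁) = g (t • x₂) := by
            rw [map_smul, map_smul]
            show φ t • g x₁ = φ t • g x₂
            rw [← ht, mul_smul, mul_smul, hc]
          obtain ⟨⟨_, s₂, hs₂, rfl⟩, h3⟩ := IsLocalizedModule.exists_of_eq (S := q.primeCompl.map (algebraMap P T)) (f := g) h2
          refine ⟨⟨algebraMap P T s₂ * t, Q.primeCompl.mul_mem (hQs s₂ hs₂) htQ⟩, ?_⟩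
          show (algebraMap P T s₂ * t) • x₁ = (algebraMap P T s₂ * t) • x₂
          rw [mul_smul, mul_smul]
          exact h3 }
    exact ⟨fun h => Module.Flat.of_linearEquiv ((IsLocalizedModule.iso Q.primeCompl l).restrictScalars A'),
      fun h => Module.Flat.of_linearEquiv ((IsLocalizedModule.iso Q.primeCompl l).symm.restrictScalars A')⟩
  rw [FlatPts.iff_model (R := A) (q := q) (N := N₁) (A' := A') T X fX hfX]
  constructor
  · intro h Q hQ hQq hQm
    by_cases hkill : ∀ x : X, ∃ w, w ∉ Q ∧ w • x = 0
    · exact flat_of_killed Q hkill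
    push Not at hkill
    obtain ⟨x₀, hx₀⟩ := hkill
    have hker : ∀ t, φ t = 0 → t ∈ Q := fun t ht => by
      have h0 : g (t • x₀) = 0 := by
        rw [map_smul]
        show φ t • g x₀ = 0
        rw [ht, zero_smul]
      obtain ⟨⟨_, s, hs, rfl⟩, h1⟩ := (IsLocalizedModule.eq_zero_iff (q.primeCompl.map (algebraMap P T)) g).1 h0
      change algebraMap P T s • t • x₀ = 0 at h1
      rw [smul_smul] at h1
      by_contra htQ
      exact hx₀ _ (fun h' => (Ideal.IsPrime.mem_or_mem hQ h').elim (fun h'' => hs (hQq.le h'')) htQ) h1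
    have hmem : ∀ b', b' ∈ Q.map φ → ∃ s, s ∉ q ∧ ∃ t ∈ Q, φ (algebraMap P T s) * b' = φ t := by
      intro b' hb'
      induction hb' using Submodule.span_induction with
      | mem z hz =>
        obtain ⟨t, ht, rfl⟩ := hz
        exact ⟨1, q.primeCompl.one_mem, t, ht, by rw [map_one, map_one, one_mul]⟩
      | zero => exact ⟨1, q.primeCompl.one_mem, 0, Q.zero_mem, by rw [map_zero, mul_zero]⟩
      | add a b _ _ ha hb =>
        obtain ⟨s₁, hs₁, t₁, ht₁Q, ht₁⟩ := ha
        obtain ⟨s₂, hs₂, t₂, ht₂Q, ht₂⟩ := hb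
        refine ⟨s₁ * s₂, q.primeCompl.mul_mem hs₁ hs₂, algebraMap P T s₂ * t₁ + algebraMap P T s₁ * t₂,
          add_mem (Q.mul_mem_left _ ht₁Q) (Q.mul_mem_left _ ht₂Q), ?_⟩
        rw [map_mul, map_mul, map_add, map_mul, map_mul, ← ht₁, ← ht₂]
        ring
      | smul c z _ hz =>
        obtain ⟨s₁, hs₁, t₁, ht₁Q, ht₁⟩ := hz
        obtain ⟨s₂, hs₂, t₂, ht₂⟩ := hfrac' c
        refine ⟨s₂ * s₁, q.primeCompl.mul_mem hs₂ hs₁, t₂ * t₁, Q.mul_mem_left _ ht₁Q, ?_⟩
        rw [map_mul, map_mul, map_mul, ← ht₁, ← ht₂, smul_eq_mul]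
        ring
    have hback : (Q.map φ).comap φ = Q := le_antisymm (fun t ht => by
      obtain ⟨s, hs, t', ht', heq⟩ := hmem (φ t) ht
      have h1 : algebraMap P T s * t - t' ∈ Q := hker _ (by rw [map_sub, map_mul, heq, sub_self])
      have h2 : algebraMap P T s * t ∈ Q := by simpa using add_mem h1 ht'
      exact (Ideal.IsPrime.mem_or_mem hQ h2).elim (fun h3 => absurd (hQq.le h3) hs) id) Ideal.le_comap_map
    obtain ⟨q', hq', hq'Q⟩ := (Ideal.comap_map_eq_self_iff_of_isPrime Q).1 hback
    haveI := hq'
    have hle : (maximalIdeal A').map (algebraMap A' B') ⊔ (maximalIdeal B).map (algebraMap B B') ≤ q' := by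
      refine sup_le (Ideal.map_le_iff_le_comap.2 fun a ha => ?_) (Ideal.map_le_iff_le_comap.2 fun b hb => ?_)
      · show algebraMap A' B' a ∈ q'
        rw [← hφA, ← Ideal.mem_comap, hq'Q]
        exact hQm.ge ha
      · obtain ⟨s, hs, c, hc⟩ := hfrac b
        have hcq : c ∈ q := by
          rw [← hq, Ideal.mem_comap, ← hc]
          exact Ideal.mul_mem_left _ _ hb
        have h1 : φ (algebraMap P T c) ∈ q' := by
          rw [← Ideal.mem_comap, hq'Q]
          exact hQq.ge hcq
        rw [hφP, ← hc, map_mul, ← hφP] at h1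
        exact (Ideal.IsPrime.mem_or_mem hq' h1).elim
          (fun h2 => absurd (Ideal.eq_top_of_isUnit_mem _ h2 (hunit' s hs)) hq'.ne_top) id
    exact FlatPts.flat_congr hq'Q ((key q').1 (h q' hle))
  · intro h q' _ hle
    refine (key q').2 (h (q'.comap φ) (Ideal.ext fun s => ⟨fun hs => ?_, fun hs => ?_⟩) ?_)
    · by_contra hsq
      exact Ideal.IsPrime.ne_top (I := q') inferInstance (Ideal.eq_top_of_isUnit_mem _ hs (hunit' s hsq))
    · show φ (algebraMap P T s) ∈ q'
      rw [hφP]
      exact hle (le_sup_right (a := (maximalIdeal A').map (algebraMap A' B'))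
        (Ideal.mem_map_of_mem _ (hq.ge hs)))
    · refine ((maximalIdeal.isMaximal A').eq_of_le (Ideal.IsPrime.ne_top inferInstance) fun a ha => ?_).symm
      show φ (algebraMap A' T a) ∈ q'
      rw [hφA]
      exact hle (le_sup_left (b := (maximalIdeal B).map (algebraMap B B')) (Ideal.mem_map_of_mem _ ha))

end Translate

/-- Flatness over the local algebra is flatness at the points over the point of a presentation. -/
theorem translate {A P B : Type u} [CommRing A] [CommRing P] [CommRing B] [IsLocalRing B] [Algebra A P] [Algebra A B]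
    [Algebra P B] [IsScalarTower A P B] (q : Ideal P) [q.IsPrime]
    (hunit : ∀ s, s ∉ q → IsUnit (algebraMap P B s))
    (hfrac : ∀ b : B, ∃ s ∉ q, ∃ c, algebraMap P B s * b = algebraMap P B c)
    (hq : (maximalIdeal B).comap (algebraMap P B) = q)
    {N₁ M : Type u} [AddCommGroup N₁] [Module P N₁] [Module A N₁] [IsScalarTower A P N₁]
    [AddCommGroup M] [Module B M] [Module P M] [Module A M] [IsScalarTower P B M] [IsScalarTower A B M]
    [IsScalarTower A P M] (k : N₁ →ₗ[P] M) [IsLocalizedModule q.primeCompl k]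
    {A' : Type u} [CommRing A'] [IsLocalRing A'] [Algebra A A']
    {B' : Type u} [CommRing B'] [Algebra B B'] [Algebra A' B'] [Algebra A B'] [IsScalarTower A B B']
    [IsScalarTower A A' B'] [Algebra.IsPushout A B A' B']
    {M' : Type u} [AddCommGroup M'] [Module B' M'] [Module B M'] [IsScalarTower B B' M'] [Module A' M']
    [IsScalarTower A' B' M'] (f : M →ₗ[B] M') (hf : IsBaseChange B' f) :
    (∀ (q' : Ideal B') [q'.IsPrime], (maximalIdeal A').map (algebraMap A' B') ⊔ (maximalIdeal B).map (algebraMap B B') ≤ q' →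
        _root_.FlatCA.FlatAt A' q' M') ↔ FlatPts A q N₁ A' := by
  let χ : A' ⊗[A] P →ₐ[A] B' := Algebra.TensorProduct.lift (IsScalarTower.toAlgHom A A' B')
    ((IsScalarTower.toAlgHom A B B').comp (IsScalarTower.toAlgHom A P B)) fun _ _ => mul_comm _ _
  exact translate_aux q hunit hfrac hq hf (T := A' ⊗[A] P) (TensorProduct.isBaseChange P N₁ (A' ⊗[A] P)) k
    χ.toRingHom (fun a => (Algebra.TensorProduct.lift_tmul _ _ _ a 1).trans (by rw [map_one, mul_one]; rfl))
    (fun x => (Algebra.TensorProduct.lift_tmul _ _ _ 1 x).trans (by rw [map_one, one_mul]; rfl))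

/-- Two ideals with the same vanishing over every local algebra coincide. -/
theorem eq_of_iff {A : Type u} [CommRing A] [IsLocalRing A] {I J : Ideal A}
    (h : ∀ (A' : Type u) [CommRing A'] [IsLocalRing A'] [Algebra A A'] [IsLocalHom (algebraMap A A')],
      I.map (algebraMap A A') = ⊥ ↔ J.map (algebraMap A A') = ⊥) : I = J := by
  suffices aux : ∀ K L : Ideal A,
      (∀ (A' : Type u) [CommRing A'] [IsLocalRing A'] [Algebra A A'] [IsLocalHom (algebraMap A A')],
        K.map (algebraMap A A') = ⊥ → L.map (algebraMap A A') = ⊥) → L ≤ K from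
    le_antisymm (aux J I fun A' _ _ _ _ => (h A').2) (aux I J fun A' _ _ _ _ => (h A').1)
  intro K L hKL
  by_cases hK : K = ⊤
  · exact hK ▸ le_top
  haveI : Nontrivial (A ⧸ K) := Ideal.Quotient.nontrivial_iff.2 hK
  haveI : IsLocalRing (A ⧸ K) := IsLocalRing.of_surjective' (Ideal.Quotient.mk K) Ideal.Quotient.mk_surjective
  haveI : IsLocalHom (algebraMap A (A ⧸ K)) := ⟨fun a ha => by
    by_contra hn
    have hm : a ∈ maximalIdeal A := (IsLocalRing.mem_maximalIdeal a).2 hn
    obtain ⟨u, hu⟩ := ha.exists_right_inv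
    obtain ⟨b, rfl⟩ := Ideal.Quotient.mk_surjective u
    rw [Ideal.Quotient.algebraMap_eq, ← map_mul, ← map_one (Ideal.Quotient.mk K), Ideal.Quotient.eq] at hu
    exact (maximalIdeal.isMaximal A).ne_top ((Ideal.eq_top_iff_one _).2
      (by simpa using sub_mem (Ideal.mul_mem_right b _ hm) (le_maximalIdeal hK hu)))⟩
  have := hKL (A ⧸ K) (by rw [Ideal.Quotient.algebraMap_eq, Ideal.map_quotient_self])
  rwa [Ideal.Quotient.algebraMap_eq, Ideal.map_eq_bot_iff_le_ker, Ideal.mk_ker] at this

/-- The flattening ideal over a henselian local ring. -/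
theorem exists_ideal {A B : Type u} [CommRing A] [HenselianLocalRing A] [CommRing B] [IsLocalRing B] [Algebra A B]
    [IsLocalHom (algebraMap A B)] [Algebra.EssFiniteType A B]
    (M : Type u) [AddCommGroup M] [Module B M] [Module A M] [IsScalarTower A B M] [Module.Finite B M] :
    ∃ I : Ideal A,
      (∀ (A' B' M' : Type u) [CommRing A'] [IsLocalRing A'] [Algebra A A'] [IsLocalHom (algebraMap A A')]
        [CommRing B'] [Algebra B B'] [Algebra A' B'] [Algebra A B'] [IsScalarTower A B B'] [IsScalarTower A A' B']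
        [Algebra.IsPushout A B A' B']
        [AddCommGroup M'] [Module B' M'] [Module B M'] [IsScalarTower B B' M'] [Module A' M'] [IsScalarTower A' B' M']
        (f : M →ₗ[B] M'), IsBaseChange B' f →
        ((∀ (q : Ideal B') [q.IsPrime], (maximalIdeal A').map (algebraMap A' B') ⊔ (maximalIdeal B).map (algebraMap B B') ≤ q →
            _root_.FlatCA.FlatAt A' q M') ↔ I.map (algebraMap A A') = ⊥)) ∧
      (_root_.FlatCA.EssFinitePresentation A B → Module.FinitePresentation B M → I.FG) := by
  have hlies : ∀ (P : Type u) [CommRing P] [Algebra A P] [Algebra P B] [IsScalarTower A P B],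
      ((maximalIdeal B).comap (algebraMap P B)).LiesOver (maximalIdeal A) := fun P _ _ _ _ => ⟨Ideal.ext fun a => by
    show _ ↔ algebraMap P B (algebraMap A P a) ∈ maximalIdeal B
    rw [← IsScalarTower.algebraMap_apply, IsLocalRing.mem_maximalIdeal, IsLocalRing.mem_maximalIdeal,
      mem_nonunits_iff, mem_nonunits_iff, isUnit_map_iff]⟩
  let S₀ := Algebra.EssFiniteType.subalgebra A B
  obtain ⟨n, π, hπ⟩ := Algebra.FiniteType.iff_quotient_mvPolynomial''.1 (inferInstance : Algebra.FiniteType A S₀)
  let P := MvPolynomial (Fin n) A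
  letI : Algebra P B := (S₀.val.comp π).toRingHom.toAlgebra
  haveI : IsScalarTower A P B := IsScalarTower.of_algebraMap_eq fun a => ((S₀.val.comp π).commutes a).symm
  let q : Ideal P := (maximalIdeal B).comap (algebraMap P B)
  have hunit : ∀ s, s ∉ q → IsUnit (algebraMap P B s) := fun s hs => by
    by_contra hu
    exact hs ((IsLocalRing.mem_maximalIdeal _).2 hu)
  haveI := hlies P
  have hfrac : ∀ b : B, ∃ s ∉ q, ∃ c, algebraMap P B s * b = algebraMap P B c := fun b => by
    obtain ⟨⟨x, ⟨y, hy⟩⟩, hxy⟩ := IsLocalization.surj (Algebra.EssFiniteType.submonoid A B) b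
    obtain ⟨s, rfl⟩ := hπ y
    obtain ⟨c, rfl⟩ := hπ x
    exact ⟨s, fun hs => (IsLocalRing.mem_maximalIdeal _).1 hs hy, c, (mul_comm _ _).trans hxy⟩
  letI : Module P M := Module.compHom M (algebraMap P B)
  haveI : IsScalarTower P B M := IsScalarTower.of_algebraMap_smul fun _ _ => rfl
  haveI : IsScalarTower A P M := IsScalarTower.of_algebraMap_smul fun a x => by
    rw [← algebraMap_smul B (algebraMap A P a) x, ← IsScalarTower.algebraMap_apply, algebraMap_smul]
  obtain ⟨N₁, hN₁, hloc⟩ := HenselML.exists_finite_sub q hunit hfrac M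
  haveI := hN₁
  haveI := hloc
  obtain ⟨I, hI, -⟩ := FlatPtsInduct.exists_ideal (A := A) (S := P) N₁ q
  refine ⟨I, ?_, fun hess hfp => ?_⟩
  · intro A' B' M' _ _ _ _ _ _ _ _ _ _ _ _ _ _ _ _ _ f hf
    exact (translate q hunit hfrac rfl N₁.subtype f hf).trans (hI A')
  · obtain ⟨S₁, _, _, _, _, W, hS₁, hW⟩ := hess
    haveI := hS₁
    haveI := hW
    haveI := hfp
    let q₁ : Ideal S₁ := (maximalIdeal B).comap (algebraMap S₁ B)
    haveI := hlies S₁
    have hWq : ∀ w ∈ W, w ∉ q₁ := fun w hw h =>
      (IsLocalRing.mem_maximalIdeal _).1 h (IsLocalization.map_units B (⟨w, hw⟩ : W))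
    have hunit₁ : ∀ s, s ∉ q₁ → IsUnit (algebraMap S₁ B s) := fun s hs => by
      by_contra hu
      exact hs ((IsLocalRing.mem_maximalIdeal _).2 hu)
    have hfrac₁ : ∀ b : B, ∃ s ∉ q₁, ∃ c, algebraMap S₁ B s * b = algebraMap S₁ B c := fun b => by
      obtain ⟨⟨x, ⟨y, hy⟩⟩, hxy⟩ := IsLocalization.surj W b
      exact ⟨y, hWq y hy, x, (mul_comm _ _).trans hxy⟩
    haveI : IsLocalization q₁.primeCompl B :=
      { map_units := fun s => hunit₁ s s.2
        surj := fun b => by
          obtain ⟨s, hs, c, hc⟩ := hfrac₁ b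
          exact ⟨⟨c, ⟨s, hs⟩⟩, (mul_comm _ _).trans hc⟩
        exists_of_eq := fun {x y} h => by
          obtain ⟨c, hc⟩ := IsLocalization.exists_of_eq (M := W) h
          exact ⟨⟨c, hWq c c.2⟩, hc⟩ }
    letI : Module S₁ M := Module.compHom M (algebraMap S₁ B)
    haveI : IsScalarTower S₁ B M := IsScalarTower.of_algebraMap_smul fun _ _ => rfl
    haveI : IsScalarTower A S₁ M := IsScalarTower.of_algebraMap_smul fun a x => by
      rw [← algebraMap_smul B (algebraMap A S₁ a) x, ← IsScalarTower.algebraMap_apply, algebraMap_smul]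
    obtain ⟨N₂, _, _, k₂, hN₂, hk₂⟩ := exists_fp_model (L := B) q₁.primeCompl M
    haveI := hN₂
    haveI := hk₂
    letI : Module A N₂ := Module.compHom N₂ (algebraMap A S₁)
    haveI : IsScalarTower A S₁ N₂ := .of_algebraMap_smul fun _ _ => rfl
    obtain ⟨J, hJ, hJfg⟩ := FlatPtsInduct.exists_ideal (A := A) (S := S₁) N₂ q₁
    suffices hIJ : I = J from hIJ ▸ hJfg inferInstance inferInstance
    refine eq_of_iff fun A' _ _ _ _ => ?_
    let B' := A' ⊗[A] B
    haveI : Algebra.IsPushout A B A' B' := inferInstance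
    let M' := B' ⊗[B] M
    exact ((hI A').symm.trans ((translate q hunit hfrac rfl N₁.subtype (TensorProduct.mk B B' M 1)
      (TensorProduct.isBaseChange B M B')).symm.trans (translate q₁ hunit₁ hfrac₁ rfl k₂ (TensorProduct.mk B B' M 1)
      (TensorProduct.isBaseChange B M B')))).trans (hJ A')

end Groth.Agent.Lib.RG57.FlatPtsModel
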