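import Groth.Agent.Lib.RG57.FlatPts
import Groth.Agent.Lib.RG.StepLemmas
import Mathlib.LinearAlgebra.Dimension.Constructions
import Mathlib.RingTheory.Smooth.Flat

/-!
# Flatness of base changes: the step on a smooth algebra with integral fibres
-/

set_option autoImplicit false
set_option linter.style.haveILetI false
set_option maxHeartbeats 400000

universe u

open IsLocalRing
open scoped TensorProduct

attribute [local instance] Algebra.TensorProduct.rightAlgebra

namespace Groth.Agent.Lib.RG57.FlatPtsStep

open RG.Engine RG.StepModel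
open FlatPts (FlatPts)

/-- Over a local ring the generic point of the closed fibre is the extension of the maximal ideal. -/
theorem genPrime_eq_map (A D : Type u) [CommRing A] [IsLocalRing A] [CommRing D] [Algebra A D] :
    genPrime (maximalIdeal A) D = (maximalIdeal A).map (algebraMap A D) := by
  let k := (maximalIdeal A).ResidueField
  refine le_antisymm (fun x hx => ?_) (Ideal.map_le_iff_le_comap.2 fun r hr => ?_)
  · let e := TensorProduct.quotTensorEquivQuotSMul D (maximalIdeal A)
    let q : A ⧸ maximalIdeal A →ₐ[A] k := IsScalarTower.toAlgHom A _ k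
    have hq : Function.Bijective q := Ideal.bijective_algebraMap_quotient_residueField _
    have h0 : ((1 : A ⧸ maximalIdeal A) ⊗ₜ[A] x) = 0 := by
      apply (TensorProduct.congr (LinearEquiv.ofBijective q.toLinearMap hq) (LinearEquiv.refl A D)).injective
      rw [map_zero, TensorProduct.congr_tmul, LinearEquiv.ofBijective_apply, AlgHom.toLinearMap_apply, map_one]
      exact hx
    have h1 := congrArg e h0
    rw [show (1 : A ⧸ maximalIdeal A) = Ideal.Quotient.mk _ 1 from rfl,
      TensorProduct.quotTensorEquivQuotSMul_mk_tmul, one_smul, map_zero, Submodule.Quotient.mk_eq_zero,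
      Ideal.smul_top_eq_map] at h1
    exact h1
  · show Algebra.TensorProduct.includeRight (R := A) (A := k) (algebraMap A D r) = 0
    rw [AlgHom.commutes, IsScalarTower.algebraMap_apply A k (k ⊗[A] D),
      Ideal.algebraMap_residueField_eq_zero.2 hr, map_zero]

section Content

variable {A D : Type u} [CommRing A] [IsLocalRing A] [CommRing D] [Algebra A D] [Algebra.Smooth A D]
  [((maximalIdeal A).map (algebraMap A D)).IsPrime] (hD : GIF A D)

include hD

/-- Content ideals exist. -/
theorem exists_content (a : D) :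
    ∃ J : Ideal A, J.FG ∧ a ∈ J • (⊤ : Submodule A D) ∧ ∀ I : Ideal A, a ∈ I • (⊤ : Submodule A D) → J ≤ I :=
  RG.Engine.exists_content hD a

/-- The content ideal. -/
noncomputable def content (a : D) : Ideal A := (exists_content hD a).choose

theorem content_fg (a : D) : (content hD a).FG := (exists_content hD a).choose_spec.1

theorem content_le_iff (a : D) (I : Ideal A) : content hD a ≤ I ↔ a ∈ I • (⊤ : Submodule A D) :=
  ⟨fun h => Submodule.smul_mono_left h (exists_content hD a).choose_spec.2.1,
    fun h => (exists_content hD a).choose_spec.2.2 I h⟩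

/-- The content ideal governs vanishing after a base change. -/
theorem algebraMap_eq_zero_iff {A' T : Type u} [CommRing A'] [Algebra A A'] [CommRing T] [Algebra A' T] [Algebra D T]
    [Algebra A T] [IsScalarTower A A' T] [IsScalarTower A D T] [Algebra.IsPushout A A' D T] (a : D) :
    algebraMap D T a = 0 ↔ (content hD a).map (algebraMap A A') = ⊥ := by
  rw [Ideal.map_eq_bot_iff_le_ker, content_le_iff hD]
  constructor
  · intro h
    let K := RingHom.ker (algebraMap A A')
    let ι : A ⧸ K →ₗ[A] A' := (Ideal.Quotient.liftₐ K (Algebra.ofId A A') fun _ hx => hx).toLinearMap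
    have hι : Function.Injective ι := RingHom.kerLift_injective (algebraMap A A')
    have h0 : (1 : A ⧸ K) ⊗ₜ[A] a = 0 := by
      apply Module.Flat.rTensor_preserves_injective_linearMap (M := D) ι hι
      rw [map_zero, LinearMap.rTensor_tmul]
      have h1 : ι 1 = 1 := map_one (Ideal.Quotient.liftₐ K (Algebra.ofId A A') fun _ hx => hx)
      rw [h1]
      apply (Algebra.IsPushout.equiv A A' D T).injective
      rw [map_zero, Algebra.IsPushout.equiv_tmul, map_one, one_mul, h]
    have h2 := congrArg (TensorProduct.quotTensorEquivQuotSMul D K) h0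
    rwa [show (1 : A ⧸ K) = Ideal.Quotient.mk _ 1 from rfl, TensorProduct.quotTensorEquivQuotSMul_mk_tmul,
      one_smul, map_zero, Submodule.Quotient.mk_eq_zero] at h2
  · intro h
    refine Submodule.smul_induction_on h (fun r hr x _ => ?_) fun x y hx hy => ?_
    · rw [Algebra.smul_def, map_mul, ← IsScalarTower.algebraMap_apply, IsScalarTower.algebraMap_apply A A' T,
        RingHom.mem_ker.1 hr, map_zero, zero_mul]
    · rw [map_add, hx, hy, add_zero]

end Content

section Coker

variable {A' D T : Type u} [CommRing A'] [CommRing D] [CommRing T] [Algebra D T] [Algebra A' T]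
  {G : Type u} [AddCommGroup G] [Module D G] {X : Type u} [AddCommGroup X] [Module T X] [Module D X]
  [IsScalarTower D T X] {f : G →ₗ[D] X} (hf : IsBaseChange T f) {r : ℕ} (α : (Fin r → D) →ₗ[D] G)

/-- The extension of a map from a free module. -/
noncomputable def extend (f : G →ₗ[D] X) : (Fin r → T) →ₗ[T] X :=
  Fintype.linearCombination T fun i => f (α (Pi.single i 1))

theorem extend_apply (v : Fin r → D) : extend (T := T) α f (fun i => algebraMap D T (v i)) = f (α v) := by
  rw [extend, Fintype.linearCombination_apply]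
  conv_rhs => rw [← Finset.univ_sum_single v, map_sum, map_sum]
  refine Finset.sum_congr rfl fun i _ => ?_
  rw [algebraMap_smul, ← map_smul, ← map_smul, ← Pi.single_smul, smul_eq_mul, mul_one]

include hf

/-- The cokernel of the extension is the base change of the cokernel. -/
theorem exists_coker_baseChange :
    ∃ g : (G ⧸ LinearMap.range α) →ₗ[D] (X ⧸ LinearMap.range (extend (T := T) α f)), IsBaseChange T g := by
  let R₀ := LinearMap.range (extend (T := T) α f)
  let g : (G ⧸ LinearMap.range α) →ₗ[D] (X ⧸ R₀) :=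
    (LinearMap.range α).liftQ ((R₀.mkQ.restrictScalars D).comp f) (by
      rintro _ ⟨v, rfl⟩
      rw [LinearMap.mem_ker, LinearMap.comp_apply, LinearMap.restrictScalars_apply, Submodule.mkQ_apply,
        Submodule.Quotient.mk_eq_zero]
      exact ⟨_, extend_apply α v⟩)
  refine ⟨g, ?_⟩
  let mk : (G ⧸ LinearMap.range α) →ₗ[D] T ⊗[D] (G ⧸ LinearMap.range α) := TensorProduct.mk D T _ 1
  have hmk : IsBaseChange T mk := TensorProduct.isBaseChange D _ T
  let Φ : T ⊗[D] (G ⧸ LinearMap.range α) →ₗ[T] X ⧸ R₀ := hmk.lift g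
  let ψ₀ : X →ₗ[T] T ⊗[D] (G ⧸ LinearMap.range α) := hf.lift (mk.comp (LinearMap.range α).mkQ)
  let Ψ : X ⧸ R₀ →ₗ[T] T ⊗[D] (G ⧸ LinearMap.range α) := R₀.liftQ ψ₀ (by
    rintro _ ⟨v, rfl⟩
    rw [LinearMap.mem_ker, extend, Fintype.linearCombination_apply, map_sum]
    refine Finset.sum_eq_zero fun i _ => ?_
    rw [map_smul, hf.lift_eq, LinearMap.comp_apply,
      (Submodule.Quotient.mk_eq_zero (LinearMap.range α)).2 (LinearMap.mem_range_self α _) |>
        (fun h => show (LinearMap.range α).mkQ (α (Pi.single i 1)) = 0 from h), map_zero, smul_zero])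
  have hgf : ∀ x, g (Submodule.Quotient.mk x) = Submodule.Quotient.mk (f x) := fun x => rfl
  let e : T ⊗[D] (G ⧸ LinearMap.range α) ≃ₗ[T] X ⧸ R₀ := LinearEquiv.ofLinear Φ Ψ
    (by
      refine Submodule.linearMap_qext _ (hf.algHom_ext _ _ fun x => ?_)
      show Φ (ψ₀ (f x)) = Submodule.Quotient.mk (f x)
      rw [hf.lift_eq, LinearMap.comp_apply, hmk.lift_eq]
      exact hgf x)
    (hmk.algHom_ext _ _ fun y => by
      obtain ⟨x, rfl⟩ := Submodule.Quotient.mk_surjective _ y
      show Ψ (Φ (mk (Submodule.Quotient.mk x))) = mk (Submodule.Quotient.mk x)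
      rw [hmk.lift_eq, hgf]
      show ψ₀ (f x) = _
      exact hf.lift_eq _ x)
  exact IsBaseChange.of_equiv e fun y => hmk.lift_eq g y

end Coker

section Step

variable {A D : Type u} [CommRing A] [IsLocalRing A] [CommRing D] [Algebra A D] [Algebra.Smooth A D]
  [((maximalIdeal A).map (algebraMap A D)).IsPrime] (hD : GIF A D) (y : Ideal D) [y.IsPrime]
  [y.LiesOver (maximalIdeal A)] {G : Type u} [AddCommGroup G] [Module D G] [Module.Finite D G]
  {r : ℕ} (α : (Fin r → D) →ₗ[D] G)

/-- The vectors killed at the generic point. -/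
def Ker : Set (Fin r → D) := {v | ∃ d, d ∉ (maximalIdeal A).map (algebraMap A D) ∧ d • α v = 0}

/-- The ideal below which the map stays injective at the generic point. -/
noncomputable def stepIdeal : Ideal A := ⨆ v : Ker α (A := A), ⨆ i, content hD ((v : Fin r → D) i)

include hD in
omit [Algebra.Smooth A D] [y.IsPrime] [y.LiesOver (maximalIdeal A)] in
theorem exists_denominator
    (hα : Function.Bijective (α.baseChange ((maximalIdeal A).map (algebraMap A D)).ResidueField)) :
    ∃ d, d ∉ (maximalIdeal A).map (algebraMap A D) ∧ ∀ g, d • g ∈ LinearMap.range α := by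
  classical
  obtain ⟨S, hS⟩ := Module.Finite.fg_top (R := D) (M := G)
  choose d hd hmem using RG.StepLemmas.killed_of_residue ((maximalIdeal A).map (algebraMap A D)) α hα.2
  refine ⟨∏ g ∈ S, d g, fun h => ?_, fun g => ?_⟩
  · obtain ⟨g, -, hg⟩ := (Ideal.IsPrime.prod_mem_iff (p := (maximalIdeal A).map (algebraMap A D))).1 h
    exact hd g hg
  · have hg : g ∈ Submodule.span D (S : Set G) := hS ▸ trivial
    induction hg using Submodule.span_induction with
    | mem g hg =>
      rw [← Finset.prod_erase_mul _ _ (Finset.mem_coe.1 hg), mul_smul]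
      exact Submodule.smul_mem _ _ (hmem g)
    | zero => rw [smul_zero]; exact zero_mem _
    | add a b _ _ ha hb => rw [smul_add]; exact add_mem ha hb
    | smul c a _ ha => rw [smul_comm]; exact Submodule.smul_mem _ _ ha

omit [y.IsPrime] [y.LiesOver (maximalIdeal A)] in
/-- The step ideal is finitely generated for finitely presented modules. -/
theorem stepIdeal_fg [Module.FinitePresentation D G]
    (hα : Function.Bijective (α.baseChange ((maximalIdeal A).map (algebraMap A D)).ResidueField)) :
    (stepIdeal hD α).FG := by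
  classical
  obtain ⟨d, hd, hmem⟩ := exists_denominator hD α hα
  obtain ⟨k, π, hπ⟩ := Module.Finite.exists_fin' D G
  choose u hu using fun j => hmem (π (Pi.single j 1))
  let Φ : (Fin r → D) × (Fin k → D) →ₗ[D] G := α.coprod π
  have hΦ : Function.Surjective Φ := fun g => by
    obtain ⟨x, rfl⟩ := hπ g
    exact ⟨(0, x), by simp [Φ]⟩
  obtain ⟨n, v, hv⟩ := Submodule.fg_iff_exists_fin_generating_family.1 (Module.FinitePresentation.fg_ker Φ hΦ)
  let U : (Fin k → D) →ₗ[D] (Fin r → D) := Fintype.linearCombination D u
  have hU : ∀ c, α (U c) = d • π c := fun c => by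
    conv_rhs => rw [← Finset.univ_sum_single c, map_sum, Finset.smul_sum]
    rw [Fintype.linearCombination_apply, map_sum]
    refine Finset.sum_congr rfl fun j _ => ?_
    rw [map_smul, hu, show Pi.single j (c j) = c j • Pi.single (M := fun _ : Fin k => D) j (1 : D) from by
      rw [← Pi.single_smul, smul_eq_mul, mul_one], map_smul, smul_comm]
  let w : Fin n → (Fin r → D) := fun l => d • (v l).1 + U (v l).2
  have hw : ∀ l, α (w l) = 0 := fun l => by
    have h : Φ (v l) = 0 := LinearMap.mem_ker.1 (hv ▸ Submodule.subset_span (Set.mem_range_self l))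
    rw [map_add, map_smul, hU, ← smul_add]
    rw [show α (v l).1 + π (v l).2 = 0 from h, smul_zero]
  let J : Ideal A := ⨆ l, ⨆ i, content hD (w l i)
  have hJ : stepIdeal hD α = J := by
    refine le_antisymm (iSup_le fun ⟨x, c, hc, hcx⟩ => iSup_le fun i => (content_le_iff hD _ _).2 ?_) ?_
    · have hx : ((c • x, 0) : (Fin r → D) × (Fin k → D)) ∈ Submodule.span D (Set.range v) := by
        rw [hv, LinearMap.mem_ker]
        simp [Φ, hcx]
      obtain ⟨a, ha⟩ := (Submodule.mem_span_range_iff_exists_fun D).1 hx
      have h2 : (d * c) • x = ∑ l, a l • w l := by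
        have h := congrArg (fun p : (Fin r → D) × (Fin k → D) => d • p.1 + U p.2) ha
        simp only [map_zero, add_zero] at h
        rw [mul_smul, ← h, Prod.fst_sum, Prod.snd_sum, map_sum, Finset.smul_sum, ← Finset.sum_add_distrib]
        refine Finset.sum_congr rfl fun l _ => ?_
        simp only [w, Prod.smul_fst, Prod.smul_snd, map_smul, smul_add]
        rw [smul_comm]
      refine RG.Engine.mem_of_mul_mem hD (s := d * c)
        (fun h => (Ideal.IsPrime.mem_or_mem inferInstance h).elim hd hc) J ?_
      rw [show d * c * x i = ∑ l, a l * w l i from by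
        have := congrFun h2 i
        simpa only [Pi.smul_apply, smul_eq_mul, Finset.sum_apply] using this]
      refine Submodule.sum_mem _ fun l _ => ?_
      have h3 : w l i ∈ J • (⊤ : Submodule A D) :=
        (content_le_iff hD _ _).1 (le_iSup_of_le l (le_iSup (fun i => content hD (w l i)) i))
      rw [Ideal.smul_top_eq_map, Submodule.restrictScalars_mem] at h3 ⊢
      exact Ideal.mul_mem_left _ _ h3
    · refine iSup_le fun l => iSup_le fun i => ?_
      exact le_iSup_of_le ⟨w l, 1, (Ideal.ne_top_iff_one _).1 (Ideal.IsPrime.ne_top inferInstance), by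
        rw [one_smul, hw]⟩ (le_iSup (fun i => content hD (w l i)) i)
  rw [hJ]
  exact Submodule.fg_iSup _ fun l => Submodule.fg_iSup _ fun i => content_fg hD _

variable {A' : Type u} [CommRing A'] [IsLocalRing A'] [Algebra A A'] [IsLocalHom (algebraMap A A')]

/-- The step, in a given model. -/
theorem step_aux (hα : Function.Bijective (α.baseChange ((maximalIdeal A).map (algebraMap A D)).ResidueField))
    {T : Type u} [CommRing T] [Algebra A' T] [Algebra D T] [Algebra A T] [IsScalarTower A A' T]
    [IsScalarTower A D T] [Algebra.IsPushout A A' D T] [Algebra.FinitePresentation A' T] [Module.Flat A' T]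
    (hT : GIF A' T) (Q₀ : Ideal T) [Q₀.IsPrime] (hQ₀ : Q₀.comap (algebraMap D T) = (maximalIdeal A).map (algebraMap A D))
    (hQ₀' : Q₀.comap (algebraMap A' T) = maximalIdeal A') (Q₁ : Ideal T) [Q₁.IsPrime]
    (hQ₁ : Q₁.comap (algebraMap D T) = y) (hQ₁' : Q₁.comap (algebraMap A' T) = maximalIdeal A')
    {X : Type u} [AddCommGroup X] [Module T X] [Module D X] [Module A' X] [IsScalarTower D T X]
    [IsScalarTower A' T X] {f : G →ₗ[D] X} (hf : IsBaseChange T f) :
    FlatPts A y G A' ↔ (stepIdeal hD α).map (algebraMap A A') = ⊥ ∧ FlatPts A y (G ⧸ LinearMap.range α) A' := by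
  classical
  let P := (maximalIdeal A).map (algebraMap A D)
  let m := maximalIdeal A'
  haveI : Q₀.LiesOver m := ⟨hQ₀'.symm⟩
  haveI : Q₁.LiesOver m := ⟨hQ₁'.symm⟩
  haveI : Module.Finite T X := Module.Finite.of_surjective hf.equiv.toLinearMap hf.equiv.surjective
  haveI hP' := (genPrime_isPrime m hT Q₁).1
  haveI hP'over := (genPrime_isPrime m hT Q₁).2
  haveI : (m.map (algebraMap A' T)).IsPrime := genPrime_eq_map A' T ▸ hP'
  let P' := genPrime m T
  haveI : Nontrivial T := ⟨⟨0, 1, fun h => Ideal.IsPrime.ne_top hP' ((Ideal.eq_top_iff_one _).2 (h ▸ zero_mem _))⟩⟩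
  haveI : Nontrivial D := ⟨⟨0, 1, fun h => Ideal.IsPrime.ne_top ‹y.IsPrime› ((Ideal.eq_top_iff_one _).2 (h ▸ zero_mem _))⟩⟩
  have hP'P : P'.comap (algebraMap D T) = P := by
    refine le_antisymm ((Ideal.comap_mono (genPrime_le m Q₀)).trans hQ₀.le) (Ideal.map_le_iff_le_comap.2 fun a ha => ?_)
    show algebraMap D T (algebraMap A D a) ∈ P'
    rw [← IsScalarTower.algebraMap_apply, IsScalarTower.algebraMap_apply A A' T, ← Ideal.mem_comap,
      ← Ideal.under_def, ← hP'over.over]
    have hle : (maximalIdeal A).map (algebraMap A A') ≤ maximalIdeal A' :=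
      ((IsLocalRing.local_hom_TFAE (algebraMap A A')).out 0 2).1 ‹IsLocalHom (algebraMap A A')›
    exact hle (Ideal.mem_map_of_mem _ ha)
  obtain ⟨d, hd, hmem⟩ := exists_denominator hD α hα
  let αT := extend (T := T) α f
  have hd' : algebraMap D T d ∉ P' := fun h => hd (hP'P.le h)
  have hsurj : ∀ x : X, algebraMap D T d • x ∈ LinearMap.range αT := fun x => by
    induction x using hf.inductionOn with
    | zero => rw [smul_zero]; exact zero_mem _
    | tmul g =>
      obtain ⟨v, hv⟩ := hmem g
      refine ⟨_, (extend_apply α v).trans ?_⟩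
      rw [hv, map_smul, algebraMap_smul]
    | smul t x hx => rw [smul_comm]; exact Submodule.smul_mem _ _ hx
    | add a b ha hb => rw [smul_add]; exact add_mem ha hb
  -- bijectivity on the residue field of the generic point
  have hres : Function.Bijective (αT.baseChange P'.ResidueField) := by
    let κ := P'.ResidueField
    have hs := RG.StepLemmas.surjective_residue_of_killed P' αT fun x => ⟨_, hd', hsurj x⟩
    letI : Algebra P.ResidueField κ := (Ideal.ResidueField.map P P' (algebraMap D T) hP'P.symm).toAlgebra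
    haveI : IsScalarTower D P.ResidueField κ := .of_algebraMap_eq fun x => by
      show _ = Ideal.ResidueField.map P P' (algebraMap D T) hP'P.symm (algebraMap D P.ResidueField x)
      rw [Ideal.ResidueField.map_algebraMap, IsScalarTower.algebraMap_apply D T κ]
    have hXG : IsBaseChange κ (((TensorProduct.mk T κ X 1).restrictScalars D).comp f) :=
      hf.comp (TensorProduct.isBaseChange T X κ)
    let eκ := (TensorProduct.AlgebraTensorModule.cancelBaseChange D P.ResidueField κ κ G).trans hXG.equiv
    have hrank : Module.finrank κ (κ ⊗[T] (Fin r → T)) = Module.finrank κ (κ ⊗[T] X) := by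
      rw [← eκ.finrank_eq, Module.finrank_baseChange, Module.finrank_baseChange,
        ← (LinearEquiv.ofBijective _ hα).finrank_eq, Module.finrank_baseChange, Module.finrank_fin_fun,
        Module.finrank_fin_fun]
    exact ⟨(LinearMap.injective_iff_surjective_of_finrank_eq_finrank hrank).2 hs, hs⟩
  -- injectivity at the generic point
  have hker : (stepIdeal hD α).map (algebraMap A A') = ⊥ ↔ ∀ v ∈ Ker (A := A) α, ∀ i, algebraMap D T (v i) = 0 := by
    simp only [algebraMap_eq_zero_iff hD (A' := A') (T := T), Ideal.map_eq_bot_iff_le_ker, stepIdeal, iSup_le_iff,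
      Subtype.forall]
  have hvan : ∀ t c, c ∉ P' → c * t = 0 → t = (0 : T) := fun t c hc hct => by
    have h := RG.Engine.eq_zero_of_smul hT (s := c) (genPrime_eq_map A' T ▸ hc) (Q := A') (z := t ⊗ₜ[A'] (1 : A'))
      (by rw [TensorProduct.smul_tmul', smul_eq_mul, hct, TensorProduct.zero_tmul])
    simpa using congrArg (TensorProduct.rid A' T) h
  obtain ⟨g, hg⟩ := exists_coker_baseChange hf α
  have hC := FlatPts.iff_model (R := A) (q := y) (N := G ⧸ LinearMap.range α) (A' := A') T
    (X ⧸ LinearMap.range αT) g hg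
  rw [FlatPts.iff_model (R := A) (q := y) (N := G) (A' := A') T X f hf, hC, hker]
  constructor
  · intro h
    have hbij : BijAt P' αT := RG.StepLemmas.bijAt_of_residue hT m P' (fun Q _ _ => genPrime_le m Q)
      (RG.FlatStep.flat_of_le (genPrime_le m Q₁) (h Q₁ hQ₁ hQ₁')) αT hres
    refine ⟨?_, fun Q hQ hQy hQm => ?_⟩
    · rintro v ⟨c, hc, hcv⟩ i
      have h0 : αT (fun j => algebraMap D T ((c • v) j)) = 0 := by
        rw [extend_apply, map_smul, hcv, map_zero]
      obtain ⟨e, he, hev⟩ := hbij.2 _ h0
      refine hvan _ (e * algebraMap D T c) (fun h' => (Ideal.IsPrime.mem_or_mem hP' h').elim he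
        fun h'' => hc (hP'P.le h'')) ?_
      have := congrFun hev i
      rw [mul_assoc, ← map_mul]
      exact this
    · haveI : Q.LiesOver m := ⟨hQm.symm⟩
      exact RG.Induct.flat_coker hT m Q hbij Q (h Q hQy hQm)
  · rintro ⟨hK, hC'⟩ Q hQ hQy hQm
    have hbij : BijAt P' αT := by
      refine ⟨fun x => ⟨_, hd', hsurj x⟩, fun v hv => ?_⟩
      -- a partial inverse
      let ι : (Fin r → D) →ₗ[D] (Fin r → T) := LinearMap.pi fun i => (Algebra.linearMap D T).comp (LinearMap.proj i)
      have hι : LinearMap.ker α ≤ LinearMap.ker ι := fun w hw => LinearMap.mem_ker.2 (funext fun i =>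
        hK w ⟨1, (Ideal.ne_top_iff_one P).1 (Ideal.IsPrime.ne_top inferInstance), by
          rw [one_smul, LinearMap.mem_ker.1 hw]⟩ i)
      let γ : G →ₗ[D] (Fin r → T) := ((LinearMap.ker α).liftQ ι hι).comp
        (α.quotKerEquivRange.symm.toLinearMap.comp ((LinearMap.lsmul D G d).codRestrict (LinearMap.range α) hmem))
      have hγ : ∀ w, γ (α w) = d • ι w := fun w => by
        have h1 : α.quotKerEquivRange.symm ((LinearMap.lsmul D G d).codRestrict (LinearMap.range α) hmem (α w)) =
            Submodule.Quotient.mk (d • w) := by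
          rw [LinearEquiv.symm_apply_eq]
          exact Subtype.ext (map_smul α d w).symm
        show (LinearMap.ker α).liftQ ι hι (α.quotKerEquivRange.symm _) = _
        rw [h1, Submodule.liftQ_apply, map_smul]
      let Γ : X →ₗ[T] (Fin r → T) := hf.lift γ
      have hΓ : Γ (αT v) = algebraMap D T d • v := by
        rw [show αT v = ∑ i, v i • f (α (Pi.single i 1)) from Fintype.linearCombination_apply _ _ _, map_sum]
        conv_rhs => rw [← Finset.univ_sum_single v, Finset.smul_sum]
        refine Finset.sum_congr rfl fun i _ => ?_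
        rw [map_smul, hf.lift_eq, hγ]
        funext j
        rcases eq_or_ne j i with rfl | hne
        · simp [ι, Algebra.smul_def, mul_comm]
        · simp [ι, hne]
      exact ⟨algebraMap D T d, hd', by rw [← hΓ, hv, map_zero]⟩
    haveI : Q.LiesOver m := ⟨hQm.symm⟩
    exact RG.Induct.flat_of_flat_coker hT m Q hbij (hC' Q hQy hQm)

/-- The step. -/
theorem step (hα : Function.Bijective (α.baseChange ((maximalIdeal A).map (algebraMap A D)).ResidueField)) :
    FlatPts A y G A' ↔ (stepIdeal hD α).map (algebraMap A A') = ⊥ ∧ FlatPts A y (G ⧸ LinearMap.range α) A' := by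
  haveI : Module.Flat A D := inferInstance
  have hm : (maximalIdeal A').comap (algebraMap A A') = maximalIdeal A :=
    ((IsLocalRing.local_hom_TFAE (algebraMap A A')).out 0 4).1 ‹IsLocalHom (algebraMap A A')›
  haveI := RG.Engine.liesOver_map (R := A) (D := D)
  obtain ⟨Q₀, h₀, h₀', h₀''⟩ := FlatPts.exists_point (R := A) (S := D) (A' := A')
    (q := (maximalIdeal A).map (algebraMap A D))
    (by rw [hm, ← Ideal.under_def, ← Ideal.LiesOver.over (P := (maximalIdeal A).map (algebraMap A D)) (p := maximalIdeal A)])
  obtain ⟨Q₁, h₁, h₁', h₁''⟩ := FlatPts.exists_point (R := A) (S := D) (A' := A') (q := y)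
    (by rw [hm, ← Ideal.under_def, ← Ideal.LiesOver.over (P := y) (p := maximalIdeal A)])
  exact step_aux hD y α hα (T := A' ⊗[A] D) (hD.baseChange A') Q₀ h₀' h₀'' Q₁ h₁' h₁''
    (TensorProduct.isBaseChange D G (A' ⊗[A] D))

end Step

end Groth.Agent.Lib.RG57.FlatPtsStep
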