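import Groth.Agent.S4790
import Groth.Agent.Lib.Lim.Basic
import Groth.Agent.Lib.H53.FinSub
import Groth.Agent.H47.FlatLimit
import Mathlib.RingTheory.Jacobson.Ring

/-!
# Geometrically isomorphic modules become isomorphic over a finite extension
-/

set_option autoImplicit false
set_option linter.style.haveILetI false
set_option backward.isDefEq.respectTransparency false

universe u

open CategoryTheory CategoryTheory.Limits AlgebraicGeometry Opposite

namespace Groth.Agent.Lib.RG57.GeomIsoMod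

open Groth.Agent.Lib

/-- Pulling back along equal composites. -/
noncomputable def compIso {A B C : Scheme.{u}} (f : A ⟶ B) (g : B ⟶ C) (h : A ⟶ C) (w : f ≫ g = h) (F : C.Modules) :
    (Scheme.Modules.pullback f).obj ((Scheme.Modules.pullback g).obj F) ≅ (Scheme.Modules.pullback h).obj F :=
  (Scheme.Modules.pullbackComp f g).app F ≪≫ (Scheme.Modules.pullbackCongr w).app F

theorem exists_finite {k : Type u} [Field k] {X : Scheme.{u}}
    (p : X ⟶ Spec (CommRingCat.of k)) [CompactSpace X] [QuasiSeparatedSpace X]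
    (F G : X.Modules) [Coh.IsQCoh F] [Coh.IsQCoh G] (hF : CohB1.IsFP F) (hG : CohB1.IsFP G)
    (K : Type u) [Field K] [Algebra k K]
    (e : (Scheme.Modules.pullback (pullback.fst p (Spec.map (CommRingCat.ofHom (algebraMap k K))))).obj F ≅
      (Scheme.Modules.pullback (pullback.fst p (Spec.map (CommRingCat.ofHom (algebraMap k K))))).obj G) :
    ∃ (k' : Type u) (_ : Field k') (_ : Algebra k k') (_ : Module.Finite k k'),
      Nonempty ((Scheme.Modules.pullback (pullback.fst p (Spec.map (CommRingCat.ofHom (algebraMap k k'))))).obj F ≅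
        (Scheme.Modules.pullback (pullback.fst p (Spec.map (CommRingCat.ofHom (algebraMap k k'))))).obj G) := by
  classical
  let R := H53.FinSub.diag k K
  let D : (Finset K)ᵒᵖ ⥤ Scheme.{u} := R.op ⋙ Scheme.Spec
  let c : Cone D := Scheme.Spec.mapCone (H53.FinSub.cocone k K).op
  have hc : IsLimit c := H53.FinSub.isLimit k K
  haveI hD : ∀ (i j : (Finset K)ᵒᵖ) (h : i ⟶ j), IsAffineHom (D.map h) := fun i j h =>
    inferInstanceAs (IsAffineHom (Spec.map _))
  haveI hD' : ∀ {i j : (Finset K)ᵒᵖ} (h : i ⟶ j), IsAffineHom (D.map h) := fun h => hD _ _ h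
  let i₀ : (Finset K)ᵒᵖ := op ∅
  let ε : ∀ i, D.obj i ⟶ Spec (CommRingCat.of k) := fun i => Spec.map (H53.FinSub.str k K i.unop)
  have hεπ : ∀ i, c.π.app i ≫ ε i = Spec.map (CommRingCat.ofHom (algebraMap k K)) := fun i => by
    refine Eq.trans ?_ (congrArg Spec.map (show H53.FinSub.str k K i.unop ≫
      (H53.FinSub.cocone k K).ι.app i.unop = CommRingCat.ofHom (algebraMap k K) from rfl))
    exact (Spec.map_comp _ _).symm
  have hεD : ∀ {i j : (Finset K)ᵒᵖ} (h : i ⟶ j), D.map h ≫ ε j = ε i := fun {i j} h => by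
    refine Eq.trans ?_ (congrArg Spec.map (show H53.FinSub.str k K j.unop ≫ R.map h.unop =
      H53.FinSub.str k K i.unop from rfl))
    exact (Spec.map_comp _ _).symm
  haveI : IsIso (ε i₀) := by
    have hb : Function.Bijective (algebraMap k (Algebra.adjoin k ((∅ : Finset K) : Set K))) := by
      refine ⟨(algebraMap k _).injective, fun x => ?_⟩
      have hx : (x : K) ∈ (⊥ : Subalgebra k K) := by
        have e0 : Algebra.adjoin k ((∅ : Finset K) : Set K) = ⊥ := by rw [Finset.coe_empty, Algebra.adjoin_empty]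
        exact e0.le x.2
      obtain ⟨a, ha⟩ := Algebra.mem_bot.1 hx
      exact ⟨a, Subtype.ext ha⟩
    haveI : IsIso (H53.FinSub.str k K (∅ : Finset K)) := (ConcreteCategory.isIso_iff_bijective _).2 hb
    exact inferInstanceAs (IsIso (Spec.map (H53.FinSub.str k K (∅ : Finset K))))
  let a := p ≫ inv (ε i₀)
  have hT : IsPullback (pullback.fst p (Spec.map (CommRingCat.ofHom (algebraMap k K))))
      (pullback.snd p (Spec.map (CommRingCat.ofHom (algebraMap k K)))) a (c.π.app i₀) :=
    (IsPullback.of_hasPullback p (Spec.map (CommRingCat.ofHom (algebraMap k K)))).of_iso (Iso.refl _) (Iso.refl _)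
      (Iso.refl _) (asIso (inv (ε i₀))) (by simp) (by simp) (by simp [a])
      (by rw [← hεπ i₀]; simp)
  let D' := Lim.Basic.bcDiagram D a
  let c' := Lim.Basic.bcCone (c := c) hT.w
  have hc' : IsLimit c' := Lim.Basic.isLimitBcCone hc hT
  haveI : ∀ (i j : Over i₀) (f : i ⟶ j), IsAffineHom (D'.map f) := fun i j f =>
    Lim.Basic.isAffineHom_bcDiagram_map D a f
  let j₀ : Over i₀ := Over.mk (𝟙 i₀)
  haveI : CompactSpace (D'.obj j₀) := Lim.Basic.compactSpace_bcDiagram D a j₀
  haveI : QuasiSeparatedSpace (D'.obj j₀) := Lim.Basic.quasiSeparatedSpace_bcDiagram D a j₀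
  let π₀ : D'.obj j₀ ⟶ X := pullback.fst a (D.map j₀.hom)
  haveI : Coh.IsQCoh ((Scheme.Modules.pullback π₀).obj F) := Groth.Agent.Lib.QCoh.Pullback.isQCoh_pullback π₀ F
  haveI : Coh.IsQCoh ((Scheme.Modules.pullback π₀).obj G) := Groth.Agent.Lib.QCoh.Pullback.isQCoh_pullback π₀ G
  have wπ : c'.π.app j₀ ≫ π₀ = pullback.fst p (Spec.map (CommRingCat.ofHom (algebraMap k K))) :=
    Lim.Basic.bcCone_π_fst (c := c) hT.w j₀
  obtain ⟨j, φ, ⟨eA⟩⟩ := (Groth.Agent.S4790.result D' c' hc' j₀ ((Scheme.Modules.pullback π₀).obj F)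
    ((Scheme.Modules.pullback π₀).obj G)
    (Groth.Agent.H47.FlatLimit.isFP_pullback π₀ F hF) (Groth.Agent.H47.FlatLimit.isFP_pullback π₀ G hG)).1
    ⟨compIso (c'.π.app j₀) π₀ _ wπ F ≪≫ e ≪≫ (compIso (c'.π.app j₀) π₀ _ wπ G).symm⟩
  -- a closed point of the stage
  let A := Algebra.adjoin k ((j.left.unop : Finset K) : Set K)
  haveI : Algebra.FiniteType k A := (Subalgebra.fg_iff_finiteType A).1 (Subalgebra.fg_adjoin_finset _)
  obtain ⟨M, hM⟩ := Ideal.exists_maximal A
  haveI := hM
  letI : Field (A ⧸ M) := Ideal.Quotient.field M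
  haveI : Algebra.FiniteType k (A ⧸ M) :=
    Algebra.FiniteType.of_surjective (Ideal.Quotient.mkₐ k M) (Ideal.Quotient.mkₐ_surjective k M)
  have hfin : Module.Finite k (A ⧸ M) := finite_of_finite_type_of_isJacobsonRing k (A ⧸ M)
  let t : Spec (CommRingCat.of (A ⧸ M)) ⟶ D.obj j.left :=
    Spec.map (CommRingCat.ofHom (Ideal.Quotient.mk M))
  have ht : t ≫ D.map j.hom ≫ ε i₀ = Spec.map (CommRingCat.ofHom (algebraMap k (A ⧸ M))) := by
    rw [hεD]
    exact (Spec.map_comp _ _).symm
  let q : pullback p (Spec.map (CommRingCat.ofHom (algebraMap k (A ⧸ M)))) ⟶ D'.obj j :=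
    pullback.lift (pullback.fst _ _) (pullback.snd _ _ ≫ t) (by
      rw [← cancel_mono (ε i₀)]
      simp only [a, Category.assoc, IsIso.inv_hom_id, Category.comp_id, ht]
      exact pullback.condition)
  have wq : q ≫ D'.map φ ≫ π₀ = pullback.fst p (Spec.map (CommRingCat.ofHom (algebraMap k (A ⧸ M)))) := by
    rw [show D'.map φ ≫ π₀ = pullback.fst a (D.map j.hom) from Lim.Basic.bcDiagram_map_fst D a φ]
    exact pullback.lift_fst _ _ _
  exact ⟨A ⧸ M, inferInstance, inferInstance, hfin,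
    ⟨(compIso q (D'.map φ ≫ π₀) _ wq F).symm ≪≫
      (Scheme.Modules.pullback q).mapIso ((compIso (D'.map φ) π₀ _ rfl F).symm ≪≫ eA ≪≫ compIso (D'.map φ) π₀ _ rfl G) ≪≫
      compIso q (D'.map φ ≫ π₀) _ wq G⟩⟩

end Groth.Agent.Lib.RG57.GeomIsoMod
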