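import Groth.Agent.Lib.RG57.FlatDimEtale
import Groth.Agent.Lib.FlatCA.WeakAss

/-!
# Dimension of the non flat locus in the fibres
-/

set_option autoImplicit false
set_option linter.style.haveILetI false
set_option backward.isDefEq.respectTransparency false

universe u

open CategoryTheory CategoryTheory.Limits AlgebraicGeometry
open Groth.Agent.Lib Groth.Agent.Lib.Flat55
open Groth.Agent.Lib.Cyc

attribute [local instance] Algebra.TensorProduct.rightAlgebra

namespace Groth.Agent.Lib.RG57.NonFlatDim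

variable {X S : Scheme.{u}} (f : X ⟶ S) [LocallyOfFiniteType f] (F : X.Modules) [F.IsQuasicoherent]
  [SheafOfModules.IsFiniteType (R := X.ringCatSheaf) F]

/-- Non flatness passes to specialisations in a fibre. -/
theorem not_flat_of_specializes {x z : X} (hzx : z ⤳ x) (hfz : f z = f x) (hz : ¬ FlatMod.IsFlatOverAt f F z) :
    ¬ FlatMod.IsFlatOverAt f F x := by
  obtain ⟨W, hW, hxW, -⟩ := exists_isAffineOpen_mem_and_subset (U := (⊤ : S.Opens)) (x := f x) trivial
  obtain ⟨V, hV, hxV, e⟩ := exists_isAffineOpen_mem_and_subset (U := f ⁻¹ᵁ W) (x := x) hxW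
  let _ := (f.appLE W V e).hom.toAlgebra
  letI : Module Γ(S, W) Γ(F, V) := Module.compHom Γ(F, V) (f.appLE W V e).hom
  haveI : IsScalarTower Γ(S, W) Γ(X, V) Γ(F, V) := IsScalarTower.of_algebraMap_smul fun _ _ => rfl
  have hzV : z ∈ V := hzx.mem_open V.isOpen hxV
  intro h
  exact hz ((H19.FlatLocus.Scheme.isFlatOverAt_iff f F hW hV e hzV).2
    (RG.FlatStep.flat_of_le ((RelAss.Affine.specializes_iff hV hzV hxV).1 hzx)
      ((H19.FlatLocus.Scheme.isFlatOverAt_iff f F hW hV e hxV).1 h)))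

/-- The relative assassin meets the affine part of a fibre in finitely many points. -/
theorem finite_relAss_inter {W : S.Opens} (hW : IsAffineOpen W) {V : X.Opens} (hV : IsAffineOpen V)
    (e : V ≤ f ⁻¹ᵁ W) {s : S} (hs : s ∈ W) :
    {z : X | z ∈ V ∧ f z = s ∧ z ∈ MoreMor.relAss f F}.Finite := by
  let _ := (f.appLE W V e).hom.toAlgebra
  haveI : Algebra.FiniteType Γ(S, W) Γ(X, V) := f.finiteType_appLE hW hV e
  letI : Module Γ(S, W) Γ(F, V) := Module.compHom Γ(F, V) (f.appLE W V e).hom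
  haveI : IsScalarTower Γ(S, W) Γ(X, V) Γ(F, V) := IsScalarTower.of_algebraMap_smul fun _ _ => rfl
  haveI : Module.Finite Γ(X, V) Γ(F, V) := CohBasics.Affine.finite_sections hV
  let p := (hW.primeIdealOf ⟨s, hs⟩).asIdeal
  haveI : IsNoetherianRing (p.Fiber Γ(X, V)) := Algebra.FiniteType.isNoetherianRing p.ResidueField _
  haveI : Module.Finite (p.Fiber Γ(X, V)) (_root_.FlatCA.fiberMod p Γ(X, V) Γ(F, V)) :=
    Module.Finite.base_change Γ(X, V) (p.Fiber Γ(X, V)) Γ(F, V)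
  have hfin : ((fun Q : Ideal (p.Fiber Γ(X, V)) => Q.comap (FlatCA.Impurity.incl p)) ''
      associatedPrimes (p.Fiber Γ(X, V)) (_root_.FlatCA.fiberMod p Γ(X, V) Γ(F, V))).Finite :=
    (associatedPrimes.finite _ _).image _
  refine ((hfin.preimage (f := fun q : PrimeSpectrum Γ(X, V) => q.asIdeal)
    (fun _ _ _ _ h => PrimeSpectrum.ext h)).image hV.fromSpec).subset ?_
  rintro z ⟨hz, rfl, hzA⟩
  haveI := RelAss.Affine.liesOver_primeIdealOf f hW hV e hz
  refine ⟨hV.primeIdealOf ⟨z, hz⟩, ⟨_root_.FlatCA.fiberIdeal p (hV.primeIdealOf ⟨z, hz⟩).asIdeal, ?_, ?_⟩,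
    hV.fromSpec_primeIdealOf ⟨z, hz⟩⟩
  · exact (FlatCA.FibreAss.assoc_iff Γ(F, V) p _).2 ((RelAss.Affine.mem_relAss_iff f hW hV e F hz).1 hzA)
  · exact (FlatCA.WeakAss.fiberIdeal_prime p (hV.primeIdealOf ⟨z, hz⟩).asIdeal).2

/-- The dimension of the non flat locus of a fibre. -/
theorem dim_le_iff (s : S) (n : ℕ) :
    topologicalKrullDim {x : X // f x = s ∧ ¬ FlatMod.IsFlatOverAt f F x} ≤ (n : WithBot ℕ∞) ↔
      ∀ x, f x = s → ¬ FlatMod.IsFlatOverAt f F x → H46.FibreTrdeg.trd f x ≤ n := by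
  let N : Set X := {x | f x = s ∧ ¬ FlatMod.IsFlatOverAt f F x}
  constructor
  · intro h x hx hxn
    have hsub : closure ({x} : Set X) ∩ f ⁻¹' {f x} ⊆ N := fun y hy =>
      ⟨(show f y = f x from hy.2).trans hx,
        not_flat_of_specializes f F (specializes_iff_mem_closure.2 hy.1) (Eq.symm hy.2) hxn⟩
    have h1 := (Topology.IsEmbedding.inclusion hsub).isInducing.topologicalKrullDim_le
    rw [H46.FibreTrdeg.dim_closure_inter] at h1
    exact_mod_cast h1.trans h
  · intro h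
    have hsub : N ⊆ closure N ∩ f ⁻¹' {s} := fun y hy => ⟨subset_closure hy, hy.1⟩
    refine ((Topology.IsEmbedding.inclusion hsub).isInducing.topologicalKrullDim_le).trans
      ((H46.FibreTrdeg.dim_closed_inter_le_iff f isClosed_closure s n).2 ?_)
    intro ξ hξ hfξ
    obtain ⟨W, hW, hxW, -⟩ := exists_isAffineOpen_mem_and_subset (U := (⊤ : S.Opens)) (x := f ξ) trivial
    obtain ⟨V, hV, hxV, e⟩ := exists_isAffineOpen_mem_and_subset (U := f ⁻¹ᵁ W) (x := ξ) hxW
    let A : Set X := {z | z ∈ V ∧ f z = f ξ ∧ z ∈ MoreMor.relAss f F} ∩ {z | ¬ FlatMod.IsFlatOverAt f F z}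
    have hA : A.Finite := (finite_relAss_inter f F hW hV e hxW).subset Set.inter_subset_left
    have h1 : (V : Set X) ∩ N ⊆ ⋃ z ∈ A, closure {z} := by
      rintro y ⟨hyV, hys, hyn⟩
      obtain ⟨z, hzy, hfz, hzA, hzn⟩ := FlatDimEtale.exists_relAss_not_flat f F hyn
      exact Set.mem_biUnion ⟨⟨hzy.mem_open V.isOpen hyV, hfz.trans (hys.trans hfξ.symm), hzA⟩, hzn⟩
        (specializes_iff_mem_closure.1 hzy)
    have h2 : ξ ∈ closure ((V : Set X) ∩ N) := V.isOpen.inter_closure ⟨hxV, hξ⟩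
    have h3 := closure_minimal h1 (hA.isClosed_biUnion fun _ _ => isClosed_closure) h2
    obtain ⟨z, hz, hzξ⟩ := Set.mem_iUnion₂.1 h3
    exact (H46.FibreTrdeg.trd_le f (specializes_iff_mem_closure.2 hzξ) hz.1.2.1).trans
      (h z (hz.1.2.1.trans hfξ) hz.2)

/-- The two forms of `non flat locus of dimension less than n`. -/
theorem dim_lt_iff (n : ℕ) :
    (∀ s : S, topologicalKrullDim {x : X // f x = s ∧ ¬ FlatMod.IsFlatOverAt f F x} < n) ↔
      ∀ x : X, ¬ FlatMod.IsFlatOverAt f F x → Residue.trdegAt f x < (n : Cardinal.{u}) := by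
  simp only [H46.FibreTrdeg.trdegAt_eq, Nat.cast_lt]
  rcases n with _ | n
  · refine ⟨fun h x hx => ?_, fun h s => ?_⟩
    · haveI : Nonempty {y : X // f y = f x ∧ ¬ FlatMod.IsFlatOverAt f F y} := ⟨⟨x, rfl, hx⟩⟩
      have h0 := h (f x)
      have hb : ∀ a : WithBot ℕ∞, a < ((0 : ℕ) : WithBot ℕ∞) → a = ⊥ := fun a ha => by
        cases a with
        | bot => rfl
        | coe c => exact absurd (WithBot.coe_lt_coe.1 (ha : (c : WithBot ℕ∞) < ((0 : ℕ∞) : WithBot ℕ∞))) not_lt_zero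
      exact absurd (hb _ h0) H46.FibreTrdeg.topologicalKrullDim_ne_bot
    · haveI : IsEmpty {y : X // f y = s ∧ ¬ FlatMod.IsFlatOverAt f F y} :=
        ⟨fun y => (Nat.not_lt_zero _ (h y.1 y.2.2))⟩
      haveI : IsEmpty (TopologicalSpace.IrreducibleCloseds {y : X // f y = s ∧ ¬ FlatMod.IsFlatOverAt f F y}) :=
        ⟨fun Z => isEmptyElim Z.isIrreducible.nonempty.some⟩
      rw [topologicalKrullDim, Order.krullDim_eq_bot]
      exact WithBot.bot_lt_coe _
  · have e : ∀ a : WithBot ℕ∞, a < ((n + 1 : ℕ) : WithBot ℕ∞) ↔ a ≤ (n : WithBot ℕ∞) := by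
      intro a
      cases a with
      | bot => simp only [bot_le, iff_true]; exact WithBot.bot_lt_coe _
      | coe c =>
        induction c using ENat.recTopCoe with
        | top =>
          refine iff_of_false (fun h => ?_) (fun h => ?_)
          · exact not_top_lt (WithBot.coe_lt_coe.1 (h : ((⊤ : ℕ∞) : WithBot ℕ∞) < (((n + 1 : ℕ) : ℕ∞) : WithBot ℕ∞)))
          · exact ENat.natCast_ne_top n (top_le_iff.1 (WithBot.coe_le_coe.1 (h : ((⊤ : ℕ∞) : WithBot ℕ∞) ≤ ((n : ℕ∞) : WithBot ℕ∞))))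
        | coe k =>
          show ((k : ℕ∞) : WithBot ℕ∞) < (((n + 1 : ℕ) : ℕ∞) : WithBot ℕ∞) ↔
            ((k : ℕ∞) : WithBot ℕ∞) ≤ ((n : ℕ∞) : WithBot ℕ∞)
          rw [WithBot.coe_lt_coe, WithBot.coe_le_coe, Nat.cast_lt, Nat.cast_le, Nat.lt_succ_iff]
    simp only [e, dim_le_iff f F, Nat.lt_succ_iff]
    exact ⟨fun h x hx => h (f x) x rfl hx, fun h s x _ hx => h x hx⟩

end Groth.Agent.Lib.RG57.NonFlatDim
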