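import Groth.Agent.Lib.RG57.EtaleAssoc
import Groth.Agent.Lib.RG.NhdPoint
import Groth.Agent.Lib.FlatCA.ImpurityReduce
import Groth.Agent.S1217
import Groth.Agent.S1221
import Groth.Agent.S1231

/-!
# Purity along a fibre tested on an étale cover of the relative assassin
-/

set_option autoImplicit false
set_option linter.style.haveILetI false

universe u

open scoped TensorProduct

attribute [local instance] Algebra.TensorProduct.rightAlgebra

namespace Groth.Agent.Lib.RG57.PureCover

/-- The point of a base change to an étale neighbourhood is unique. -/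
theorem point_unique {A B A' BA : Type u} [CommRing A] [CommRing B] [Algebra A B] [CommRing A'] [Algebra A A']
    [CommRing BA] [Algebra B BA] [Algebra A' BA] [Algebra A BA] [IsScalarTower A B BA] [IsScalarTower A A' BA]
    [Algebra.IsPushout A B A' BA] (p : Ideal A) [p.IsPrime] (p' : Ideal A') [p'.IsPrime]
    (het : _root_.FlatCA.IsEtaleNhd A A' p p') (q : Ideal B) [q.IsPrime] [q.LiesOver p]
    (P₁ P₂ : Ideal BA) [P₁.IsPrime] [P₂.IsPrime]
    (h₁B : P₁.comap (algebraMap B BA) = q) (h₁A : P₁.comap (algebraMap A' BA) = p')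
    (h₂B : P₂.comap (algebraMap B BA) = q) (h₂A : P₂.comap (algebraMap A' BA) = p') : P₁ = P₂ := by
  let e := Algebra.IsPushout.equiv A B A' BA
  have hB : ∀ P : Ideal BA, (P.comap e.toAlgHom.toRingHom).comap (algebraMap B (B ⊗[A] A')) =
      P.comap (algebraMap B BA) := fun P => Ideal.ext fun b => by
    simp only [Ideal.mem_comap]
    show e (algebraMap B _ b) ∈ P ↔ _
    rw [e.commutes]
  have hA : ∀ P : Ideal BA, (P.comap e.toAlgHom.toRingHom).comap RG.NhdPoint.inR =
      P.comap (algebraMap A' BA) := fun P => Ideal.ext fun a => by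
    simp only [Ideal.mem_comap]
    show e ((1 : B) ⊗ₜ[A] a) ∈ P ↔ _
    rw [Algebra.IsPushout.equiv_tmul, map_one, one_mul]
  have := RG.NhdPoint.point_unique p p' q het (P₁.comap e.toAlgHom.toRingHom) (P₂.comap e.toAlgHom.toRingHom)
    ((hB P₁).trans h₁B) ((hA P₁).trans h₁A) ((hB P₂).trans h₂B) ((hA P₂).trans h₂A)
  exact Ideal.comap_injective_of_surjective e.toAlgHom.toRingHom e.surjective this

variable {A B : Type u} [CommRing A] [CommRing B] [Algebra A B] [Algebra.FiniteType A B]
  (N : Type u) [AddCommGroup N] [Module B N] [Module A N] [IsScalarTower A B N] [Module.Finite B N]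
  (p : Ideal A) [p.IsPrime]
  (A' : Type u) [CommRing A'] [Algebra A A'] (p' : Ideal A') [p'.IsPrime]
  (B' : Type u) [CommRing B'] [Algebra B B'] [Algebra A' B'] [Algebra.Etale B B']
  (BA NA : Type u) [CommRing BA] [Algebra B BA] [Algebra A' BA] [Algebra A BA] [IsScalarTower A B BA]
  [IsScalarTower A A' BA] [Algebra.IsPushout A B A' BA] [Algebra BA B'] [IsScalarTower B BA B']
  [IsScalarTower A' BA B']
  [AddCommGroup NA] [Module BA NA] [Module B NA] [IsScalarTower B BA NA] [Module A' NA] [IsScalarTower A' BA NA]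
  (fA : N →ₗ[B] NA) (hfA : IsBaseChange BA fA) (het : _root_.FlatCA.IsEtaleNhd A A' p p')

include hfA het

omit [Module A N] [IsScalarTower A B N] in
theorem finiteType_and_finite : Algebra.FiniteType A' BA ∧ Module.Finite BA NA ∧ Algebra.Etale B BA := by
  haveI := het.1
  haveI : Algebra.IsPushout A A' B BA := Algebra.IsPushout.symm ‹_›
  exact ⟨.equiv (Algebra.FiniteType.baseChange A' (A := B)) (Algebra.IsPushout.equiv A A' B BA),
    Module.Finite.of_surjective hfA.equiv.toLinearMap hfA.equiv.surjective,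
    Algebra.Etale.of_equiv (Algebra.IsPushout.equiv A B A' BA)⟩

/-- If the module is pure along the fibre, the relative assassin over generisations is covered. -/
theorem covered (hflat : ∀ (q : Ideal B) [q.IsPrime], q.LiesOver p → _root_.FlatCA.FlatAt A q N)
    (hcov : ∀ (q : Ideal B) [q.IsPrime], q.LiesOver p →
      _root_.FlatCA.fiberIdeal p q ∈ associatedPrimes (p.Fiber B) (_root_.FlatCA.fiberMod p B N) →
      ∃ q' : Ideal B', q'.IsPrime ∧ q'.comap (algebraMap B B') = q ∧ q'.comap (algebraMap A' B') = p')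
    (hpN : _root_.FlatCA.IsPureAlong A B N p) (t' : Ideal A') [t'.IsPrime] (htle : t' ≤ p')
    (Q : Ideal BA) [Q.IsPrime] [Q.LiesOver t']
    (hQ : _root_.FlatCA.fiberIdeal t' Q ∈ associatedPrimes (t'.Fiber BA) (_root_.FlatCA.fiberMod t' BA NA)) :
    ∃ Q' : Ideal B', Q'.IsPrime ∧ Q'.comap (algebraMap BA B') = Q := by
  obtain ⟨hft, hfin, hetB⟩ := finiteType_and_finite N p A' p' BA NA fA hfA het
  haveI := hft
  haveI := hfin
  haveI := hetB
  haveI := het.1
  obtain ⟨hp'p, -⟩ := het.2
  haveI := hp'p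
  obtain ⟨P', hP', hQP', hP't⟩ : ∃ P' : Ideal BA, P'.IsPrime ∧ Q ≤ P' ∧ P'.LiesOver p' := by
    by_contra hcon
    exact hpN A' BA NA fA t' p' Q het
      ⟨inferInstance, hfA, htle, hp'p, inferInstance, hQ, fun P' hP' hle hl => hcon ⟨P', hP', hle, hl⟩⟩
  letI : Module A NA := Module.compHom NA (algebraMap A BA)
  haveI : IsScalarTower A BA NA := IsScalarTower.of_algebraMap_smul fun _ _ => rfl
  haveI : IsScalarTower A A' NA := IsScalarTower.of_algebraMap_smul fun a n => by
    rw [← algebraMap_smul BA (algebraMap A A' a) n, ← IsScalarTower.algebraMap_apply]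
    rfl
  haveI : IsScalarTower A B NA := IsScalarTower.of_algebraMap_smul fun a n => by
    rw [← algebraMap_smul BA (algebraMap A B a) n, ← IsScalarTower.algebraMap_apply]
    rfl
  obtain ⟨q₁, hq₁, hQq₁, hq₁p', hq₁ass⟩ := S1221.result NA p' (fun q₁ _ hl => by
    haveI := hl
    haveI : q₁.LiesOver p := Ideal.LiesOver.trans q₁ p' p
    haveI : (q₁.comap (algebraMap B BA)).LiesOver p := ⟨by
      rw [Ideal.under_def, Ideal.comap_comap, ← IsScalarTower.algebraMap_eq]
      exact Ideal.LiesOver.over⟩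
    exact ((S1231.result (R := A) (T := A') NA q₁).1).1
      (RG.FibrePoint.flatAt_up fA hfA (q₁.comap (algebraMap B BA)) q₁ rfl (hflat _ inferInstance)))
    t' htle Q hQ ⟨P', hP', hQP', hP't⟩
  haveI := hq₁p'
  haveI : q₁.LiesOver p := Ideal.LiesOver.trans q₁ p' p
  obtain ⟨hql, hqass⟩ := FlatCA.FibreDescend.assoc_comap ‹Algebra.IsPushout A B A' BA› fA hfA p p' q₁ hq₁ass
  haveI := hql
  obtain ⟨q', hq', hq'q, hq'p⟩ := hcov (q₁.comap (algebraMap B BA)) hql hqass
  have heq : q'.comap (algebraMap BA B') = q₁ := by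
    refine point_unique p p' het (q₁.comap (algebraMap B BA)) _ _ ?_ ?_ rfl hq₁p'.over.symm
    · rw [Ideal.comap_comap, ← IsScalarTower.algebraMap_eq, hq'q]
    · rw [Ideal.comap_comap, ← IsScalarTower.algebraMap_eq, hq'p]
  haveI : Algebra.Etale BA B' := Algebra.Etale.of_restrictScalars (R := B) (A := BA) (B := B')
  haveI : q'.LiesOver q₁ := ⟨heq.symm⟩
  obtain ⟨Q', -, hQ', hQ'Q⟩ := q'.exists_ideal_le_liesOver_of_le (p := Q) (q := q₁) hQq₁
  exact ⟨Q', hQ', hQ'Q.over.symm⟩

variable (N' : Type u) [AddCommGroup N'] [Module B' N'] [Module B N'] [IsScalarTower B B' N'] [Module A' N']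
  [IsScalarTower A' B' N'] (f : N →ₗ[B] N') (hf : IsBaseChange B' f)

include hf

omit [Module A N] [IsScalarTower A B N] in
/-- If the relative assassin over generisations is covered by a pure étale neighbourhood, the module is pure. -/
theorem isPureAlong (hpure : _root_.FlatCA.IsPureAlong A' B' N' p')
    (hQcov : ∀ (t' : Ideal A') [t'.IsPrime], t' ≤ p' → ∀ (Q : Ideal BA) [Q.IsPrime], Q.LiesOver t' →
        _root_.FlatCA.fiberIdeal t' Q ∈ associatedPrimes (t'.Fiber BA) (_root_.FlatCA.fiberMod t' BA NA) →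
        ∃ Q' : Ideal B', Q'.IsPrime ∧ Q'.comap (algebraMap BA B') = Q) :
    _root_.FlatCA.IsPureAlong A B N p := by
  intro A'' B'' N'' _ _ _ _ _ _ _ _ _ _ _ _ _ _ f'' t'' t _ _ P _ het'' himp
  obtain ⟨hft, hfin, hetB⟩ := finiteType_and_finite N p A' p' BA NA fA hfA het
  haveI := hft
  haveI := hfin
  haveI := hetB
  haveI := het.1
  obtain ⟨hp'p, -⟩ := het.2
  haveI := hp'p
  obtain ⟨u, hu, huA', huA''⟩ := RG.NhdPoint.exists_point p t p' het''
  haveI := hu
  have het3 := RG.NhdPoint.isEtaleNhd p t p' het'' u huA' huA''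
  let A3 := A' ⊗[A] A''
  haveI : u.LiesOver p' := ⟨huA'.symm⟩
  haveI : u.LiesOver t := ⟨huA''.symm⟩
  haveI : Module.Flat A'' A3 :=
    Module.Flat.isBaseChange (R := A) (S := A'') (M := A') A3
      (Algebra.IsPushout.out (R := A) (S := A'') (R' := A') (S' := A3))
  obtain ⟨t3, ht3u, ht3, ht3t⟩ := u.exists_ideal_le_liesOver_of_le (p := t'') (q := t) himp.2.2.1
  haveI := ht3
  haveI := ht3t
  obtain ⟨B3, N3, _, _, _, _, _, _, _, _, _, _, _, _, f3, P3, _, himp3⟩ :=
    FlatCA.ImpurityReduce.up_exact himp A3 t3 u ht3u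
  obtain ⟨hpo3, hf3, -, -, hP3t, hP3ass, hno3⟩ := himp3
  haveI := hP3t
  -- `B3` as an algebra over `BA`
  letI : Algebra A' B3 := ((algebraMap A3 B3).comp (algebraMap A' A3)).toAlgebra
  haveI : IsScalarTower A' A3 B3 := .of_algebraMap_eq' rfl
  haveI : IsScalarTower A A' B3 := IsScalarTower.of_algebraMap_eq fun a => by
    rw [IsScalarTower.algebraMap_apply A' A3 B3, ← IsScalarTower.algebraMap_apply A A' A3,
      ← IsScalarTower.algebraMap_apply A A3 B3]
  let ψ : BA →ₐ[A] B3 := Algebra.pushoutDesc BA (IsScalarTower.toAlgHom A B B3) (IsScalarTower.toAlgHom A A' B3)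
    fun _ _ => mul_comm _ _
  letI : Algebra BA B3 := ψ.toRingHom.toAlgebra
  haveI : IsScalarTower B BA B3 := IsScalarTower.of_algebraMap_eq fun b =>
    (Algebra.pushoutDesc_left (S' := BA) (IsScalarTower.toAlgHom A B B3) (IsScalarTower.toAlgHom A A' B3)
      (fun _ _ => mul_comm _ _) b).symm
  haveI : IsScalarTower A' BA B3 := IsScalarTower.of_algebraMap_eq fun a =>
    (Algebra.pushoutDesc_right (S' := BA) (IsScalarTower.toAlgHom A B B3) (IsScalarTower.toAlgHom A A' B3)
      (fun _ _ => mul_comm _ _) a).symm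
  haveI : IsScalarTower A BA B3 := IsScalarTower.of_algebraMap_eq fun a => (ψ.commutes a).symm
  haveI : Algebra.IsPushout A A3 B B3 := hpo3.symm
  haveI : Algebra.IsPushout A A' B BA := Algebra.IsPushout.symm ‹_›
  haveI hpoR : Algebra.IsPushout A' BA A3 B3 := ((Algebra.IsPushout.comp_iff A A' B BA (T := A3)).1 ‹_›).symm
  letI : Module BA N3 := Module.compHom N3 (algebraMap BA B3)
  haveI : IsScalarTower BA B3 N3 := IsScalarTower.of_algebraMap_smul fun _ _ => rfl
  haveI : IsScalarTower B BA N3 := IsScalarTower.of_algebraMap_smul fun b n => by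
    show algebraMap BA B3 (algebraMap B BA b) • n = b • n
    rw [← IsScalarTower.algebraMap_apply B BA B3, algebraMap_smul]
  let g := hfA.lift f3
  have hg : IsBaseChange B3 g := (IsBaseChange.comp_iff hfA).1 (by rw [hfA.lift_comp]; exact hf3)
  let t' := t3.comap (algebraMap A' A3)
  haveI : t3.LiesOver t' := ⟨rfl⟩
  obtain ⟨hQt, hQass⟩ := FlatCA.FibreDescend.assoc_comap hpoR g hg t' t3 P3 hP3ass
  have htp : t' ≤ p' := (Ideal.comap_mono ht3u).trans huA'.le
  obtain ⟨Q', hQ', hQ'Q⟩ := hQcov t' htp (P3.comap (algebraMap BA B3)) hQt hQass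
  haveI := hQ'
  haveI : Q'.LiesOver (P3.comap (algebraMap BA B3)) := ⟨hQ'Q.symm⟩
  haveI : P3.LiesOver (P3.comap (algebraMap BA B3)) := ⟨rfl⟩
  -- the étale neighbourhood of `B'`
  haveI : Algebra.Etale BA B' := Algebra.Etale.of_restrictScalars (R := B) (A := BA) (B := B')
  obtain ⟨Ps, hPs, hPsP3, hPsQ'⟩ := S1217.exists_prime_tensor (P3.comap (algebraMap BA B3)) P3 Q'
  haveI := hPs
  haveI := hPsP3
  haveI := hPsQ'
  haveI : SMulCommClass BA A3 B3 := ⟨fun a b c => by simp only [Algebra.smul_def]; ring⟩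
  let Bs := B3 ⊗[BA] B'
  haveI : SMulCommClass B3 B' Bs := ⟨fun a b c => by simp only [Algebra.smul_def]; ring⟩
  haveI : IsScalarTower A' B' Bs := IsScalarTower.of_algebraMap_eq fun a => by
    rw [IsScalarTower.algebraMap_apply A' BA Bs, IsScalarTower.algebraMap_apply A' BA B',
      ← IsScalarTower.algebraMap_apply BA B' Bs]
  haveI : Algebra.IsPushout BA B' B3 Bs := Algebra.IsPushout.symm inferInstance
  have hpos : Algebra.IsPushout A' B' A3 Bs := (Algebra.IsPushout.comp_iff A' BA A3 B3 (T := B')).2 ‹_›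
  let Ns := Bs ⊗[B3] N3
  let g2 : N3 →ₗ[B3] Ns := TensorProduct.mk B3 Bs N3 1
  have hg2 : IsBaseChange Bs g2 := TensorProduct.isBaseChange B3 N3 Bs
  letI : Module BA N' := Module.compHom N' (algebraMap BA B')
  haveI : IsScalarTower BA B' N' := IsScalarTower.of_algebraMap_smul fun _ _ => rfl
  haveI : IsScalarTower B BA N' := IsScalarTower.of_algebraMap_smul fun b n => by
    show algebraMap BA B' (algebraMap B BA b) • n = b • n
    rw [← IsScalarTower.algebraMap_apply B BA B', algebraMap_smul]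
  have hgN : IsBaseChange B' (hfA.lift f) := (IsBaseChange.comp_iff hfA).1 (by rw [hfA.lift_comp]; exact hf)
  let g' : N' →ₗ[B'] Ns := hgN.lift ((g2.restrictScalars BA).comp g)
  have hg' : IsBaseChange Bs g' := (IsBaseChange.comp_iff hgN).1 (by rw [hgN.lift_comp]; exact hg.comp hg2)
  haveI : Algebra.FiniteType A3 B3 :=
    .equiv (Algebra.FiniteType.baseChange A3 (A := B)) (Algebra.IsPushout.equiv A A3 B B3)
  haveI : Module.Finite B3 N3 := Module.Finite.of_surjective hf3.equiv.toLinearMap hf3.equiv.surjective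
  haveI : Ps.LiesOver t3 := Ideal.LiesOver.trans Ps P3 t3
  have hPsass := (EtaleAssoc.assoc_iff g2 hg2 t3 P3 Ps).2 hP3ass
  refine hpure A3 Bs Ns g' t3 u Ps het3 ⟨hpos, hg', ht3u, inferInstance, inferInstance, hPsass, fun P₁ _ hle hl => ?_⟩
  refine hno3 (P₁.comap (algebraMap B3 Bs)) (hPsP3.over.le.trans (Ideal.comap_mono hle)) ⟨?_⟩
  rw [Ideal.under_def, Ideal.comap_comap, ← IsScalarTower.algebraMap_eq]
  exact hl.over

end Groth.Agent.Lib.RG57.PureCover
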