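import Groth.Agent.Lib.RelAss.FlatAtPoint
import Groth.Agent.Lib.RG.FibrePoint
import Groth.Agent.H47.InjCoker

/-!
# Avoiding a closed set by the relative assassin near a point of the base
-/

set_option autoImplicit false
set_option linter.style.haveILetI false

universe u

open scoped TensorProduct

namespace Groth.Agent.Lib.RG57.PureLocus


section UI

variable {R S : Type u} [CommRing R] [CommRing S] [Algebra R S]
  {N : Type u} [AddCommGroup N] [Module S N] [Module R N] [IsScalarTower R S N]
  {M : Type u} [AddCommGroup M] [Module S M] [Module R M] [IsScalarTower R S M]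

theorem rTensor_lTensor_comm {X Y : Type u} [AddCommGroup X] [Module R X] [AddCommGroup Y] [Module R Y]
    {K F : Type u} [AddCommGroup K] [Module R K] [AddCommGroup F] [Module R F] (v : X →ₗ[R] Y) (ι : K →ₗ[R] F)
    (z : X ⊗[R] K) : v.rTensor F (ι.lTensor X z) = ι.lTensor Y (v.rTensor K z) := by
  rw [← LinearMap.comp_apply, LinearMap.rTensor_comp_lTensor, ← LinearMap.lTensor_comp_rTensor, LinearMap.comp_apply]

theorem rTensor_rTensor_eq_zero {X Y Z : Type u} [AddCommGroup X] [Module R X] [AddCommGroup Y] [Module R Y]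
    [AddCommGroup Z] [Module R Z] {F : Type u} [AddCommGroup F] [Module R F] (v : X →ₗ[R] Y) (w : Y →ₗ[R] Z)
    (h : ∀ x, w (v x) = 0) (z : X ⊗[R] F) : w.rTensor F (v.rTensor F z) = 0 := by
  rw [← LinearMap.comp_apply, ← LinearMap.rTensor_comp, show w.comp v = 0 from LinearMap.ext h]
  simp

/-- A lift with flat cokernel. -/
theorem killed_aux (u : N →ₗ[S] M) {C : Type u} [AddCommGroup C] [Module S C] [Module R C] [IsScalarTower R S C]
    (qu : M →ₗ[S] C) (hqu : Function.Exact u qu) (hqus : Function.Surjective qu) (q : Ideal S) [q.IsPrime]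
    (hC : Module.Flat R (LocalizedModule q.primeCompl C))
    {K F W : Type u} [AddCommGroup K] [Module R K] [AddCommGroup F] [Module R F] [AddCommGroup W] [Module R W]
    (ι : K →ₗ[R] F) (π : F →ₗ[R] W) (hex : Function.Exact ι π) (hπ : Function.Surjective π)
    (hι : Function.Injective ι)
    (hfree : ∀ d : N ⊗[R] F, TensorProduct.AlgebraTensorModule.rTensor R F u d = 0 → ∃ t ∉ q, t • d = 0)
    (x : N ⊗[R] W) (hx : TensorProduct.AlgebraTensorModule.rTensor R W u x = 0) : ∃ s ∉ q, s • x = 0 := by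
  obtain ⟨y, rfl⟩ := LinearMap.lTensor_surjective N hπ x
  let uF := TensorProduct.AlgebraTensorModule.rTensor R F u
  have h1 : π.lTensor M (uF y) = 0 := (rTensor_lTensor_comm (u.restrictScalars R) π y).symm.trans hx
  obtain ⟨m, hm⟩ := (lTensor_exact M hex hπ (uF y)).1 h1
  let quK := TensorProduct.AlgebraTensorModule.rTensor R K qu
  have h2 : ι.lTensor C (quK m) = 0 := by
    refine ((rTensor_lTensor_comm (qu.restrictScalars R) ι m).symm).trans ?_
    rw [hm]
    exact rTensor_rTensor_eq_zero (u.restrictScalars R) (qu.restrictScalars R) hqu.apply_apply_eq_zero y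
  haveI := hC
  obtain ⟨s, hs, hsm⟩ := H19.FlatLocus.killed_of_lTensor_injective q.primeCompl
    (LocalizedModule.mkLinearMap q.primeCompl C) ι
    (Module.Flat.lTensor_preserves_injective_linearMap _ hι) (quK m) h2
  rw [← map_smul] at hsm
  have hexR : Function.Exact (u.restrictScalars R) (qu.restrictScalars R) := hqu
  obtain ⟨n, hn⟩ := (rTensor_exact K hexR (show Function.Surjective (qu.restrictScalars R) from hqus) (s • m)).1 hsm
  let iN := TensorProduct.AlgebraTensorModule.lTensor S N ι
  let iM := TensorProduct.AlgebraTensorModule.lTensor S M ι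
  let πN := TensorProduct.AlgebraTensorModule.lTensor S N π
  have h3 : uF (s • y - iN n) = 0 := by
    rw [map_sub, map_smul, sub_eq_zero]
    have hc : uF (iN n) = iM ((u.restrictScalars R).rTensor K n) := rTensor_lTensor_comm (u.restrictScalars R) ι n
    rw [hc, hn, map_smul, ← hm]
    rfl
  obtain ⟨t, ht, htd⟩ := hfree _ h3
  refine ⟨t * s, fun h => (Ideal.IsPrime.mem_or_mem inferInstance h).elim ht hs, ?_⟩
  have hπd : πN (iN n) = 0 := by
    show π.lTensor N (ι.lTensor N n) = 0
    rw [← LinearMap.comp_apply, ← LinearMap.lTensor_comp,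
      show π.comp ι = 0 from LinearMap.ext fun k => hex.apply_apply_eq_zero k]
    simp
  have h5 := congrArg πN htd
  rw [map_zero, smul_sub, map_sub, map_smul, map_smul, map_smul, hπd, smul_zero, sub_zero, smul_smul] at h5
  exact h5

/-- Coordinates of an element of the kernel after tensoring with a free module vanish at the point. -/
theorem killed_free (u : N →ₗ[S] M) (q : Ideal S) [q.IsPrime] (h : ∀ z, u z = 0 → ∃ s ∉ q, s • z = 0) (ι : Type u)
    [DecidableEq ι] (d : N ⊗[R] (ι →₀ R)) (hd : TensorProduct.AlgebraTensorModule.rTensor R (ι →₀ R) u d = 0) :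
    ∃ t ∉ q, t • d = 0 := by
  classical
  let eN := TensorProduct.finsuppScalarRight R S N ι
  let eM := TensorProduct.finsuppScalarRight R S M ι
  have he : ∀ z : N ⊗[R] (ι →₀ R), ∀ w, eM (TensorProduct.AlgebraTensorModule.rTensor R (ι →₀ R) u z) w = u (eN z w) :=
    fun z w => by
    induction z using TensorProduct.induction_on with
    | zero => simp
    | add a b ha hb => simp only [map_add, Finsupp.coe_add, Pi.add_apply, ha, hb]
    | tmul a b => simp [eM, eN, TensorProduct.finsuppScalarRight_apply_tmul_apply]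
  have h4 : ∀ w, ∃ t ∉ q, t • eN d w = 0 := fun w => h _ (by rw [← he, hd, map_zero]; rfl)
  choose t ht htd using h4
  let T := ∏ w ∈ (eN d).support, t w
  refine ⟨T, fun hmem => ?_, eN.injective ?_⟩
  · obtain ⟨w, -, hw⟩ := (Ideal.IsPrime.prod_mem_iff (p := q)).1 hmem
    exact ht w hw
  rw [map_zero, map_smul]
  ext w
  rw [Finsupp.coe_smul, Pi.smul_apply, Finsupp.coe_zero, Pi.zero_apply]
  by_cases hw : w ∈ (eN d).support
  · rw [show T = (∏ v ∈ (eN d).support.erase w, t v) * t w from (Finset.prod_erase_mul _ t hw).symm, mul_smul,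
      htd, smul_zero]
  · rw [Finsupp.notMem_support_iff.1 hw, smul_zero]

/-- Injectivity with flat cokernel at a point gives universal injectivity at the point. -/
theorem killed_of_injFlatAt (u : N →ₗ[S] M) (Q : PrimeSpectrum S) (h : H47.InjCoker.InjFlatAt (A := R) u Q)
    (W : Type u) [AddCommGroup W] [Module R W] (x : N ⊗[R] W)
    (hx : TensorProduct.AlgebraTensorModule.rTensor R W u x = 0) : ∃ s ∉ Q.asIdeal, s • x = 0 := by
  classical
  have h0 : ∀ d : N ⊗[R] (W →₀ R), TensorProduct.AlgebraTensorModule.rTensor R (W →₀ R) u d = 0 →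
      ∃ t ∉ Q.asIdeal, t • d = 0 := killed_free u Q.asIdeal h.1 W
  let π : (W →₀ R) →ₗ[R] W := Finsupp.linearCombination R id
  have hπ : Function.Surjective π := fun w => ⟨Finsupp.single w 1, by simp [π]⟩
  let ι := (LinearMap.ker π).subtype
  have hex : Function.Exact ι π := LinearMap.exact_subtype_ker_map π
  have hι : Function.Injective ι := Submodule.injective_subtype _
  refine killed_aux (K := LinearMap.ker π) (F := W →₀ R) (W := W) (C := M ⧸ LinearMap.range u) u
    (LinearMap.range u).mkQ (LinearMap.exact_map_mkQ_range u) (Submodule.mkQ_surjective _) Q.asIdeal h.2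
    ι π hex hπ hι ?_ x hx
  exact h0

end UI

section Locus

variable {R S : Type u} [CommRing R] [CommRing S] [Algebra R S] [Algebra.FinitePresentation R S]
  (N : Type u) [AddCommGroup N] [Module S N] [Module R N] [IsScalarTower R S N] [Module.FinitePresentation S N]
  [Module.Flat R N] {m : ℕ} (g : Fin m → S)

/-- Multiplication by finitely many elements. -/
noncomputable def psi : N →ₗ[S] (Fin m → N) := LinearMap.pi fun k => g k • LinearMap.id

omit [Algebra.FinitePresentation R S] [Module.FinitePresentation S N] [Module.Flat R N] in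
theorem rTensor_psi (W : Type u) [AddCommGroup W] [Module R W] (x : N ⊗[R] W) :
    TensorProduct.AlgebraTensorModule.rTensor R W (psi N g) x =
      ∑ k, TensorProduct.AlgebraTensorModule.rTensor R W (LinearMap.single S (fun _ : Fin m => N) k) (g k • x) := by
  induction x using TensorProduct.induction_on with
  | zero => simp
  | add a b ha hb => simp only [map_add, ha, hb, smul_add, Finset.sum_add_distrib]
  | tmul a b =>
    simp only [TensorProduct.smul_tmul', TensorProduct.AlgebraTensorModule.rTensor_tmul, ← TensorProduct.sum_tmul]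
    congr 1
    ext j
    simp [psi, Pi.single_apply]

/-- The locus where elements killed by all the given ones vanish universally. -/
theorem injFlatAt_of_avoid (Q : Ideal S) [Q.IsPrime]
    (hQ : ∀ (t : Ideal R) [t.IsPrime] (Q₁ : Ideal S) [Q₁.IsPrime] [Q₁.LiesOver t], Q₁ ≤ Q →
      _root_.FlatCA.fiberIdeal t Q₁ ∈ associatedPrimes (t.Fiber S) (_root_.FlatCA.fiberMod t S N) → ∃ k, g k ∉ Q₁) :
    H47.InjCoker.InjFlatAt (A := R) (psi N g) ⟨Q, inferInstance⟩ := by
  classical
  have key : ∀ (W : Type u) [AddCommGroup W] [Module R W] (x : N ⊗[R] W), (∀ k, g k • x = 0) → ∃ s ∉ Q, s • x = 0 := by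
    intro W _ _ x hx
    by_contra hcon
    push Not at hcon
    have hle : (Submodule.span S {x}).annihilator ≤ Q := fun c hc => by
      by_contra hcQ
      exact hcon c hcQ ((Submodule.mem_annihilator_span_singleton _ _).1 hc)
    obtain ⟨Q₁, hQ₁, hQ₁Q⟩ := Ideal.exists_minimalPrimes_le hle
    haveI := hQ₁.1.1
    let t := Q₁.comap (algebraMap R S)
    haveI : Q₁.LiesOver t := ⟨rfl⟩
    obtain ⟨k, hk⟩ := hQ t Q₁ hQ₁Q (FlatCA.WeakAss.mem_fibre_of_minimal W t Q₁ x hQ₁)
    exact hk (hQ₁.1.2 ((Submodule.mem_annihilator_span_singleton _ _).2 (hx k)))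
  refine ⟨fun z hz => ?_, ?_⟩
  · let e := TensorProduct.AlgebraTensorModule.rid R S N
    obtain ⟨s, hs, hsz⟩ := key R (e.symm z) fun k => by
      rw [← map_smul, show g k • z = 0 from congrFun hz k, map_zero]
    exact ⟨s, hs, e.symm.injective (by rw [map_smul, map_zero]; exact hsz)⟩
  let M := Fin m → N
  let C := M ⧸ LinearMap.range (psi N g)
  let qu : M →ₗ[S] C := (LinearMap.range (psi N g)).mkQ
  refine (H19.FlatLocus.flat_iff_killed Q.primeCompl (LocalizedModule.mkLinearMap Q.primeCompl C)).2 fun J ξ hξ => ?_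
  obtain ⟨y, rfl⟩ := LinearMap.rTensor_surjective J (g := qu.restrictScalars R) (Submodule.mkQ_surjective _) ξ
  let μ : ∀ (X : Type u) [AddCommGroup X] [Module R X] [Module S X] [IsScalarTower R S X], X ⊗[R] J →ₗ[S] X :=
    fun X _ _ _ _ => (TensorProduct.AlgebraTensorModule.rid R S X).toLinearMap.comp
      (TensorProduct.AlgebraTensorModule.lTensor S X J.subtype)
  have hμ : ∀ {X Y : Type u} [AddCommGroup X] [Module R X] [Module S X] [IsScalarTower R S X] [AddCommGroup Y]
      [Module R Y] [Module S Y] [IsScalarTower R S Y] (l : X →ₗ[S] Y) (z : X ⊗[R] J),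
      μ Y (TensorProduct.AlgebraTensorModule.rTensor R J l z) = l (μ X z) := by
    intro X Y _ _ _ _ _ _ _ _ l z
    induction z using TensorProduct.induction_on with
    | zero => simp
    | add a b ha hb => simp only [map_add, ha, hb]
    | tmul a b => simp [μ, map_smul]
  have hq0 : qu (μ M y) = 0 := by
    rw [← hμ qu y]
    show (TensorProduct.AlgebraTensorModule.rid R S C) (J.subtype.lTensor C ((qu.restrictScalars R).rTensor J y)) = 0
    rw [hξ, map_zero]
  obtain ⟨n, hn⟩ : μ M y ∈ LinearMap.range (psi N g) := (Submodule.Quotient.mk_eq_zero _).1 hq0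
  have hker : ∀ (z : N ⊗[R] J), (μ N z) ⊗ₜ[R] (1 : R ⧸ J) = 0 := fun z => by
    induction z using TensorProduct.induction_on with
    | zero => simp
    | add a b ha hb => rw [map_add, TensorProduct.add_tmul, ha, hb, add_zero]
    | tmul a b =>
      have : μ N (a ⊗ₜ b) = (b : R) • a := by simp [μ]
      rw [this, TensorProduct.smul_tmul]
      rw [show (b : R) • (1 : R ⧸ J) = 0 from (Algebra.smul_def _ _).trans (by
        rw [mul_one]; exact Ideal.Quotient.eq_zero_iff_mem.2 b.2), TensorProduct.tmul_zero]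
  obtain ⟨s, hs, hsn⟩ := key (R ⧸ J) (n ⊗ₜ[R] (1 : R ⧸ J)) fun k => by
    rw [TensorProduct.smul_tmul', show g k • n = (LinearMap.proj k : M →ₗ[S] N) (μ M y) by rw [← hn]; rfl, ← hμ]
    exact hker _
  obtain ⟨y', hy'⟩ : ∃ y', μ N y' = s • n := by
    rw [TensorProduct.smul_tmul'] at hsn
    have hexJ : Function.Exact J.subtype (IsScalarTower.toAlgHom R R (R ⧸ J)).toLinearMap := fun r => by
      simp [Ideal.Quotient.eq_zero_iff_mem]
    obtain ⟨z, hz⟩ := (lTensor_exact N hexJ Ideal.Quotient.mk_surjective ((s • n) ⊗ₜ[R] (1 : R))).1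
      (show (s • n) ⊗ₜ[R] (algebraMap R (R ⧸ J) 1) = 0 by rw [map_one]; exact hsn)
    exact ⟨z, (congrArg (TensorProduct.AlgebraTensorModule.rid R S N) hz).trans (by simp)⟩
  let d := s • y - TensorProduct.AlgebraTensorModule.rTensor R J (psi N g) y'
  have hd : μ M d = 0 := by rw [map_sub, map_smul, hμ, hy', map_smul, hn, sub_self]
  haveI : Module.Flat R M :=
    Module.Flat.of_linearEquiv (DFinsupp.linearEquivFunOnFintype (R := R) (M := fun _ : Fin m => N)).symm
  have hd0 : d = 0 := (Module.Flat.lTensor_preserves_injective_linearMap (M := M) J.subtype J.injective_subtype)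
    (((TensorProduct.AlgebraTensorModule.rid R S M).map_eq_zero_iff.1 hd).trans (map_zero _).symm)
  refine ⟨s, hs, ?_⟩
  show s • TensorProduct.AlgebraTensorModule.rTensor R J qu y = 0
  rw [← map_smul, sub_eq_zero.1 hd0]
  show (qu.restrictScalars R).rTensor J (((psi N g).restrictScalars R).rTensor J y') = 0
  rw [← LinearMap.comp_apply, ← LinearMap.rTensor_comp,
    show (qu.restrictScalars R).comp ((psi N g).restrictScalars R) = 0 from
      LinearMap.ext fun n => (Submodule.Quotient.mk_eq_zero _).2 ⟨n, rfl⟩]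
  simp

/-- If the associated points of the fibres over generisations avoid a closed set, so do those of nearby fibres. -/
theorem exists_avoid_away (p : Ideal R) [p.IsPrime]
    (h : ∀ (t : Ideal R) [t.IsPrime], t ≤ p → ∀ (Q : Ideal S) [Q.IsPrime] [Q.LiesOver t],
      _root_.FlatCA.fiberIdeal t Q ∈ associatedPrimes (t.Fiber S) (_root_.FlatCA.fiberMod t S N) → ∃ k, g k ∉ Q) :
    ∃ f : R, f ∉ p ∧ ∀ (t : Ideal R) [t.IsPrime], f ∉ t → ∀ (Q : Ideal S) [Q.IsPrime] [Q.LiesOver t],
      _root_.FlatCA.fiberIdeal t Q ∈ associatedPrimes (t.Fiber S) (_root_.FlatCA.fiberMod t S N) → ∃ k, g k ∉ Q := by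
  classical
  let U := {Q : PrimeSpectrum S | H47.InjCoker.InjFlatAt (A := R) (psi N g) Q}
  have hU : IsOpen U := H47.InjCoker.isOpen_injFlatAt (psi N g)
  obtain ⟨J, hJ⟩ := (PrimeSpectrum.isClosed_iff_zeroLocus_ideal _).1 hU.isClosed_compl
  obtain ⟨f, hfp, hfJ⟩ : ∃ f : R, f ∉ p ∧ algebraMap R S f ∈ J := by
    by_contra hcon
    push Not at hcon
    obtain ⟨Q, hQ, hJQ, hd⟩ := Ideal.exists_le_prime_disjoint J (p.primeCompl.map (algebraMap R S))
      (Set.disjoint_left.2 fun x hx hx' => by
        obtain ⟨r, hr, rfl⟩ := hx'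
        exact hcon r hr hx)
    haveI := hQ
    have hQU : (⟨Q, hQ⟩ : PrimeSpectrum S) ∈ U := injFlatAt_of_avoid N g Q fun t _ Q₁ _ hQ₁t hle hass =>
      h t (fun r hr => by
        by_contra hrp
        exact Set.disjoint_left.1 hd (hle ((Ideal.mem_of_liesOver Q₁ t r).1 hr)) ⟨r, hrp, rfl⟩) Q₁ hass
    have h0 : (⟨Q, hQ⟩ : PrimeSpectrum S) ∈ PrimeSpectrum.zeroLocus (J : Set S) := hJQ
    rw [← hJ] at h0
    exact h0 hQU
  refine ⟨f, hfp, fun t _ hft Q _ _ hass => ?_⟩
  by_contra hcon
  push Not at hcon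
  have hQU : (⟨Q, inferInstance⟩ : PrimeSpectrum S) ∈ U := by
    by_contra hQ
    have h0 : (⟨Q, inferInstance⟩ : PrimeSpectrum S) ∈ PrimeSpectrum.zeroLocus (J : Set S) := hJ ▸ hQ
    exact hft ((Ideal.mem_of_liesOver Q t f).2 (h0 hfJ))
  have hnot : ¬ RG.FibrePoint.NzdAt t Q N := by
    rintro ⟨c, hc, hreg⟩
    obtain ⟨z, hz⟩ := (RelAss.FlatAtPoint.assoc_iff_minAt N t Q).1 hass
    obtain ⟨n, w, hw, hwz⟩ := hz.2 c hc
    induction n generalizing w with
    | zero => exact hz.1 w hw (by rwa [pow_zero, mul_one] at hwz)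
    | succ n ih =>
      rw [show w * c ^ (n + 1) = c * (w * c ^ n) by ring, mul_smul] at hwz
      obtain ⟨w', hw', hwz'⟩ := hreg _ hwz
      exact ih (w' * w) (fun h => (Ideal.IsPrime.mem_or_mem inferInstance h).elim hw' hw)
        (by rw [mul_assoc, mul_smul]; exact hwz')
  obtain ⟨ξ, hξ, hne⟩ := RG.FibrePoint.socAt_of_not_nzdAt hnot
  choose w hw hwξ using fun k => hξ (g k) (hcon k)
  let W := ∏ k, w k
  have hW : W ∉ Q := fun hmem => by
    obtain ⟨k, -, hk⟩ := (Ideal.IsPrime.prod_mem_iff (p := Q)).1 hmem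
    exact hw k hk
  have hkill : TensorProduct.AlgebraTensorModule.rTensor R t.ResidueField (psi N g) (W • ξ) = 0 := by
    rw [rTensor_psi]
    refine Finset.sum_eq_zero fun k _ => ?_
    rw [show g k • W • ξ = (∏ j ∈ Finset.univ.erase k, w j) • (w k • g k • ξ) by
      rw [smul_smul, smul_smul, smul_smul]
      congr 1
      rw [show W = (∏ j ∈ Finset.univ.erase k, w j) * w k from (Finset.prod_erase_mul _ w (Finset.mem_univ k)).symm]
      ring, hwξ, smul_zero, map_zero]
  obtain ⟨s, hs, hsξ⟩ := killed_of_injFlatAt (psi N g) _ hQU t.ResidueField (W • ξ) hkill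
  exact hne (s * W) (fun h => (Ideal.IsPrime.mem_or_mem inferInstance h).elim hs hW) (by rw [mul_smul]; exact hsξ)

end Locus

end Groth.Agent.Lib.RG57.PureLocus
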