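import Groth.Agent.Lib.RG57.PureLocus
import Groth.Agent.Lib.RG57.PureCover
import Groth.Agent.Lib.RG.NearApply
import Groth.Agent.Lib.RelAss.Base
import Groth.Agent.Lib.Pure.Decomp
import Groth.Agent.Lib.Pure.Chain
import Groth.Agent.S6338
import Mathlib.RingTheory.Etale.Pi
import Mathlib.RingTheory.Spectrum.Prime.Chevalley

/-!
# Projectivity after étale localisation of pure modules
-/

set_option autoImplicit false
set_option linter.style.haveILetI false

universe u

open scoped TensorProduct Pointwise

attribute [local instance] Algebra.TensorProduct.rightAlgebra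

namespace Groth.Agent.Lib.RG57.PureProj

/-- A module which becomes projective over a flat neighbourhood of a point is universally pure along it. -/
theorem isUnivPureAlong_of_projective_tensor {A B : Type u} [CommRing A] [CommRing B] [Algebra A B]
    [Algebra.FiniteType A B] (N : Type u) [AddCommGroup N] [Module B N] [Module A N] [IsScalarTower A B N]
    (p : Ideal A) [p.IsPrime] (T : Type u) [CommRing T] [Algebra A T] [Module.Flat A T] (pT : Ideal T) [pT.IsPrime]
    [pT.LiesOver p] [Module.Projective T (T ⊗[A] N)] : _root_.FlatCA.IsUnivPureAlong A B N p := by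
  intro A' B' N' _ _ _ _ _ _ _ _ _ _ _ _ _ _ f t' t _ _ P _ himp
  haveI := himp.2.2.2.1
  obtain ⟨v, hv, hvt, hvp⟩ := S1217.exists_prime_tensor p t pT
  haveI := hv
  haveI := hvt
  haveI := hvp
  let A'' := A' ⊗[A] T
  obtain ⟨t'', ht''v, ht'', ht''t⟩ := v.exists_ideal_le_liesOver_of_le (p := t') (q := t) himp.2.2.1
  haveI := ht''
  haveI := ht''t
  obtain ⟨B2, N2, _, _, _, _, _, _, _, _, _, _, _, _, f2, P2, _, himp2⟩ :=
    FlatCA.ImpurityReduce.up_exact himp A'' t'' v ht''v
  obtain ⟨hpo, hf, hle, -, hPt, hass, hno⟩ := himp2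
  haveI : Module.Projective A'' (A'' ⊗[A] N) :=
    Module.Projective.of_equiv (TensorProduct.AlgebraTensorModule.cancelBaseChange A T A'' A'' N)
  haveI : Module.Projective A'' N2 :=
    Module.Projective.of_equiv (FlatCA.Impurity.baseChangeEquiv (A' := A'') hpo f2 hf).symm
  obtain ⟨P', hP', hPP', hP'v⟩ := FlatCA.Impurity.exists_prime_over_of_projective (N := N2) hle hass
  exact hno P' hPP' hP'v

section Away

theorem exists_countable_span (R S N : Type u) [CommRing R] [CommRing S] [Algebra R S] [Algebra.FiniteType R S]
    [AddCommGroup N] [Module S N] [Module R N] [IsScalarTower R S N] [Module.Finite S N] :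
    ∃ s : Set N, s.Countable ∧ Submodule.span R s = ⊤ := by
  obtain ⟨n, π, hπ⟩ := Algebra.FiniteType.iff_quotient_mvPolynomial''.1 (inferInstance : Algebra.FiniteType R S)
  obtain ⟨k, y, hy⟩ := Module.Finite.exists_fin (R := S) (M := N)
  let σ : (Fin n →₀ ℕ) → S := fun m => π (MvPolynomial.monomial m 1)
  have hσ : Submodule.span R (Set.range σ) = ⊤ := by
    have h := congrArg (Submodule.map π.toLinearMap) (MvPolynomial.basisMonomials (Fin n) R).span_eq
    rw [Submodule.map_span, Submodule.map_top, LinearMap.range_eq_top.2 hπ, ← Set.range_comp] at h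
    exact h
  refine ⟨Set.range fun z : (Fin n →₀ ℕ) × Fin k => σ z.1 • y z.2, Set.countable_range _, ?_⟩
  rw [show (Set.range fun z : (Fin n →₀ ℕ) × Fin k => σ z.1 • y z.2) = Set.range σ • Set.range y from
    (Set.range_smul_range σ y).symm, Submodule.span_smul_of_span_eq_top hσ, hy, Submodule.restrictScalars_top]

theorem cancel_lTensor {A : Type u} [CommRing A] {N M : Type u} [AddCommGroup N] [Module A N] [AddCommGroup M]
    [Module A M] (T : Type u) [CommRing T] [Algebra A T] (Q : Type u) [AddCommGroup Q] [Module A Q] [Module T Q]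
    [IsScalarTower A T Q] (φ : N →ₗ[A] M) (z : Q ⊗[T] (T ⊗[A] N)) :
    TensorProduct.AlgebraTensorModule.cancelBaseChange A T T Q M ((φ.baseChange T).lTensor Q z) =
      φ.lTensor Q (TensorProduct.AlgebraTensorModule.cancelBaseChange A T T Q N z) := by
  induction z using TensorProduct.induction_on with
  | zero => simp
  | add a b ha hb => simp only [map_add, ha, hb]
  | tmul q w =>
    induction w using TensorProduct.induction_on with
    | zero => simp
    | add a b ha hb => simp only [TensorProduct.tmul_add, map_add, ha, hb]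
    | tmul s n => simp

variable {R S : Type u} [CommRing R] [CommRing S] [Algebra R S] [Algebra.FinitePresentation R S]
  (N : Type u) [AddCommGroup N] [Module S N] [Module R N] [IsScalarTower R S N] [Module.FinitePresentation S N]
  [Module.Flat R N]
  {ι : Type u} [Finite ι] (S' : ι → Type u) [∀ i, CommRing (S' i)] [∀ i, Algebra S (S' i)] [∀ i, Algebra R (S' i)]
  [∀ i, IsScalarTower R S (S' i)] [∀ i, Module.Flat S (S' i)]

omit [Finite ι] in
/-- Elements of tensors with modules over the localisation are detected on a cover of the relative assassin. -/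
theorem injective_away (f : R)
    (hcover : ∀ (t : Ideal R) [t.IsPrime], f ∉ t → ∀ (Q : Ideal S) [Q.IsPrime] [Q.LiesOver t],
      _root_.FlatCA.fiberIdeal t Q ∈ associatedPrimes (t.Fiber S) (_root_.FlatCA.fiberMod t S N) →
      ∃ (i : ι) (Q' : Ideal (S' i)), Q'.IsPrime ∧ Q'.comap (algebraMap S (S' i)) = Q)
    (W : Type u) [AddCommGroup W] [Module R W] (hf : Function.Bijective fun w : W => f • w) (x : N ⊗[R] W)
    (hx : ∀ i, ((TensorProduct.mk S (S' i) N 1).restrictScalars R).rTensor W x = 0) : x = 0 := by
  by_contra hx0
  have hne : (Submodule.span S {x}).annihilator ≠ ⊤ := fun htop => hx0 (by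
    have h2 : (1 : S) ∈ (Submodule.span S {x}).annihilator := htop ▸ Submodule.mem_top
    rw [Submodule.mem_annihilator_span_singleton, one_smul] at h2
    exact h2)
  obtain ⟨q, hq⟩ := Ideal.nonempty_minimalPrimes hne
  haveI := hq.1.1
  let t := q.comap (algebraMap R S)
  haveI : q.LiesOver t := ⟨rfl⟩
  have hmin := (RelAss.FlatAtPoint.minAt_iff (q := q) (z := x)).2 hq
  have hft : f ∉ t := fun hft => by
    obtain ⟨n, w, hw, hwx⟩ := hmin.2 _ (show algebraMap R S f ∈ q from hft)
    let l : W →ₗ[R] W := LinearMap.lsmul R W f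
    let e := TensorProduct.congr (LinearEquiv.refl R N) (LinearEquiv.ofBijective l hf)
    have he : ∀ z, e z = f • z := fun z => by
      induction z using TensorProduct.induction_on with
      | zero => simp
      | add a b ha hb => rw [map_add, ha, hb, smul_add]
      | tmul a b => simp [e, l, ← TensorProduct.tmul_smul]
    induction n with
    | zero => exact hmin.1 w hw (by rwa [pow_zero, mul_one] at hwx)
    | succ n ih =>
      refine ih (e.injective ?_)
      rw [map_zero, he, ← algebraMap_smul S f, smul_smul, ← hwx]
      congr 1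
      ring
  obtain ⟨i, q', hq', hq'c⟩ := hcover t hft q (FlatCA.WeakAss.mem_fibre_of_minimal W t q x hq)
  let e := TensorProduct.AlgebraTensorModule.assoc R S S (S' i) N W
  have he : ∀ y, e (((TensorProduct.mk S (S' i) N 1).restrictScalars R).rTensor W y) = (1 : S' i) ⊗ₜ[S] y := fun y => by
    induction y using TensorProduct.induction_on with
    | zero => simp
    | add a b ha hb => simp only [map_add, ha, hb, TensorProduct.tmul_add]
    | tmul a b => rfl
  have h1 : (1 : S' i) ⊗ₜ[S] x = 0 := by rw [← he, hx i, map_zero]
  obtain ⟨w, hw, hwx⟩ := FlatCA.WeakAss.exists_kill_of_flat x h1 q q' hq'c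
  exact hw (hq.1.2 ((Submodule.mem_annihilator_span_singleton _ _).2 hwx))

/-- A flat module covered by projective pieces is projective after localisation. -/
theorem projective_away [∀ i, Module.Projective R (S' i ⊗[S] N)] (f : R)
    (hcover : ∀ (t : Ideal R) [t.IsPrime], f ∉ t → ∀ (Q : Ideal S) [Q.IsPrime] [Q.LiesOver t],
      _root_.FlatCA.fiberIdeal t Q ∈ associatedPrimes (t.Fiber S) (_root_.FlatCA.fiberMod t S N) →
      ∃ (i : ι) (Q' : Ideal (S' i)), Q'.IsPrime ∧ Q'.comap (algebraMap S (S' i)) = Q) :
    Module.Projective (Localization.Away f) (Localization.Away f ⊗[R] N) := by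
  classical
  cases nonempty_fintype ι
  let T := Localization.Away f
  let P := ∀ i, S' i ⊗[S] N
  haveI : Module.Projective R P :=
    Module.Projective.of_equiv (DFinsupp.linearEquivFunOnFintype (R := R) (M := fun i => S' i ⊗[S] N))
  let v : N →ₗ[R] P := LinearMap.pi fun i => (TensorProduct.mk S (S' i) N 1).restrictScalars R
  have hui : CAlgX.UniversallyInjective T (v.baseChange T) := by
    intro Q _ _
    refine (LinearMap.lTensor_inj_iff_rTensor_inj (M := Q) _).1 ?_
    letI : Module R Q := Module.compHom Q (algebraMap R T)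
    haveI : IsScalarTower R T Q := IsScalarTower.of_algebraMap_smul fun _ _ => rfl
    have h2 : Function.Injective (v.lTensor Q) := by
      refine (LinearMap.lTensor_inj_iff_rTensor_inj (M := Q) _).2 ((injective_iff_map_eq_zero _).2 fun x hx => ?_)
      refine injective_away N S' f hcover Q ?_ x fun i => ?_
      · have hu : IsUnit (algebraMap R T f) := IsLocalization.map_units T ⟨f, Submonoid.mem_powers f⟩
        exact hu.smul_bijective (β := Q)
      · have h := congrArg ((LinearMap.proj i : P →ₗ[R] _).rTensor Q) hx
        rw [map_zero, ← LinearMap.comp_apply, ← LinearMap.rTensor_comp] at h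
        exact h
    intro a b hab
    apply (TensorProduct.AlgebraTensorModule.cancelBaseChange R T T Q N).injective
    apply h2
    rw [← cancel_lTensor, ← cancel_lTensor, hab]
  have hml : CAlg.IsMittagLeffler T (T ⊗[R] N) :=
    S6338.result T (v.baseChange T) hui Pure.Decomp.ml_of_projective
  refine Pure.Chain.projective_of_flat hml ?_
  obtain ⟨s, hs, hspan⟩ := exists_countable_span R S N
  refine ⟨(fun n => (1 : T) ⊗ₜ[R] n) '' s, hs.image _, ?_⟩
  refine eq_top_iff.2 fun z _ => ?_
  induction z using TensorProduct.induction_on with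
  | zero => exact zero_mem _
  | add a b ha hb => exact add_mem (ha trivial) (hb trivial)
  | tmul c n =>
    rw [show c ⊗ₜ[R] n = c • ((1 : T) ⊗ₜ[R] n) by rw [TensorProduct.smul_tmul', smul_eq_mul, mul_one]]
    refine Submodule.smul_mem _ c ?_
    have hn : n ∈ Submodule.span R s := hspan ▸ Submodule.mem_top
    exact Submodule.span_le_restrictScalars R T _ (by
      rw [show (fun n => (1 : T) ⊗ₜ[R] n) = ⇑(TensorProduct.mk R T N 1) from rfl, ← Submodule.map_span]
      exact Submodule.mem_map_of_mem hn)

end Away

end Groth.Agent.Lib.RG57.PureProj
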