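import Groth.Agent.Lib.RG57.PureStageCover
import Groth.Agent.Lib.FlatCA.ImpurityReduce

/-!
# Detecting multiplications over the local ring of a stage give purity at the stage
-/

set_option autoImplicit false
set_option linter.style.haveILetI false

universe u

open scoped TensorProduct

attribute [local instance] Algebra.TensorProduct.rightAlgebra

namespace Groth.Agent.Lib.RG57.PureStageBack

section Compare

variable {S : Type u} [CommRing S]
  {M : Type u} [AddCommGroup M] [Module S M]
  {A' BA NA : Type u} [CommRing A'] [CommRing BA] [Algebra S BA] [Algebra A' BA]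
  [AddCommGroup NA] [Module BA NA] [Module S NA] [IsScalarTower S BA NA] [Module A' NA] [IsScalarTower A' BA NA]
  (fA : M →ₗ[S] NA) (hfA : IsBaseChange BA fA) {m : ℕ} (g : Fin m → BA)
  {A3 B3 N3 : Type u} [CommRing A3] [Algebra A' A3]
  [CommRing B3] [Algebra S B3] [Algebra A3 B3] [Algebra A' B3] [IsScalarTower A' A3 B3] [Algebra BA B3]
  [IsScalarTower S BA B3] [IsScalarTower A' BA B3] [Algebra.IsPushout A' BA A3 B3] [Algebra.FiniteType A3 B3]
  [AddCommGroup N3] [Module B3 N3] [Module S N3] [IsScalarTower S B3 N3] [Module A3 N3] [IsScalarTower A3 B3 N3]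
  [Module.Finite B3 N3]
  [Module BA N3] [IsScalarTower BA B3 N3] [IsScalarTower S BA N3]
  (f3 : M →ₗ[S] N3) (hf3 : IsBaseChange B3 f3)

include hfA hf3

/-- An associated point of a fibre avoids one of the multiplications when they detect tensors with the residue
field. -/
theorem false_of_assoc (t3 : Ideal A3) [t3.IsPrime] (P3 : Ideal B3) [P3.IsPrime] [P3.LiesOver t3]
    (hass : _root_.FlatCA.fiberIdeal t3 P3 ∈ associatedPrimes (t3.Fiber B3) (_root_.FlatCA.fiberMod t3 B3 N3))
    (hmem : ∀ k, algebraMap BA B3 (g k) ∈ P3)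
    (hdet : ∀ x : NA ⊗[A'] t3.ResidueField, (∀ k, g k • x = 0) → x = 0) : False := by
  classical
  haveI hpo : Algebra.IsPushout A' BA A3 B3 := ‹_›
  let g1 := hfA.lift f3
  have hg1 : IsBaseChange B3 g1 := (IsBaseChange.comp_iff hfA).1 (by rw [hfA.lift_comp]; exact hf3)
  obtain ⟨e, -, hes⟩ := FlatCA.CompleteFlatten.exists_compare hpo g1 hg1 t3.ResidueField
  obtain ⟨z, hz⟩ := (RelAss.FlatAtPoint.assoc_iff_minAt N3 t3 P3).1 hass
  choose n w hw hwz using fun k => hz.2 _ (hmem k)
  let W := ∏ k, w k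
  have hW : W ∉ P3 := fun hmem' => by
    obtain ⟨k, -, hk⟩ := (Ideal.IsPrime.prod_mem_iff (p := P3)).1 hmem'
    exact hw k hk
  have hpow : ∀ k, algebraMap BA B3 (g k) ^ n k • W • z = 0 := fun k => by
    rw [smul_smul, show algebraMap BA B3 (g k) ^ n k * W =
        (∏ j ∈ Finset.univ.erase k, w j) * (w k * algebraMap BA B3 (g k) ^ n k) by
      rw [show W = (∏ j ∈ Finset.univ.erase k, w j) * w k from (Finset.prod_erase_mul _ w (Finset.mem_univ k)).symm]
      ring, mul_smul, hwz, smul_zero]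
  have key : ∀ K : Finset (Fin m), ∀ y : NA ⊗[A'] t3.ResidueField,
      (∀ k ∈ K, ∃ i : ℕ, g k ^ i • y = 0) → (∀ k ∉ K, g k • y = 0) → y = 0 := by
    intro K
    induction K using Finset.induction with
    | empty => exact fun y _ h => hdet y fun k => h k (Finset.notMem_empty k)
    | insert a K ha ih =>
      intro y h1 h2
      obtain ⟨i, hi⟩ := h1 a (Finset.mem_insert_self a K)
      induction i generalizing y with
      | zero => rwa [pow_zero, one_smul] at hi
      | succ i ihi =>
        have h0 : g a • y = 0 := ihi (g a • y) (fun k hk => by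
          obtain ⟨j, hj⟩ := h1 k hk
          exact ⟨j, by rw [smul_comm, hj, smul_zero]⟩) (fun k hk => by rw [smul_comm, h2 k hk, smul_zero])
          (by rw [smul_smul, ← pow_succ]; exact hi)
        refine ih y (fun k hk => h1 k (Finset.mem_insert_of_mem hk)) fun k hk => ?_
        by_cases hka : k = a
        · rw [hka]; exact h0
        · exact h2 k fun h => (Finset.mem_insert.1 h).elim hka hk
  have h0 : e.symm (W • z) = 0 := key Finset.univ _
    (fun k _ => ⟨n k, e.injective (by rw [hes, e.apply_symm_apply, map_zero, map_pow]; exact hpow k)⟩)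
    (fun k hk => absurd (Finset.mem_univ k) hk)
  exact hz.1 W hW (by rwa [e.symm.map_eq_zero_iff] at h0)

end Compare

section Stage

variable {R S : Type u} [CommRing R] [CommRing S] [Algebra R S] [Algebra.FiniteType R S]
  {M : Type u} [AddCommGroup M] [Module S M] [Module R M] [IsScalarTower R S M] [Module.Finite S M]
  (p₀ : Ideal R) [p₀.IsPrime]
  {A' : Type u} [CommRing A'] [Algebra R A'] (p' : Ideal A') [p'.IsPrime]
  (het : _root_.FlatCA.IsEtaleNhd R A' p₀ p')
  {NA : Type u} [AddCommGroup NA] [Module (S ⊗[R] A') NA] [Module S NA] [IsScalarTower S (S ⊗[R] A') NA]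
  [Module A' NA] [IsScalarTower A' (S ⊗[R] A') NA]
  (fA : M →ₗ[S] NA) (hfA : IsBaseChange (S ⊗[R] A') fA) {m : ℕ} (g : Fin m → S ⊗[R] A')
  (hno : ∀ (A3 : Type u) [CommRing A3] [Algebra R A3] [Algebra A' A3] [IsScalarTower R A' A3]
          (t3 u : Ideal A3) [t3.IsPrime] [u.IsPrime] [u.LiesOver p']
          (B3 N3 : Type u) [CommRing B3] [Algebra S B3] [Algebra A3 B3] [Algebra R B3] [IsScalarTower R S B3]
          [IsScalarTower R A3 B3] [AddCommGroup N3] [Module B3 N3] [Module S N3] [IsScalarTower S B3 N3]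
          [Module A3 N3] [IsScalarTower A3 B3 N3] (f3 : M →ₗ[S] N3) (P3 : Ideal B3) [P3.IsPrime],
          _root_.FlatCA.IsImpurity R S M p₀ A3 B3 N3 f3 t3 u P3 →
          ∀ (ψ : S ⊗[R] A' →ₐ[R] B3), (∀ b, ψ (b ⊗ₜ 1) = algebraMap S B3 b) →
            (∀ a, ψ ((1 : S) ⊗ₜ a) = algebraMap A3 B3 (algebraMap A' A3 a)) → ∀ k, ψ (g k) ∈ P3)
  {D BD ND : Type u} [CommRing D] [Algebra R D] [CommRing BD] [Algebra D BD] [Algebra S BD] [Algebra R BD]
  [IsScalarTower R D BD] [IsScalarTower R S BD] [Algebra.IsPushout R S D BD]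
  [AddCommGroup ND] [Module BD ND] [Module S ND] [IsScalarTower S BD ND]
  (kD : M →ₗ[S] ND) (hkD : IsBaseChange BD kD)
  (q : Ideal D) [q.IsPrime] [q.LiesOver p₀]
  (Pj : Ideal (D ⊗[R] A')) [Pj.IsPrime] (hPq : Pj.comap (algebraMap D (D ⊗[R] A')) = q)
  (hPp : Pj.comap RG.NhdPoint.inR = p')
  {E : Type u} [CommRing E] [Algebra A' E] (ψE : E →ₐ[A'] Localization.AtPrime Pj)
  (hdet : ∀ (W : Type u) [AddCommGroup W] [Module E W] [Module A' W] [IsScalarTower A' E W] (x : NA ⊗[A'] W),
    (∀ k, g k • x = 0) → x = 0)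

include het hfA hno hkD hPq hPp ψE hdet

/-- Purity at a stage whose local ring at the point receives the detecting algebra. -/
theorem isPureAlong : _root_.FlatCA.IsPureAlong D BD ND q := by
  intro A'' B'' N'' _ _ _ _ _ _ _ _ _ _ _ _ _ _ f t'' t _ _ P _ het'' himp
  haveI := himp.2.2.2.1
  haveI : Algebra.FiniteType D BD :=
    haveI : Algebra.IsPushout R D S BD := Algebra.IsPushout.symm ‹_›
    .equiv (Algebra.FiniteType.baseChange D (A := S)) (Algebra.IsPushout.equiv R D S BD)
  haveI : Module.Finite BD ND := Module.Finite.of_surjective hkD.equiv.toLinearMap hkD.equiv.surjective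
  haveI := het.1
  obtain ⟨hp'p, -⟩ := het.2
  haveI := hp'p
  letI : Algebra R A'' := ((algebraMap D A'').comp (algebraMap R D)).toAlgebra
  haveI : IsScalarTower R D A'' := .of_algebraMap_eq' rfl
  haveI : t.LiesOver p₀ := Ideal.LiesOver.trans t q p₀
  obtain ⟨u0, hu0, hu0t, hu0p⟩ := S1217.exists_prime_tensor p₀ t p'
  haveI := hu0
  haveI := hu0t
  haveI := hu0p
  let X := A'' ⊗[R] A'
  let A3 := Localization.AtPrime u0
  haveI : Module.Flat A'' X := inferInstance
  haveI : Module.Flat A'' A3 := Module.Flat.trans A'' X A3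
  let u := IsLocalRing.maximalIdeal A3
  haveI : u.LiesOver u0 := inferInstance
  haveI : u.LiesOver t := Ideal.LiesOver.trans u u0 t
  obtain ⟨t3, ht3u, ht3, ht3t⟩ := u.exists_ideal_le_liesOver_of_le (p := t'') (q := t) himp.2.2.1
  haveI := ht3
  haveI := ht3t
  obtain ⟨B3, N3, _, _, _, _, _, _, _, _, _, _, _, _, f3, P3, _, himp3⟩ :=
    FlatCA.ImpurityReduce.up_exact himp A3 t3 u ht3u
  obtain ⟨hpo3, hf3, -, huq, hP3t, hass, hno3⟩ := himp3
  haveI := hP3t
  -- the point of the stage
  let h : D ⊗[R] A' →ₐ[R] X := Algebra.TensorProduct.map (IsScalarTower.toAlgHom R D A'') (AlgHom.id R A')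
  let hA : D ⊗[R] A' →ₐ[A'] X := { h with
    commutes' := fun a => by
      show h ((1 : D) ⊗ₜ[R] a) = (1 : A'') ⊗ₜ[R] a
      rw [Algebra.TensorProduct.map_tmul, map_one]
      rfl }
  have hPj : Pj = u0.comap hA := by
    refine RG.NhdPoint.point_unique p₀ p' q het Pj _ hPq hPp (Ideal.ext fun d => ?_) (Ideal.ext fun a => ?_)
    · show h (d ⊗ₜ[R] (1 : A')) ∈ u0 ↔ d ∈ q
      rw [Algebra.TensorProduct.map_tmul, map_one, Ideal.mem_of_liesOver t q d]
      exact (Ideal.mem_of_liesOver u0 t _).symm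
    · show h ((1 : D) ⊗ₜ[R] a) ∈ u0 ↔ a ∈ p'
      rw [Algebra.TensorProduct.map_tmul, map_one]
      exact (Ideal.mem_of_liesOver u0 p' a).symm
  let ω : E →ₐ[A'] A3 := (Localization.localAlgHom Pj u0 hA hPj).comp ψE
  haveI : u.LiesOver p' := Ideal.LiesOver.trans u u0 p'
  haveI : IsScalarTower R A' A3 := inferInstance
  -- the impurity over the base
  letI : Algebra S B3 := ((algebraMap BD B3).comp (algebraMap S BD)).toAlgebra
  haveI : IsScalarTower S BD B3 := .of_algebraMap_eq' rfl
  letI : Algebra R B3 := ((algebraMap S B3).comp (algebraMap R S)).toAlgebra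
  haveI : IsScalarTower R S B3 := .of_algebraMap_eq' rfl
  haveI : IsScalarTower R BD B3 := IsScalarTower.of_algebraMap_eq fun r => by
    rw [IsScalarTower.algebraMap_apply R S B3, IsScalarTower.algebraMap_apply R S BD,
      ← IsScalarTower.algebraMap_apply S BD B3]
  haveI : IsScalarTower R D B3 := IsScalarTower.of_algebraMap_eq fun r => by
    rw [IsScalarTower.algebraMap_apply R BD B3, IsScalarTower.algebraMap_apply R D BD,
      ← IsScalarTower.algebraMap_apply D BD B3]
  haveI : IsScalarTower R A3 B3 := IsScalarTower.of_algebraMap_eq fun r => by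
    rw [IsScalarTower.algebraMap_apply R D B3, IsScalarTower.algebraMap_apply D A3 B3,
      ← IsScalarTower.algebraMap_apply R D A3]
  haveI hpoR : Algebra.IsPushout R S A3 B3 := by
    haveI : Algebra.IsPushout R D S BD := Algebra.IsPushout.symm ‹_›
    haveI : Algebra.IsPushout D A3 BD B3 := hpo3.symm
    exact ((Algebra.IsPushout.comp_iff R D S BD (T := A3)).2 ‹_›).symm
  letI : Module S N3 := Module.compHom N3 (algebraMap S B3)
  haveI : IsScalarTower S B3 N3 := IsScalarTower.of_algebraMap_smul fun _ _ => rfl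
  haveI : IsScalarTower S BD N3 := IsScalarTower.of_algebraMap_smul fun s n => by
    rw [← algebraMap_smul B3 (algebraMap S BD s) n, ← IsScalarTower.algebraMap_apply]
    rfl
  let fS : M →ₗ[S] N3 := (f3.restrictScalars S).comp kD
  have hfS : IsBaseChange B3 fS := hkD.comp hf3
  haveI hu_p₀ : u.LiesOver p₀ := Ideal.LiesOver.trans u p' p₀
  let ψ : S ⊗[R] A' →ₐ[R] B3 := Algebra.TensorProduct.lift (IsScalarTower.toAlgHom R S B3)
    ((IsScalarTower.toAlgHom R A3 B3).comp (IsScalarTower.toAlgHom R A' A3)) fun _ _ => Commute.all _ _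
  have hψS : ∀ b, ψ (b ⊗ₜ 1) = algebraMap S B3 b := fun b =>
    (Algebra.TensorProduct.lift_tmul _ _ _ b 1).trans (by rw [map_one, mul_one]; rfl)
  have hψA : ∀ a, ψ ((1 : S) ⊗ₜ a) = algebraMap A3 B3 (algebraMap A' A3 a) := fun a =>
    (Algebra.TensorProduct.lift_tmul _ _ _ 1 a).trans (by rw [map_one, one_mul]; rfl)
  have hmem := hno A3 t3 u B3 N3 fS P3 ⟨hpoR, hfS, ht3u, hu_p₀, hP3t, hass, hno3⟩ ψ hψS hψA
  -- detection
  letI : Algebra A' B3 := ((algebraMap A3 B3).comp (algebraMap A' A3)).toAlgebra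
  haveI : IsScalarTower A' A3 B3 := .of_algebraMap_eq' rfl
  letI : Algebra (S ⊗[R] A') B3 := ψ.toRingHom.toAlgebra
  haveI : IsScalarTower S (S ⊗[R] A') B3 := IsScalarTower.of_algebraMap_eq fun b => (hψS b).symm
  haveI : IsScalarTower A' (S ⊗[R] A') B3 := IsScalarTower.of_algebraMap_eq fun a => (hψA a).symm
  haveI : IsScalarTower R (S ⊗[R] A') B3 := IsScalarTower.of_algebraMap_eq fun r => (ψ.commutes r).symm
  haveI : IsScalarTower R A' B3 := IsScalarTower.of_algebraMap_eq fun r => by
    rw [IsScalarTower.algebraMap_apply A' A3 B3, ← IsScalarTower.algebraMap_apply R A' A3,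
      ← IsScalarTower.algebraMap_apply R A3 B3]
  haveI : Algebra.IsPushout A' (S ⊗[R] A') A3 B3 := by
    haveI : Algebra.IsPushout R A' S (S ⊗[R] A') := inferInstance
    haveI : Algebra.IsPushout R A3 S B3 := hpoR.symm
    exact ((Algebra.IsPushout.comp_iff R A' S (S ⊗[R] A') (T := A3)).1 ‹_›).symm
  haveI : Algebra.FiniteType A3 B3 :=
    haveI : Algebra.IsPushout R A3 S B3 := hpoR.symm
    .equiv (Algebra.FiniteType.baseChange A3 (A := S)) (Algebra.IsPushout.equiv R A3 S B3)
  haveI : Module.Finite B3 N3 := Module.Finite.of_surjective hfS.equiv.toLinearMap hfS.equiv.surjective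
  letI : Module (S ⊗[R] A') N3 := Module.compHom N3 (algebraMap (S ⊗[R] A') B3)
  haveI : IsScalarTower (S ⊗[R] A') B3 N3 := IsScalarTower.of_algebraMap_smul fun _ _ => rfl
  haveI : IsScalarTower S (S ⊗[R] A') N3 := IsScalarTower.of_algebraMap_smul fun s n => by
    show algebraMap (S ⊗[R] A') B3 (algebraMap S (S ⊗[R] A') s) • n = s • n
    rw [← IsScalarTower.algebraMap_apply]
    rfl
  refine false_of_assoc (A' := A') fA hfA g fS hfS t3 P3 hass hmem fun x hx => ?_
  letI : Module E t3.ResidueField := Module.compHom _ ((algebraMap A3 t3.ResidueField).comp ω.toRingHom)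
  haveI : IsScalarTower A' E t3.ResidueField := IsScalarTower.of_algebraMap_smul fun a c => by
    show algebraMap A3 t3.ResidueField (ω (algebraMap A' E a)) • c = a • c
    rw [AlgHom.commutes, smul_eq_mul, ← IsScalarTower.algebraMap_apply, ← Algebra.smul_def]
  exact hdet t3.ResidueField x hx

end Stage

end Groth.Agent.Lib.RG57.PureStageBack
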