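import Groth.Agent.Lib.RG57.PureStageFibre
import Groth.Agent.Lib.RG57.PureStageBack
import Groth.Agent.H47.FlatLocusColim
import Groth.Agent.Lib.Flat55.EventualTensor
import Groth.Agent.Lib.FlatCA.ImpurityReduce

/-!
# Purity along a flat fibre descends to a stage
-/

set_option autoImplicit false
set_option linter.style.haveILetI false

universe u

open scoped TensorProduct

attribute [local instance] Algebra.TensorProduct.rightAlgebra

namespace Groth.Agent.Lib.RG57.PureStage

/-- A finitely presented algebra mapping to a local ring of a colimit maps to a local ring of a stage. -/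
theorem exists_lift_localization {A' : Type u} [CommRing A'] {ι : Type u} [Preorder ι] (D : ι → Type u)
    [∀ i, CommRing (D i)] [∀ i, Algebra A' (D i)] (d : ∀ i j, i ≤ j → D i →ₐ[A'] D j)
    (C : Type u) [CommRing C] [Algebra A' C] [∀ i, Algebra (D i) C] [∀ i, IsScalarTower A' (D i) C]
    (hcolim : FlatCA.IsDirectedColimitRing D (fun i j h => (d i j h).toRingHom) C)
    (P : Ideal C) [P.IsPrime] (E : Type u) [CommRing E] [Algebra A' E] [Algebra.FinitePresentation A' E]
    (φ : E →ₐ[A'] Localization.AtPrime P) :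
    ∃ i, Nonempty (E →ₐ[A'] Localization.AtPrime (P.comap (algebraMap (D i) C))) := by
  obtain ⟨hdir, hne, hid, htrans, hcomp, hsurj, hker⟩ := hcolim
  have : IsDirectedOrder ι := hdir
  let Q : ∀ i, Ideal (D i) := fun i => P.comap (algebraMap (D i) C)
  have hQ : ∀ i j (h : i ≤ j), Q i = (Q j).comap (d i j h) := fun i j h => Ideal.ext fun x => by
    show algebraMap (D i) C x ∈ P ↔ algebraMap (D j) C (d i j h x) ∈ P
    rw [show algebraMap (D j) C (d i j h x) = algebraMap (D i) C x from RingHom.congr_fun (hcomp i j h) x]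
  let L : ι → Type u := fun i => Localization.AtPrime (Q i)
  let l : ∀ i j, i ≤ j → L i →ₐ[A'] L j := fun i j h => Localization.localAlgHom (Q i) (Q j) (d i j h) (hQ i j h)
  let ψ : ∀ i, L i →ₐ[A'] Localization.AtPrime P := fun i =>
    Localization.localAlgHom (Q i) P (IsScalarTower.toAlgHom A' (D i) C) rfl
  letI : ∀ i, Algebra (L i) (Localization.AtPrime P) := fun i => (ψ i).toRingHom.toAlgebra
  haveI : ∀ i, IsScalarTower A' (L i) (Localization.AtPrime P) := fun i =>
    IsScalarTower.of_algebraMap_eq fun a => ((ψ i).commutes a).symm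
  have hlx : ∀ i j h x, l i j h (algebraMap (D i) (L i) x) = algebraMap (D j) (L j) (d i j h x) :=
    fun i j h x => Localization.localRingHom_to_map _ _ _ (hQ i j h) x
  have hψx : ∀ i x, ψ i (algebraMap (D i) (L i) x) = algebraMap C _ (algebraMap (D i) C x) :=
    fun i x => Localization.localRingHom_to_map _ _ _ rfl x
  have hL : FlatCA.IsDirectedColimitRing L (fun i j h => (l i j h).toRingHom) (Localization.AtPrime P) := by
    refine ⟨hdir, hne, fun i => IsLocalization.ringHom_ext (Q i).primeCompl (RingHom.ext fun x => ?_),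
      fun i j k hij hjk => IsLocalization.ringHom_ext (Q i).primeCompl (RingHom.ext fun x => ?_),
      fun i j h => IsLocalization.ringHom_ext (Q i).primeCompl (RingHom.ext fun x => ?_), ?_, ?_⟩
    · show l i i le_rfl (algebraMap (D i) (L i) x) = algebraMap (D i) (L i) x
      rw [hlx]
      exact congrArg _ (RingHom.congr_fun (hid i) x)
    · show l j k hjk (l i j hij (algebraMap (D i) (L i) x)) = l i k _ (algebraMap (D i) (L i) x)
      rw [hlx, hlx, hlx]
      exact congrArg _ (RingHom.congr_fun (htrans i j k hij hjk) x)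
    · show ψ j (l i j h (algebraMap (D i) (L i) x)) = ψ i (algebraMap (D i) (L i) x)
      rw [hlx, hψx, hψx]
      exact congrArg _ (RingHom.congr_fun (hcomp i j h) x)
    · intro z
      obtain ⟨⟨a, ⟨s, hs⟩⟩, hz⟩ := IsLocalization.surj P.primeCompl z
      obtain ⟨i, a, rfl⟩ := hsurj a
      obtain ⟨j, s, rfl⟩ := hsurj s
      obtain ⟨k, hik, hjk⟩ := exists_ge_ge i j
      have hsk : algebraMap (D k) C (d j k hjk s) = algebraMap (D j) C s := RingHom.congr_fun (hcomp j k hjk) s
      have hs' : d j k hjk s ∈ (Q k).primeCompl := fun h => hs (hsk ▸ h)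
      refine ⟨k, IsLocalization.mk' (L k) (d i k hik a) (⟨d j k hjk s, hs'⟩ : (Q k).primeCompl),
        (IsLocalization.map_units (Localization.AtPrime P) (⟨_, hs⟩ : P.primeCompl)).mul_right_cancel ?_⟩
      refine Eq.trans ?_ hz.symm
      show ψ k _ * algebraMap C (Localization.AtPrime P) (algebraMap (D j) C s) =
        algebraMap C (Localization.AtPrime P) (algebraMap (D i) C a)
      rw [← hsk, ← hψx, ← map_mul, IsLocalization.mk'_spec, hψx]
      exact congrArg _ (RingHom.congr_fun (hcomp i k hik) a)
    · intro i z hz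
      obtain ⟨⟨x, s⟩, rfl⟩ := IsLocalization.mk'_surjective (Q i).primeCompl z
      have hx : algebraMap C (Localization.AtPrime P) (algebraMap (D i) C x) = 0 := by
        rw [← hψx, ← IsLocalization.mk'_spec (L i) x s, map_mul,
          show ψ i (IsLocalization.mk' (L i) x s) = 0 from hz, zero_mul]
      obtain ⟨⟨v, hv⟩, hvx⟩ := (IsLocalization.map_eq_zero_iff P.primeCompl _ _).1 hx
      obtain ⟨j, v, rfl⟩ := hsurj v
      obtain ⟨k, hik, hjk⟩ := exists_ge_ge i j
      obtain ⟨k', hkk', hk'⟩ := hker k (d j k hjk v * d i k hik x) (by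
        rw [map_mul]
        exact (congr_arg₂ (· * ·) (RingHom.congr_fun (hcomp j k hjk) v) (RingHom.congr_fun (hcomp i k hik) x)).trans hvx)
      refine ⟨k', hik.trans hkk', ?_⟩
      show l i k' _ _ = 0
      refine (IsLocalization.map_units (L k') (⟨d k k' hkk' (d j k hjk v), fun h => hv ?_⟩ : (Q k').primeCompl)
        |>.mul_right_eq_zero).1 ?_
      · have h' : algebraMap (D k') C (d k k' hkk' (d j k hjk v)) ∈ P := h
        rw [show algebraMap (D k') C (d k k' hkk' (d j k hjk v)) = algebraMap (D j) C v from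
          (RingHom.congr_fun (hcomp k k' hkk') _).trans (RingHom.congr_fun (hcomp j k hjk) v)] at h'
        exact h'
      · refine (IsLocalization.map_units (L k') (⟨d i k' (hik.trans hkk') s, fun h => s.2 ((hQ i k' (hik.trans hkk')).ge h)⟩ :
          (Q k').primeCompl) |>.mul_left_eq_zero).1 ?_
        rw [mul_assoc, ← hlx i k' (hik.trans hkk') s, ← map_mul, IsLocalization.mk'_spec, hlx, ← map_mul,
          show d i k' (hik.trans hkk') x = d k k' hkk' (d i k hik x) from
            (RingHom.congr_fun (htrans i k k' hik hkk') x).symm, ← map_mul, show d k k' hkk' (d j k hjk v * d i k hik x) = 0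
            from hk', map_zero]
  obtain ⟨i, φ', -⟩ := H47.FlatLocusColim.exists_lift l (Localization.AtPrime P) hL E φ
  exact ⟨i, ⟨φ'⟩⟩

section Detect

variable {R S : Type u} [CommRing R] [CommRing S] [Algebra R S] [Algebra.FinitePresentation R S]
  {M : Type u} [AddCommGroup M] [Module S M] [Module R M] [IsScalarTower R S M] [Module.FinitePresentation S M]
  (p₀ : Ideal R) [p₀.IsPrime]
  {A' NA : Type u} [CommRing A'] [Algebra R A']
  [AddCommGroup NA] [Module (S ⊗[R] A') NA] [Module S NA] [IsScalarTower S (S ⊗[R] A') NA] [Module A' NA]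
  [IsScalarTower A' (S ⊗[R] A') NA]
  (fA : M →ₗ[S] NA) (hfA : IsBaseChange (S ⊗[R] A') fA) (p' : Ideal A') [p'.IsPrime] [p'.LiesOver p₀]
  {m : ℕ} (g : Fin m → S ⊗[R] A')
  (hcov : ∀ (Q : Ideal (S ⊗[R] A')) [Q.IsPrime], (Q.comap (algebraMap S (S ⊗[R] A'))).LiesOver p₀ →
    Q.comap (algebraMap S (S ⊗[R] A')) ∈ associatedPrimes S (_root_.FlatCA.fiberMod p₀ S M) →
    Q.comap RG.NhdPoint.inR = p' → ∃ k, g k ∉ Q)
  {A B N : Type u} [CommRing A] [Algebra R A] [CommRing B] [Algebra A B] [Algebra S B] [Algebra R B]
  [IsScalarTower R A B] [IsScalarTower R S B] [Algebra.IsPushout R S A B]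
  [AddCommGroup N] [Module B N] [Module S N] [IsScalarTower S B N] [Module A N] [IsScalarTower A B N]
  (k : M →ₗ[S] N) (hk : IsBaseChange B k)
  (p : Ideal A) [p.IsPrime]
  (hflat : ∀ (q : Ideal B) [q.IsPrime], q.LiesOver p → _root_.FlatCA.FlatAt A q N)
  (hpure : _root_.FlatCA.IsPureAlong A B N p)
  {C : Type u} [CommRing C] [Algebra A C] [Algebra A' C] [Algebra R C] [IsScalarTower R A C] [IsScalarTower R A' C]
  (P : Ideal C) [P.IsPrime] (hetC : _root_.FlatCA.IsEtaleNhd A C p P) [P.LiesOver p']

include hfA hcov hk hflat hpure hetC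

theorem detect :
    Module.Flat (Localization.AtPrime P) (Localization.AtPrime P ⊗[A'] NA) ∧
      ∀ (W : Type u) [AddCommGroup W] [Module (Localization.AtPrime P) W] [Module A' W]
        [IsScalarTower A' (Localization.AtPrime P) W] (x : NA ⊗[A'] W), (∀ k, g k • x = 0) → x = 0 := by
  let BC := B ⊗[A] C
  haveI : SMulCommClass A S B := ⟨fun a b c => by simp only [Algebra.smul_def]; ring⟩
  haveI : IsScalarTower S B BC := inferInstance
  haveI : IsScalarTower R B BC := inferInstance
  haveI : IsScalarTower R S BC := IsScalarTower.of_algebraMap_eq (R := R) (S := S) (A := BC) fun r => by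
    rw [IsScalarTower.algebraMap_apply S B BC, ← IsScalarTower.algebraMap_apply R S B,
      ← IsScalarTower.algebraMap_apply R B BC]
  haveI : IsScalarTower R C BC := IsScalarTower.of_algebraMap_eq (R := R) (S := C) (A := BC) fun r => by
    rw [IsScalarTower.algebraMap_apply R B BC, IsScalarTower.algebraMap_apply R A B,
      ← IsScalarTower.algebraMap_apply A B BC, IsScalarTower.algebraMap_apply A C BC,
      ← IsScalarTower.algebraMap_apply R A C]
  letI : Algebra A' BC := ((algebraMap C BC).comp (algebraMap A' C)).toAlgebra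
  haveI : IsScalarTower A' C BC := .of_algebraMap_eq' rfl
  haveI : IsScalarTower R A' BC := IsScalarTower.of_algebraMap_eq fun r => by
    rw [IsScalarTower.algebraMap_apply A' C BC, ← IsScalarTower.algebraMap_apply R A' C,
      ← IsScalarTower.algebraMap_apply R C BC]
  let φ : (S ⊗[R] A') →ₐ[R] BC := Algebra.TensorProduct.lift (IsScalarTower.toAlgHom R S BC) (IsScalarTower.toAlgHom R A' BC)
    fun _ _ => Commute.all _ _
  letI : Algebra (S ⊗[R] A') BC := φ.toRingHom.toAlgebra
  haveI : IsScalarTower S (S ⊗[R] A') BC := IsScalarTower.of_algebraMap_eq fun b =>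
    ((Algebra.TensorProduct.lift_tmul _ _ _ b 1).trans (by rw [map_one, mul_one]; rfl)).symm
  haveI : IsScalarTower A' (S ⊗[R] A') BC := IsScalarTower.of_algebraMap_eq fun a =>
    ((Algebra.TensorProduct.lift_tmul _ _ _ 1 a).trans (by rw [map_one, one_mul]; rfl)).symm
  haveI : SMulCommClass B (S ⊗[R] A') BC := ⟨fun a b c => by
    rw [Algebra.smul_def a (b • c), Algebra.smul_def a c, mul_smul_comm]⟩
  haveI : IsScalarTower (S ⊗[R] A') BC (BC ⊗[B] N) := ⟨fun a b z => by
    induction z using TensorProduct.induction_on with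
    | zero => simp only [smul_zero]
    | add x y hx hy => simp only [smul_add, hx, hy]
    | tmul x y => rw [TensorProduct.smul_tmul', TensorProduct.smul_tmul', TensorProduct.smul_tmul', smul_assoc]⟩
  haveI : IsScalarTower S BC (BC ⊗[B] N) := ⟨fun a b z => by
    induction z using TensorProduct.induction_on with
    | zero => simp only [smul_zero]
    | add x y hx hy => simp only [smul_add, hx, hy]
    | tmul x y => rw [TensorProduct.smul_tmul', TensorProduct.smul_tmul', TensorProduct.smul_tmul', smul_assoc]⟩
  haveI : IsScalarTower S (S ⊗[R] A') (BC ⊗[B] N) := IsScalarTower.of_algebraMap_smul fun s n => by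
    show algebraMap (S ⊗[R] A') BC (algebraMap S (S ⊗[R] A') s) • n = s • n
    rw [← IsScalarTower.algebraMap_apply, algebraMap_smul]
  haveI : IsScalarTower S B (BC ⊗[B] N) := IsScalarTower.of_algebraMap_smul fun s n => by
    rw [← algebraMap_smul BC (algebraMap S B s) n, ← IsScalarTower.algebraMap_apply, algebraMap_smul]
  haveI : SMulCommClass B C BC := ⟨fun a b c => by
    rw [Algebra.smul_def a (b • c), Algebra.smul_def a c, mul_smul_comm]⟩
  haveI : IsScalarTower C BC (BC ⊗[B] N) := ⟨fun a b z => by
    induction z using TensorProduct.induction_on with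
    | zero => simp only [smul_zero]
    | add x y hx hy => simp only [smul_add, hx, hy]
    | tmul x y => rw [TensorProduct.smul_tmul', TensorProduct.smul_tmul', TensorProduct.smul_tmul', smul_assoc]⟩
  haveI : IsScalarTower A BC (BC ⊗[B] N) := IsScalarTower.of_algebraMap_smul fun a z => by
    induction z using TensorProduct.induction_on with
    | zero => simp
    | add x y hx hy => simp only [smul_add, hx, hy]
    | tmul x y => rw [TensorProduct.smul_tmul', TensorProduct.smul_tmul', algebraMap_smul]
  exact PureStageFibre.detect_of_pure p₀ fA hfA p' g hcov k hk p hflat hpure P hetC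
    (TensorProduct.mk B BC N 1) (TensorProduct.isBaseChange B N BC)

end Detect

set_option maxHeartbeats 1000000 in
/-- Purity along a flat fibre descends to a stage of a directed colimit. -/
theorem exists_pure_stage {R S : Type u} [CommRing R] [CommRing S] [Algebra R S] [Algebra.FinitePresentation R S]
    (M : Type u) [AddCommGroup M] [Module S M] [Module R M] [IsScalarTower R S M] [Module.FinitePresentation S M]
    {ι : Type u} [Preorder ι] (G : ι → Type u) [∀ i, CommRing (G i)] [∀ i, Algebra R (G i)]
    (g : ∀ i j, i ≤ j → G i →ₐ[R] G j) {A : Type u} [CommRing A] [Algebra R A] [∀ i, Algebra (G i) A]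
    [∀ i, IsScalarTower R (G i) A]
    (hcolim : FlatCA.IsDirectedColimitRing G (fun i j h => (g i j h).toRingHom) A)
    {B N : Type u} [CommRing B] [Algebra A B] [Algebra S B] [Algebra R B]
    [IsScalarTower R A B] [IsScalarTower R S B] [Algebra.IsPushout R S A B]
    [AddCommGroup N] [Module B N] [Module S N] [IsScalarTower S B N] [Module A N] [IsScalarTower A B N]
    (k : M →ₗ[S] N) (hk : IsBaseChange B k) (p : Ideal A) [p.IsPrime]
    (hflat₀ : ∀ (q : Ideal S) [q.IsPrime], q.LiesOver (p.comap (algebraMap R A)) → _root_.FlatCA.FlatAt R q M)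
    (hflat : ∀ (q : Ideal B) [q.IsPrime], q.LiesOver p → _root_.FlatCA.FlatAt A q N)
    (hpure : _root_.FlatCA.IsPureAlong A B N p) :
    ∃ j, _root_.FlatCA.IsPureAlong (G j) (G j ⊗[R] S) ((G j ⊗[R] S) ⊗[S] M) (p.comap (algebraMap (G j) A)) := by
  classical
  let p₀ := p.comap (algebraMap R A)
  obtain ⟨A', _, _, p', _, het, m, gg, hcov, hno⟩ := PureStageCover.exists_cover M p₀ hflat₀
  haveI := het.1
  obtain ⟨hp'p, -⟩ := id het.2
  haveI := hp'p
  haveI : p.LiesOver p₀ := ⟨rfl⟩
  let BA := S ⊗[R] A'
  let NA := BA ⊗[S] M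
  haveI : SMulCommClass S A' BA := ⟨fun a b c => by simp only [Algebra.smul_def]; ring⟩
  haveI : IsScalarTower A' BA NA := IsScalarTower.of_algebraMap_smul fun r z => by
    induction z using TensorProduct.induction_on with
    | zero => simp
    | add a b ha hb => simp only [smul_add, ha, hb]
    | tmul a b => rw [TensorProduct.smul_tmul', TensorProduct.smul_tmul', algebraMap_smul]
  let C := A ⊗[R] A'
  obtain ⟨P, hP, hPA, hPA'⟩ := RG.NhdPoint.exists_point (S := A) p₀ p' p het
  haveI := hP
  have hetC := RG.NhdPoint.isEtaleNhd p₀ p' p het P hPA hPA'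
  haveI : P.LiesOver p' := ⟨hPA'.symm⟩
  obtain ⟨hflatL, hdetL⟩ := detect p₀ (TensorProduct.mk S BA M 1) (TensorProduct.isBaseChange S M BA) p' gg hcov k hk
    p hflat hpure (C := C) P hetC
  haveI := hflatL
  haveI : Algebra.IsPushout R A' S BA := inferInstance
  haveI : Algebra.FinitePresentation A' BA :=
    Algebra.FinitePresentation.equiv (Algebra.IsPushout.equiv R A' S BA)
  obtain ⟨E, _, _, _, φE, hE⟩ := PureStageInj.exists_stage NA gg (Localization.AtPrime P) hdetL
  -- the system of neighbourhoods
  let d : ∀ i j, i ≤ j → (G i ⊗[R] A') →ₐ[A'] (G j ⊗[R] A') := fun i j h =>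
    { Algebra.TensorProduct.map (g i j h) (AlgHom.id R A') with
      commutes' := fun a => by
        show Algebra.TensorProduct.map (g i j h) (AlgHom.id R A') ((1 : G i) ⊗ₜ[R] a) = (1 : G j) ⊗ₜ[R] a
        rw [Algebra.TensorProduct.map_tmul, map_one]
        rfl }
  letI : ∀ i, Algebra (G i ⊗[R] A') C := fun i =>
    (Algebra.TensorProduct.map (IsScalarTower.toAlgHom R (G i) A) (AlgHom.id R A')).toRingHom.toAlgebra
  haveI : ∀ i, IsScalarTower A' (G i ⊗[R] A') C := fun i => IsScalarTower.of_algebraMap_eq fun a => by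
    show (1 : A) ⊗ₜ[R] a = Algebra.TensorProduct.map (IsScalarTower.toAlgHom R (G i) A) (AlgHom.id R A')
      ((1 : G i) ⊗ₜ[R] a)
    rw [Algebra.TensorProduct.map_tmul, map_one]
    rfl
  have hd : ∀ i j h (x : G i ⊗[R] A'), d i j h x = (g i j h).toLinearMap.rTensor A' x := fun i j h x => by
    induction x using TensorProduct.induction_on with
    | zero => simp
    | add a b ha hb => rw [map_add, map_add, ha, hb]
    | tmul a b => rfl
  have hπ : ∀ i (x : G i ⊗[R] A'),
      algebraMap (G i ⊗[R] A') C x = (Flat55.EventualTensor.toColim G A i).rTensor A' x := fun i x => by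
    induction x using TensorProduct.induction_on with
    | zero => simp
    | add a b ha hb => rw [map_add, map_add, ha, hb]
    | tmul a b => rfl
  obtain ⟨hdir, hne, hid, htrans, hcomp, hsurj, hker⟩ := id hcolim
  have hC : FlatCA.IsDirectedColimitRing (fun i => G i ⊗[R] A') (fun i j h => (d i j h).toRingHom) C := by
    refine ⟨hdir, hne, fun i => RingHom.ext fun x => ?_, fun i j l hij hjl => RingHom.ext fun x => ?_,
      fun i j h => RingHom.ext fun x => ?_, fun z => ?_, fun i x hx => ?_⟩
    · show d i i le_rfl x = x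
      induction x using TensorProduct.induction_on with
      | zero => simp
      | add a b ha hb => rw [map_add, ha, hb]
      | tmul a b =>
        show g i i le_rfl a ⊗ₜ[R] b = a ⊗ₜ[R] b
        rw [show g i i le_rfl a = a from RingHom.congr_fun (hid i) a]
    · show d j l hjl (d i j hij x) = d i l _ x
      induction x using TensorProduct.induction_on with
      | zero => simp
      | add a b ha hb => rw [map_add, map_add, map_add, ha, hb]
      | tmul a b =>
        show g j l hjl (g i j hij a) ⊗ₜ[R] b = g i l _ a ⊗ₜ[R] b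
        rw [show g j l hjl (g i j hij a) = g i l (hij.trans hjl) a from RingHom.congr_fun (htrans i j l hij hjl) a]
    · show algebraMap (G j ⊗[R] A') C (d i j h x) = algebraMap (G i ⊗[R] A') C x
      induction x using TensorProduct.induction_on with
      | zero => simp
      | add a b ha hb => rw [map_add, map_add, map_add, ha, hb]
      | tmul a b =>
        show algebraMap (G j) A (g i j h a) ⊗ₜ[R] b = algebraMap (G i) A a ⊗ₜ[R] b
        rw [show algebraMap (G j) A (g i j h a) = algebraMap (G i) A a from RingHom.congr_fun (hcomp i j h) a]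
    · obtain ⟨i, y, hy⟩ := Flat55.EventualTensor.exists_rTensor_eq hcolim A' z
      exact ⟨i, y, (hπ i y).trans hy⟩
    · obtain ⟨j, hij, hj⟩ := Flat55.EventualTensor.exists_rTensor_eq_zero hcolim A' x ((hπ i x).symm.trans hx)
      exact ⟨j, hij, (hd i j hij x).trans hj⟩
  obtain ⟨j, ⟨ψE⟩⟩ := exists_lift_localization (fun i => G i ⊗[R] A') d C hC P E φE
  refine ⟨j, ?_⟩
  let pj := p.comap (algebraMap (G j) A)
  haveI : pj.LiesOver p₀ := ⟨by rw [Ideal.under_def, Ideal.comap_comap, ← IsScalarTower.algebraMap_eq]⟩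
  refine PureStageBack.isPureAlong p₀ p' het (TensorProduct.mk S BA M 1) (TensorProduct.isBaseChange S M BA) gg hno
    (TensorProduct.mk S (G j ⊗[R] S) M 1) (TensorProduct.isBaseChange S M _) pj
    (P.comap (algebraMap (G j ⊗[R] A') C)) (Ideal.ext fun x => ?_) (Ideal.ext fun a => ?_) ψE hE
  · show Algebra.TensorProduct.map _ _ (x ⊗ₜ[R] (1 : A')) ∈ P ↔ algebraMap (G j) A x ∈ p
    rw [Algebra.TensorProduct.map_tmul, map_one, ← hPA]
    rfl
  · show Algebra.TensorProduct.map _ _ ((1 : G j) ⊗ₜ[R] a) ∈ P ↔ a ∈ p'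
    rw [Algebra.TensorProduct.map_tmul, map_one, ← hPA']
    rfl

end Groth.Agent.Lib.RG57.PureStage
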