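import Groth.Agent.Lib.RG57.UnivPure

/-!
# Finitely many functions cutting out the complement of the universally pure pieces
-/

set_option autoImplicit false
set_option linter.style.haveILetI false

universe u

open scoped TensorProduct

attribute [local instance] Algebra.TensorProduct.rightAlgebra

namespace Groth.Agent.Lib.RG57.PureStageCover

/-- A compact open subset of the spectrum is the union of finitely many basic opens. -/
theorem exists_basic_cover {T : Type u} [CommRing T] (U : Set (PrimeSpectrum T)) (hU : IsOpen U) (hc : IsCompact U) :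
    ∃ s : Finset T, ∀ x : PrimeSpectrum T, x ∈ U ↔ ∃ h ∈ s, h ∉ x.asIdeal := by
  classical
  let H := {h : T // ↑(PrimeSpectrum.basicOpen h) ⊆ U}
  obtain ⟨s, hs⟩ := hc.elim_finite_subcover (fun h : H => (PrimeSpectrum.basicOpen h.1 : Set (PrimeSpectrum T)))
    (fun h => (PrimeSpectrum.basicOpen h.1).isOpen) fun x hx => by
      obtain ⟨V, ⟨h, rfl⟩, hxV, hVU⟩ :=
        PrimeSpectrum.isTopologicalBasis_basic_opens.exists_subset_of_mem_open hx hU
      exact Set.mem_iUnion.2 ⟨⟨h, hVU⟩, hxV⟩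
  refine ⟨s.image Subtype.val, fun x => ⟨fun hx => ?_, fun ⟨h, hh, hhx⟩ => ?_⟩⟩
  · obtain ⟨h, hh, hxh⟩ := Set.mem_iUnion₂.1 (hs hx)
    exact ⟨h.1, Finset.mem_image_of_mem _ hh, hxh⟩
  · obtain ⟨h', -, rfl⟩ := Finset.mem_image.1 hh
    exact h'.2 hhx

variable {R S : Type u} [CommRing R] [CommRing S] [Algebra R S] [Algebra.FiniteType R S]
  (M : Type u) [AddCommGroup M] [Module S M] [Module R M] [IsScalarTower R S M] [Module.Finite S M]

/-- Around the associated points of a flat fibre: functions on an étale neighbourhood which lie in the associated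
point of every impurity and do not all vanish at any of the points over the neighbourhood. -/
theorem exists_cover (p₀ : Ideal R) [p₀.IsPrime]
    (hflat : ∀ (q : Ideal S) [q.IsPrime], q.LiesOver p₀ → _root_.FlatCA.FlatAt R q M) :
    ∃ (A' : Type u) (_ : CommRing A') (_ : Algebra R A') (p' : Ideal A') (_ : p'.IsPrime),
      _root_.FlatCA.IsEtaleNhd R A' p₀ p' ∧ ∃ (m : ℕ) (g : Fin m → S ⊗[R] A'),
        (∀ (Q : Ideal (S ⊗[R] A')) [Q.IsPrime], (Q.comap (algebraMap S (S ⊗[R] A'))).LiesOver p₀ →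
          Q.comap (algebraMap S (S ⊗[R] A')) ∈ associatedPrimes S (_root_.FlatCA.fiberMod p₀ S M) →
          Q.comap RG.NhdPoint.inR = p' → ∃ k, g k ∉ Q) ∧
        ∀ (A3 : Type u) [CommRing A3] [Algebra R A3] [Algebra A' A3] [IsScalarTower R A' A3]
          (t3 u : Ideal A3) [t3.IsPrime] [u.IsPrime] [u.LiesOver p']
          (B3 N3 : Type u) [CommRing B3] [Algebra S B3] [Algebra A3 B3] [Algebra R B3] [IsScalarTower R S B3]
          [IsScalarTower R A3 B3] [AddCommGroup N3] [Module B3 N3] [Module S N3] [IsScalarTower S B3 N3]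
          [Module A3 N3] [IsScalarTower A3 B3 N3] (f3 : M →ₗ[S] N3) (P3 : Ideal B3) [P3.IsPrime],
          _root_.FlatCA.IsImpurity R S M p₀ A3 B3 N3 f3 t3 u P3 →
          ∀ (ψ : S ⊗[R] A' →ₐ[R] B3), (∀ b, ψ (b ⊗ₜ 1) = algebraMap S B3 b) →
            (∀ a, ψ ((1 : S) ⊗ₜ a) = algebraMap A3 B3 (algebraMap A' A3 a)) → ∀ k, ψ (g k) ∈ P3 := by
  classical
  let ι := {P : Ideal S // P.LiesOver p₀ ∧ P ∈ associatedPrimes S (_root_.FlatCA.fiberMod p₀ S M)}
  haveI : Finite ι := RelAss.Base.finite_assoc p₀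
  haveI := Fintype.ofFinite ι
  haveI : ∀ i : ι, i.1.IsPrime := fun i => i.2.2.1
  choose R₁ S₁ cR cS aAR aBS aRS aAS tARS tABS r hr hft G gG mSG mBG tBSG mRG tRSG fG hnR hetS hfG hQpt hpureG using
    fun i : ι => (haveI := i.2.1; UnivPurePiece.exists_piece M p₀ i.1 (hflat i.1 i.2.1))
  obtain ⟨A', cA', aA', p', hp', het, hg⟩ := RG.NearApply.exists_common (Finset.univ : Finset ι) p₀ R₁ r hnR
  choose γ hγ using fun i => hg i (Finset.mem_univ i)
  let toB : ∀ i, S ⊗[R] R₁ i →ₐ[R] S₁ i := fun i => Algebra.TensorProduct.lift (IsScalarTower.toAlgHom R S (S₁ i))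
    (IsScalarTower.toAlgHom R (R₁ i) (S₁ i)) fun _ _ => Commute.all _ _
  have htoB : ∀ i b, toB i (b ⊗ₜ 1) = algebraMap S (S₁ i) b := fun i b =>
    (Algebra.TensorProduct.lift_tmul _ _ _ b 1).trans (by rw [map_one, mul_one]; rfl)
  have htoA : ∀ i a, toB i ((1 : S) ⊗ₜ a) = algebraMap (R₁ i) (S₁ i) a := fun i a =>
    (Algebra.TensorProduct.lift_tmul _ _ _ 1 a).trans (by rw [map_one, one_mul]; rfl)
  have hU : ∀ i, ∃ s : Finset (S ⊗[R] R₁ i), ∀ x : PrimeSpectrum (S ⊗[R] R₁ i),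
      x ∈ Set.range (PrimeSpectrum.comap (toB i).toRingHom) ↔ ∃ h ∈ s, h ∉ x.asIdeal := by
    intro i
    haveI := (hnR i).1
    haveI := hetS i
    letI : Algebra (S ⊗[R] R₁ i) (S₁ i) := (toB i).toRingHom.toAlgebra
    haveI : IsScalarTower S (S ⊗[R] R₁ i) (S₁ i) := IsScalarTower.of_algebraMap_eq fun b => (htoB i b).symm
    haveI : Algebra.Etale (S ⊗[R] R₁ i) (S₁ i) :=
      Algebra.Etale.of_restrictScalars (R := S) (A := S ⊗[R] R₁ i) (B := S₁ i)
    haveI : Algebra.HasGoingDown (S ⊗[R] R₁ i) (S₁ i) := inferInstance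
    exact exists_basic_cover _ PrimeSpectrum.isOpenMap_comap_of_hasGoingDown_of_finitePresentation.isOpen_range
      (isCompact_range (PrimeSpectrum.continuous_comap _))
  choose s hs using hU
  let σ : ∀ i, S ⊗[R] R₁ i →ₐ[R] S ⊗[R] A' := fun i => Algebra.TensorProduct.map (AlgHom.id R S) (γ i)
  have hσl : ∀ i b, σ i (b ⊗ₜ 1) = b ⊗ₜ 1 := fun i b => by
    show Algebra.TensorProduct.map _ _ _ = _
    rw [Algebra.TensorProduct.map_tmul, map_one]
    rfl
  have hσr : ∀ i a, σ i ((1 : S) ⊗ₜ a) = (1 : S) ⊗ₜ γ i a := fun i a => Algebra.TensorProduct.map_tmul _ _ _ _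
  let T := Σ i, {h // h ∈ s i}
  haveI : Fintype T := inferInstance
  let e := (Fintype.equivFin T).symm
  refine ⟨A', inferInstance, inferInstance, p', hp', het, Fintype.card T, fun k => σ (e k).1 (e k).2.1,
    fun Q _ hl hass hQA => ?_, ?_⟩
  · haveI := hl
    let i : ι := ⟨Q.comap (algebraMap S (S ⊗[R] A')), hl, hass⟩
    obtain ⟨Qi, hQi, hQiq, hQir⟩ := hQpt i
    haveI := hQi
    have heq : Qi.comap (toB i).toRingHom = Q.comap (σ i).toRingHom := by
      haveI : (i.1).LiesOver p₀ := hl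
      refine RG.NhdPoint.point_unique p₀ (r i) i.1 (hnR i) _ _ ?_ ?_ ?_ ?_
      · refine Eq.trans (Ideal.ext fun b => ?_) hQiq
        show toB i (b ⊗ₜ 1) ∈ Qi ↔ algebraMap S (S₁ i) b ∈ Qi
        rw [htoB]
      · refine Eq.trans (Ideal.ext fun a => ?_) hQir
        show toB i ((1 : S) ⊗ₜ a) ∈ Qi ↔ algebraMap (R₁ i) (S₁ i) a ∈ Qi
        rw [htoA]
      · refine Ideal.ext fun b => ?_
        show σ i (b ⊗ₜ 1) ∈ Q ↔ b ⊗ₜ 1 ∈ Q
        rw [hσl]
      · refine Eq.trans (Ideal.ext fun a => ?_) (hγ i)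
        show σ i ((1 : S) ⊗ₜ a) ∈ Q ↔ γ i a ∈ p'
        rw [hσr, ← hQA]
        rfl
    obtain ⟨h, hh, hhx⟩ := (hs i ⟨Q.comap (σ i).toRingHom, Ideal.IsPrime.comap _⟩).1
      ⟨⟨Qi, hQi⟩, PrimeSpectrum.ext heq⟩
    refine ⟨e.symm ⟨i, ⟨h, hh⟩⟩, ?_⟩
    show σ (e (e.symm ⟨i, ⟨h, hh⟩⟩)).1 (e (e.symm ⟨i, ⟨h, hh⟩⟩)).2.1 ∉ Q
    rw [Equiv.apply_symm_apply]
    exact hhx
  intro A3 _ _ _ _ t3 u _ _ _ B3 N3 _ _ _ _ _ _ _ _ _ _ _ _ f3 P3 _ himp ψ hψB hψA k
  show ψ (σ (e k).1 (e k).2.1) ∈ P3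
  generalize e k = z
  obtain ⟨i, h, hh⟩ := z
  by_contra hmem
  letI : Algebra (R₁ i) A3 := ((algebraMap A' A3).comp (γ i).toRingHom).toAlgebra
  haveI : IsScalarTower R (R₁ i) A3 := IsScalarTower.of_algebraMap_eq fun a => by
    show _ = algebraMap A' A3 (γ i (algebraMap R (R₁ i) a))
    rw [AlgHom.commutes, ← IsScalarTower.algebraMap_apply]
  haveI := (hnR i).1
  haveI := hft i
  haveI := hetS i
  haveI : (r i).LiesOver p₀ := (hnR i).2.choose
  haveI : u.LiesOver (r i) := ⟨Ideal.ext fun a => by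
    rw [Ideal.under_def, Ideal.mem_comap, ← hγ i, Ideal.mem_comap, u.over_def p', Ideal.under_def, Ideal.mem_comap]
    rfl⟩
  obtain ⟨y, hy⟩ := (hs i ⟨(P3.comap ψ.toRingHom).comap (σ i).toRingHom, Ideal.IsPrime.comap _⟩).2 ⟨h, hh, hmem⟩
  refine UnivPure.false_of_piece M (R₁ i) (r i) (S₁ i) (G i) (fG i) (hfG i) (hpureG i) (toB i) (htoB i) (htoA i)
    A3 t3 u B3 N3 f3 P3 himp (ψ.comp (σ i)) (fun b => ?_) (fun a => ?_) ⟨y.asIdeal, y.isPrime, ?_⟩
  · show ψ (σ i (b ⊗ₜ 1)) = _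
    rw [hσl, hψB]
  · show ψ (σ i ((1 : S) ⊗ₜ a)) = _
    rw [hσr, hψA]
    rfl
  · rw [show (P3.comap (ψ.comp (σ i)).toRingHom) = (P3.comap ψ.toRingHom).comap (σ i).toRingHom from rfl]
    exact congrArg PrimeSpectrum.asIdeal hy

end Groth.Agent.Lib.RG57.PureStageCover
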