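import Groth.Agent.Lib.RG57.PureStageLocal
import Groth.Agent.S1221
import Groth.Agent.S1231
import Groth.Agent.Lib.RG.NhdPoint

/-!
# Pure fibres give detecting multiplications over the local ring of the neighbourhood
-/

set_option autoImplicit false
set_option linter.style.haveILetI false

universe u

open scoped TensorProduct

attribute [local instance] Algebra.TensorProduct.rightAlgebra

namespace Groth.Agent.Lib.RG57.PureStageFibre

variable {R S : Type u} [CommRing R] [CommRing S] [Algebra R S] [Algebra.FinitePresentation R S]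
  {M : Type u} [AddCommGroup M] [Module S M] [Module R M] [IsScalarTower R S M] [Module.FinitePresentation S M]
  (p₀ : Ideal R) [p₀.IsPrime]
  {A' BA NA : Type u} [CommRing A'] [Algebra R A'] [CommRing BA] [Algebra S BA] [Algebra A' BA] [Algebra R BA]
  [IsScalarTower R S BA] [IsScalarTower R A' BA] [Algebra.IsPushout R S A' BA]
  [AddCommGroup NA] [Module BA NA] [Module S NA] [IsScalarTower S BA NA] [Module A' NA] [IsScalarTower A' BA NA]
  (fA : M →ₗ[S] NA) (hfA : IsBaseChange BA fA) (p' : Ideal A') [p'.IsPrime] [p'.LiesOver p₀]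
  {m : ℕ} (g : Fin m → BA)
  (hcov : ∀ (Q : Ideal BA) [Q.IsPrime], (Q.comap (algebraMap S BA)).LiesOver p₀ →
    Q.comap (algebraMap S BA) ∈ associatedPrimes S (_root_.FlatCA.fiberMod p₀ S M) →
    Q.comap (algebraMap A' BA) = p' → ∃ k, g k ∉ Q)
  {A B N : Type u} [CommRing A] [Algebra R A] [CommRing B] [Algebra A B] [Algebra S B] [Algebra R B]
  [IsScalarTower R A B] [IsScalarTower R S B] [Algebra.IsPushout R S A B]
  [AddCommGroup N] [Module B N] [Module S N] [IsScalarTower S B N] [Module A N] [IsScalarTower A B N]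
  (k : M →ₗ[S] N) (hk : IsBaseChange B k)
  (p : Ideal A) [p.IsPrime]
  (hflat : ∀ (q : Ideal B) [q.IsPrime], q.LiesOver p → _root_.FlatCA.FlatAt A q N)
  (hpure : _root_.FlatCA.IsPureAlong A B N p)
  {C : Type u} [CommRing C] [Algebra A C] [Algebra A' C] [Algebra R C] [IsScalarTower R A C] [IsScalarTower R A' C]
  (P : Ideal C) [P.IsPrime] (hetC : _root_.FlatCA.IsEtaleNhd A C p P) [P.LiesOver p']
  {BC NC : Type u} [CommRing BC] [Algebra B BC] [Algebra C BC] [Algebra A BC] [IsScalarTower A B BC]
  [IsScalarTower A C BC] [Algebra.IsPushout A B C BC] [Algebra BA BC] [Algebra A' BC] [IsScalarTower A' BA BC]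
  [IsScalarTower A' C BC] [Algebra S BC] [IsScalarTower S B BC] [IsScalarTower S BA BC]
  [Algebra R BC] [IsScalarTower R S BC] [IsScalarTower R C BC]
  [AddCommGroup NC] [Module BC NC] [Module B NC] [IsScalarTower B BC NC] [Module BA NC] [IsScalarTower BA BC NC]
  [Module S NC] [IsScalarTower S BC NC] [IsScalarTower S BA NC] [IsScalarTower S B NC]
  [Module C NC] [IsScalarTower C BC NC] [Module A NC] [IsScalarTower A BC NC]
  (fC : N →ₗ[B] NC) (hfC : IsBaseChange BC fC)

include hfA hcov hk hflat hpure hetC hfC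

/-- Over the local ring of the neighbourhood the module is flat and the multiplications detect its tensors. -/
theorem detect_of_pure :
    Module.Flat (Localization.AtPrime P) (Localization.AtPrime P ⊗[A'] NA) ∧
      ∀ (W : Type u) [AddCommGroup W] [Module (Localization.AtPrime P) W] [Module A' W]
        [IsScalarTower A' (Localization.AtPrime P) W] (x : NA ⊗[A'] W), (∀ k, g k • x = 0) → x = 0 := by
  haveI hpoC : Algebra.IsPushout A B C BC := ‹_›
  haveI hPp : P.LiesOver p := hetC.2.choose
  haveI := hetC.1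
  haveI : P.LiesOver p₀ := Ideal.LiesOver.trans P p' p₀
  haveI : IsScalarTower R B BC := IsScalarTower.of_algebraMap_eq fun r => by
    rw [IsScalarTower.algebraMap_apply R S BC, IsScalarTower.algebraMap_apply S B BC,
      ← IsScalarTower.algebraMap_apply R S B]
  haveI : IsScalarTower R BA BC := IsScalarTower.of_algebraMap_eq fun r => by
    rw [IsScalarTower.algebraMap_apply R S BC, IsScalarTower.algebraMap_apply S BA BC,
      ← IsScalarTower.algebraMap_apply R S BA]
  haveI hpoR : Algebra.IsPushout R S C BC := by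
    haveI : Algebra.IsPushout R A S B := Algebra.IsPushout.symm ‹_›
    haveI : Algebra.IsPushout A C B BC := hpoC.symm
    exact ((Algebra.IsPushout.comp_iff R A S B (T := C)).2 ‹_›).symm
  let fS : M →ₗ[S] NC := (fC.restrictScalars S).comp k
  have hfS : IsBaseChange BC fS := hk.comp hfC
  haveI : Algebra.FinitePresentation A' BA :=
    haveI : Algebra.IsPushout R A' S BA := Algebra.IsPushout.symm ‹_›
    Algebra.FinitePresentation.equiv (Algebra.IsPushout.equiv R A' S BA)
  haveI : Module.FinitePresentation BA NA := Module.FinitePresentation.of_equiv hfA.equiv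
  haveI : Algebra.IsPushout A' BA C BC := by
    haveI : Algebra.IsPushout R A' S BA := Algebra.IsPushout.symm ‹_›
    haveI : Algebra.IsPushout R C S BC := hpoR.symm
    exact ((Algebra.IsPushout.comp_iff R A' S BA (T := C)).1 ‹_›).symm
  let g1 := hfA.lift fS
  have hg1 : IsBaseChange BC g1 := (IsBaseChange.comp_iff hfA).1 (by rw [hfA.lift_comp]; exact hfS)
  haveI : Algebra.FiniteType A B :=
    haveI : Algebra.IsPushout R A S B := Algebra.IsPushout.symm ‹_›
    .equiv (Algebra.FiniteType.baseChange A (A := S)) (Algebra.IsPushout.equiv R A S B)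
  haveI : Algebra.FiniteType C BC :=
    haveI : Algebra.IsPushout A C B BC := hpoC.symm
    .equiv (Algebra.FiniteType.baseChange C (A := B)) (Algebra.IsPushout.equiv A C B BC)
  haveI : Module.Finite BC NC := Module.Finite.of_surjective hfS.equiv.toLinearMap hfS.equiv.surjective
  letI : Module C NC := ‹Module C NC›
  haveI : IsScalarTower A C NC := IsScalarTower.of_algebraMap_smul fun a n => by
    rw [← algebraMap_smul BC (algebraMap A C a) n, ← IsScalarTower.algebraMap_apply, algebraMap_smul]
  refine PureStageLocal.flat_and_detect NA g g1 hg1 P fun t _ htP Q _ hQt hQ => ?_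
  haveI := hQt
  obtain ⟨P', hP', hQP', hP'P⟩ : ∃ P' : Ideal BC, P'.IsPrime ∧ Q ≤ P' ∧ P'.LiesOver P := by
    by_contra hcon
    exact hpure C BC NC fC t P Q hetC
      ⟨hpoC, hfC, htP, hPp, hQt, hQ, fun P' hP' hle hl => hcon ⟨P', hP', hle, hl⟩⟩
  have hflatC : ∀ (q₁ : Ideal BC) [q₁.IsPrime], q₁.LiesOver P → _root_.FlatCA.FlatAt C q₁ NC := fun q₁ _ hl => by
    haveI := hl
    haveI : q₁.LiesOver p := Ideal.LiesOver.trans q₁ P p
    haveI : (q₁.comap (algebraMap B BC)).LiesOver p := ⟨by
      rw [Ideal.under_def, Ideal.comap_comap, ← IsScalarTower.algebraMap_eq]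
      exact Ideal.LiesOver.over⟩
    haveI : Module.Flat B BC :=
      haveI : Algebra.Etale B BC := Algebra.Etale.of_equiv (Algebra.IsPushout.equiv A B C BC)
      inferInstance
    exact ((S1231.result (R := A) (T := C) NC q₁).1).1
      (RG.FibrePoint.flatAt_up fC hfC (q₁.comap (algebraMap B BC)) q₁ rfl (hflat _ inferInstance))
  obtain ⟨q₁, hq₁, hQq₁, hq₁P, hq₁ass⟩ := S1221.result NC P hflatC t htP Q hQ ⟨P', hP', hQP', hP'P⟩
  haveI := hq₁P
  refine ⟨q₁, hq₁, hQq₁, hflatC q₁ hq₁P, ?_⟩
  obtain ⟨hl, hass⟩ := FlatCA.FibreDescend.assoc_comap hpoR fS hfS p₀ P q₁ hq₁ass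
  haveI := hl
  have hS : (q₁.comap (algebraMap BA BC)).comap (algebraMap S BA) = q₁.comap (algebraMap S BC) := by
    rw [Ideal.comap_comap, ← IsScalarTower.algebraMap_eq]
  obtain ⟨i, hi⟩ := hcov (q₁.comap (algebraMap BA BC)) (by rw [hS]; exact hl)
    (by rw [hS]; exact (FlatCA.FibreAss.assoc_iff M p₀ _).1 hass) (by
      rw [Ideal.comap_comap, ← IsScalarTower.algebraMap_eq, IsScalarTower.algebraMap_eq A' C BC,
        ← Ideal.comap_comap]
      exact (congrArg (Ideal.comap (algebraMap A' C)) hq₁P.over.symm).trans (P.over_def p').symm)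
  exact ⟨i, hi⟩

end Groth.Agent.Lib.RG57.PureStageFibre
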