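import Groth.Agent.Lib.RG57.PureProj
import Groth.Agent.H47.InjCokerDescend

/-!
# Elements detected by finitely many multiplications, at a stage
-/

set_option autoImplicit false
set_option linter.style.haveILetI false

universe u

open scoped TensorProduct

namespace Groth.Agent.Lib.RG57.PureStageInj

/-- A universally injective map into a flat module has flat cokernel. -/
theorem flat_coker {R X Y : Type u} [CommRing R] [AddCommGroup X] [Module R X] [AddCommGroup Y] [Module R Y]
    [Module.Flat R Y] (f : X →ₗ[R] Y)
    (hf : ∀ (W : Type u) [AddCommGroup W] [Module R W], Function.Injective (f.rTensor W)) :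
    Module.Flat R (Y ⧸ LinearMap.range f) := by
  refine Module.Flat.iff_lTensor_preserves_injective_linearMap.2 fun P Q _ _ _ _ k hk =>
    (injective_iff_map_eq_zero _).2 fun x hx => ?_
  obtain ⟨z, rfl⟩ := LinearMap.rTensor_surjective P (Submodule.mkQ_surjective (LinearMap.range f)) x
  have hex : ∀ (W : Type u) [AddCommGroup W] [Module R W],
      Function.Exact (f.rTensor W) ((LinearMap.range f).mkQ.rTensor W) :=
    fun W _ _ => rTensor_exact W (LinearMap.exact_map_mkQ_range f) (Submodule.mkQ_surjective _)
  rw [← LinearMap.comp_apply, LinearMap.lTensor_comp_rTensor, ← LinearMap.rTensor_comp_lTensor,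
    LinearMap.comp_apply] at hx
  obtain ⟨w, hw⟩ := (hex Q _).1 hx
  let π := (LinearMap.range k).mkQ
  have hπk : π ∘ₗ k = 0 := LinearMap.ext fun p => (Submodule.Quotient.mk_eq_zero _).2 ⟨p, rfl⟩
  have hw0 : π.lTensor X w = 0 := hf _ (by
    rw [map_zero, ← LinearMap.comp_apply, LinearMap.rTensor_comp_lTensor, ← LinearMap.lTensor_comp_rTensor,
      LinearMap.comp_apply, hw, ← LinearMap.comp_apply, ← LinearMap.lTensor_comp, hπk, LinearMap.lTensor_zero,
      LinearMap.zero_apply])
  obtain ⟨y, rfl⟩ := (lTensor_exact X (LinearMap.exact_map_mkQ_range k) (Submodule.mkQ_surjective _) w).1 hw0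
  have hz : z = f.rTensor P y := Module.Flat.lTensor_preserves_injective_linearMap (M := Y) k hk (by
    rw [← hw, ← LinearMap.comp_apply, LinearMap.rTensor_comp_lTensor, ← LinearMap.lTensor_comp_rTensor,
      LinearMap.comp_apply])
  rw [hz]
  exact (hex P).apply_apply_eq_zero y

variable {A BA : Type u} [CommRing A] [CommRing BA] [Algebra A BA]
  (N : Type u) [AddCommGroup N] [Module BA N] [Module A N] [IsScalarTower A BA N] {m : ℕ} (g : Fin m → BA)

/-- The multiplications kill a tensor exactly when they do so componentwise. -/
theorem rTensor_psi_eq_zero_iff (W : Type u) [AddCommGroup W] [Module A W] (x : N ⊗[A] W) :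
    ((PureLocus.psi N g).restrictScalars A).rTensor W x = 0 ↔ ∀ k, g k • x = 0 := by
  constructor
  · intro h k
    have hk : ∀ y : N ⊗[A] W, g k • y =
        ((LinearMap.proj k : (Fin m → N) →ₗ[BA] N).restrictScalars A).rTensor W
          (((PureLocus.psi N g).restrictScalars A).rTensor W y) := fun y => by
      induction y using TensorProduct.induction_on with
      | zero => simp
      | add a b ha hb => rw [smul_add, map_add, map_add, ha, hb]
      | tmul a b => rfl
    rw [hk, h, map_zero]
  · intro h
    show TensorProduct.AlgebraTensorModule.rTensor A W (PureLocus.psi N g) x = 0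
    rw [PureLocus.rTensor_psi]
    exact Finset.sum_eq_zero fun k _ => by rw [h k, map_zero]

omit [Module A N] [IsScalarTower A BA N] in
theorem finitePresentation_pi [Module.FinitePresentation BA N] : Module.FinitePresentation BA (Fin m → N) :=
  inferInstance

/-- If the multiplications detect all tensors with modules over `R'`, they do so over a finitely presented stage. -/
theorem exists_stage [Algebra.FinitePresentation A BA] [Module.FinitePresentation BA N]
    (R' : Type u) [CommRing R'] [Algebra A R']
    (hkill : ∀ (W : Type u) [AddCommGroup W] [Module R' W] [Module A W] [IsScalarTower A R' W]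
      (x : N ⊗[A] W), (∀ k, g k • x = 0) → x = 0)
    [Module.Flat R' (R' ⊗[A] N)] :
    ∃ (C : Type u) (_ : CommRing C) (_ : Algebra A C) (_ : Algebra.FinitePresentation A C) (_ : C →ₐ[A] R'),
      ∀ (W : Type u) [AddCommGroup W] [Module C W] [Module A W] [IsScalarTower A C W] (x : N ⊗[A] W),
        (∀ k, g k • x = 0) → x = 0 := by
  classical
  haveI := finitePresentation_pi (BA := BA) N (m := m)
  let u := PureLocus.psi N g
  let u' : N →ₗ[A] (Fin m → N) := u.restrictScalars A
  have hinj : ∀ (W : Type u) [AddCommGroup W] [Module R' W] [Module A W] [IsScalarTower A R' W],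
      Function.Injective (u'.rTensor W) := fun W _ _ _ _ =>
    (injective_iff_map_eq_zero _).2 fun x hx => hkill W x ((rTensor_psi_eq_zero_iff N g W x).1 hx)
  let f := u'.baseChange R'
  haveI : Module.Flat R' (R' ⊗[A] (Fin m → N)) :=
    haveI : Module.Flat R' (Fin m → R' ⊗[A] N) :=
      Module.Flat.of_linearEquiv (DFinsupp.linearEquivFunOnFintype (R := R') (M := fun _ : Fin m => R' ⊗[A] N)).symm
    Module.Flat.of_linearEquiv (TensorProduct.piRight A R' R' fun _ : Fin m => N)
  haveI : Module.Flat R' ((R' ⊗[A] (Fin m → N)) ⧸ LinearMap.range f) := by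
    refine flat_coker f fun W _ _ => (LinearMap.lTensor_inj_iff_rTensor_inj (M := W) f).1 ?_
    letI : Module A W := Module.compHom W (algebraMap A R')
    haveI : IsScalarTower A R' W := IsScalarTower.of_algebraMap_smul fun _ _ => rfl
    intro a b hab
    apply (TensorProduct.AlgebraTensorModule.cancelBaseChange A R' R' W N).injective
    apply (LinearMap.lTensor_inj_iff_rTensor_inj (M := W) u').2 (hinj W)
    rw [← PureProj.cancel_lTensor, ← PureProj.cancel_lTensor, hab]
  let q : (Fin m → N) →ₗ[A] (Fin m → N) ⧸ LinearMap.range u := (LinearMap.range u).mkQ.restrictScalars A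
  have hexA : Function.Exact u' q := LinearMap.exact_map_mkQ_range u
  have hqA : Function.Surjective q := Submodule.mkQ_surjective _
  haveI : Module.Flat R' (R' ⊗[A] ((Fin m → N) ⧸ LinearMap.range u)) :=
    Module.Flat.of_linearEquiv (Function.Exact.linearEquivOfSurjective (f := f) (g := q.baseChange R')
      (show Function.Exact (u'.lTensor R') (q.lTensor R') from lTensor_exact R' hexA hqA)
      (show Function.Surjective (q.lTensor R') from LinearMap.lTensor_surjective R' hqA)).symm
  obtain ⟨C, _, _, hC, φ, hinjC, hflatC⟩ := H47.InjCokerDescend.exists_stage (A₀ := A) u R'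
    ((LinearMap.lTensor_inj_iff_rTensor_inj (M := R') u').2 (hinj R')) ‹_›
  haveI := hflatC
  refine ⟨C, inferInstance, inferInstance, hC, φ, fun W _ _ _ _ x hx => ?_⟩
  have h0 := (rTensor_psi_eq_zero_iff N g W x).2 hx
  let e := TensorProduct.AlgebraTensorModule.cancelBaseChange A C C W N
  obtain ⟨z, hz⟩ := e.surjective (TensorProduct.comm A N W x)
  let fC := u'.baseChange C
  have hfz : fC.lTensor W z = 0 := by
    apply (TensorProduct.AlgebraTensorModule.cancelBaseChange A C C W (Fin m → N)).injective
    rw [PureProj.cancel_lTensor, map_zero, hz]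
    have : ∀ y, u'.lTensor W (TensorProduct.comm A N W y) = TensorProduct.comm A _ W (u'.rTensor W y) := fun y => by
      induction y using TensorProduct.induction_on with
      | zero => simp
      | add a b ha hb => simp only [map_add, ha, hb]
      | tmul a b => rfl
    rw [this, h0, map_zero]
  have hmem := H47.InjCokerDescend.ker_lTensor_le fC (q.baseChange C)
    (show Function.Exact (u'.lTensor C) (q.lTensor C) from lTensor_exact C hexA hqA)
    (show Function.Surjective (q.lTensor C) from LinearMap.lTensor_surjective C hqA) W z hfz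
  have hz0 : z = 0 := by
    refine (AddSubgroup.closure_le (⊥ : AddSubgroup _)).2 ?_ hmem
    rintro _ ⟨a, k, hk, rfl⟩
    show a ⊗ₜ[C] k = 0
    rw [show k = 0 from hinjC (hk.trans (map_zero _).symm), TensorProduct.tmul_zero]
  rw [hz0, map_zero] at hz
  exact (TensorProduct.comm A N W).map_eq_zero_iff.1 hz.symm

end Groth.Agent.Lib.RG57.PureStageInj
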