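import Groth.Agent.Lib.RG57.PureStageInj
import Groth.Agent.Lib.RG.FibrePoint
import Groth.Agent.Lib.RG.FlatStep
import Groth.Agent.Lib.FlatCA.CompleteFlattenBC
import Groth.Agent.S1201

/-!
# Multiplications detecting tensors over the local ring of a point of a pure fibre
-/

set_option autoImplicit false
set_option linter.style.haveILetI false

universe u

open scoped TensorProduct

attribute [local instance] Algebra.TensorProduct.rightAlgebra

namespace Groth.Agent.Lib.RG57.PureStageLocal

variable {A' BA : Type u} [CommRing A'] [CommRing BA] [Algebra A' BA] [Algebra.FinitePresentation A' BA]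
  (NA : Type u) [AddCommGroup NA] [Module BA NA] [Module A' NA] [IsScalarTower A' BA NA]
  [Module.FinitePresentation BA NA] {m : ℕ} (g : Fin m → BA)
  {C BC NC : Type u} [CommRing C] [Algebra A' C] [CommRing BC] [Algebra A' BC] [Algebra BA BC] [Algebra C BC]
  [IsScalarTower A' BA BC] [IsScalarTower A' C BC] [Algebra.IsPushout A' BA C BC]
  [AddCommGroup NC] [Module BC NC] [Module BA NC] [IsScalarTower BA BC NC] [Module C NC] [IsScalarTower C BC NC]
  (f : NA →ₗ[BA] NC) (hf : IsBaseChange BC f) (P : Ideal C) [P.IsPrime]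
  (hP : ∀ (t : Ideal C) [t.IsPrime], t ≤ P → ∀ (Q : Ideal BC) [Q.IsPrime], Q.LiesOver t →
    _root_.FlatCA.fiberIdeal t Q ∈ associatedPrimes (t.Fiber BC) (_root_.FlatCA.fiberMod t BC NC) →
    ∃ q₁ : Ideal BC, ∃ _ : q₁.IsPrime, Q ≤ q₁ ∧ _root_.FlatCA.FlatAt C q₁ NC ∧ ∃ k, algebraMap BA BC (g k) ∉ q₁)

include hP

/-- The abstract form: for any models of the localisation of the base change. -/
theorem flat_and_detect_aux (L T N' : Type u) [CommRing L] [Algebra C L] [IsLocalization.AtPrime L P] [Algebra A' L]
    [IsScalarTower A' C L] [CommRing T] [Algebra BC T] [Algebra L T] [Algebra C T] [IsScalarTower C BC T]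
    [IsScalarTower C L T] [Algebra A' T] [IsScalarTower A' L T] [Algebra BA T] [IsScalarTower BA BC T]
    [IsScalarTower A' BA T] [Algebra.IsPushout C BC L T] [Algebra.IsPushout A' BA L T]
    [AddCommGroup N'] [Module T N'] [Module BC N'] [IsScalarTower BC T N'] [Module BA N'] [IsScalarTower BA T N']
    [Module L N'] [IsScalarTower L T N'] [Module C N'] [IsScalarTower C T N'] [IsScalarTower C L N']
    (g2 : NC →ₗ[BC] N') (hg2 : IsBaseChange T g2) (f' : NA →ₗ[BA] N') (hf' : IsBaseChange T f') :
    Module.Flat L (L ⊗[A'] NA) ∧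
      ∀ (W : Type u) [AddCommGroup W] [Module L W] [Module A' W] [IsScalarTower A' L W] (x : NA ⊗[A'] W),
        (∀ k, g k • x = 0) → x = 0 := by
  haveI hpoL : Algebra.IsPushout C BC L T := ‹_›
  haveI hpo : Algebra.IsPushout A' BA L T := ‹_›
  haveI : Algebra.IsPushout A' L BA T := hpo.symm
  haveI : Algebra.FinitePresentation L T := Algebra.FinitePresentation.equiv (Algebra.IsPushout.equiv A' L BA T)
  haveI : Module.FinitePresentation T N' := Module.FinitePresentation.of_equiv hf'.equiv
  haveI : Module.Finite T N' := inferInstance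
  haveI : Algebra.IsPushout C L BC T := hpoL.symm
  haveI : Module.Flat C L := IsLocalization.flat L P.primeCompl
  haveI : Module.Flat BC T := Module.Flat.isBaseChange (R := C) (S := BC) (M := L) T
    (Algebra.IsPushout.out (R := C) (S := BC) (R' := L) (S' := T))
  have key : ∀ (t : Ideal L) [t.IsPrime] (Q : Ideal T) [Q.IsPrime] [Q.LiesOver t],
      _root_.FlatCA.fiberIdeal t Q ∈ associatedPrimes (t.Fiber T) (_root_.FlatCA.fiberMod t T N') →
      ∃ q₁ : Ideal BC, ∃ _ : q₁.IsPrime, Q.comap (algebraMap BC T) ≤ q₁ ∧ _root_.FlatCA.FlatAt C q₁ NC ∧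
        ∃ k, algebraMap BA BC (g k) ∉ q₁ := by
    intro t _ Q _ _ hQ
    let t₀ := t.comap (algebraMap C L)
    haveI : t.LiesOver t₀ := ⟨rfl⟩
    obtain ⟨hl, hass⟩ := FlatCA.FibreDescend.assoc_comap hpoL g2 hg2 t₀ t Q hQ
    refine hP t₀ ?_ _ hl hass
    intro c hc
    by_contra hcP
    exact ‹t.IsPrime›.ne_top (Ideal.eq_top_of_isUnit_mem _ hc (IsLocalization.map_units L (⟨c, hcP⟩ : P.primeCompl)))
  haveI hflat : Module.Flat L N' := by
    refine Module.flat_of_isLocalized_maximal (R := L) (S := T) N' (fun Q _ => LocalizedModule Q.primeCompl N')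
      (fun Q _ => LocalizedModule.mkLinearMap Q.primeCompl N') fun Q hQ => ?_
    haveI : Q.IsPrime := hQ.isPrime
    let t := Q.comap (algebraMap L T)
    haveI : Q.LiesOver t := ⟨rfl⟩
    refine (S1201.result N' t Q).2 fun q' _ _ hl hass => ?_
    haveI := hl
    obtain ⟨q₁, _, hle, hflat₁, -⟩ := key t q' hass
    exact (Module.flat_iff_of_isLocalization L P.primeCompl _).2
      (RG.FibrePoint.flatAt_up g2 hg2 (q'.comap (algebraMap BC T)) q' rfl (RG.FlatStep.flat_of_le hle hflat₁))
  refine ⟨Module.Flat.of_linearEquiv (FlatCA.Impurity.baseChangeEquiv (A' := L) (B' := T) hpo f' hf').symm,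
    fun W _ _ _ _ x hx => ?_⟩
  obtain ⟨e, -, hes⟩ := FlatCA.CompleteFlatten.exists_compare hpo f' hf' W
  refine e.map_eq_zero_iff.1 ?_
  by_contra hy0
  have hne : (Submodule.span T {e x}).annihilator ≠ ⊤ := fun htop => hy0 (by
    have h2 : (1 : T) ∈ (Submodule.span T {e x}).annihilator := htop ▸ Submodule.mem_top
    rw [Submodule.mem_annihilator_span_singleton, one_smul] at h2
    exact h2)
  obtain ⟨Q, hQ⟩ := Ideal.nonempty_minimalPrimes hne
  haveI := hQ.1.1
  let t := Q.comap (algebraMap L T)
  haveI : Q.LiesOver t := ⟨rfl⟩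
  obtain ⟨q₁, _, hle, -, k, hk⟩ := key t Q (FlatCA.WeakAss.mem_fibre_of_minimal W t Q (e x) hQ)
  refine hk (hle ?_)
  show algebraMap BC T (algebraMap BA BC (g k)) ∈ Q
  rw [← IsScalarTower.algebraMap_apply]
  exact hQ.1.2 ((Submodule.mem_annihilator_span_singleton _ _).2 (by rw [← hes, hx k, map_zero]))


include hf

/-- The form with a model of the localised ring. -/
theorem flat_and_detect_model (L T : Type u) [CommRing L] [Algebra C L] [IsLocalization.AtPrime L P] [Algebra A' L]
    [IsScalarTower A' C L] [CommRing T] [Algebra BC T] [Algebra L T] [Algebra C T] [IsScalarTower C BC T]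
    [IsScalarTower C L T] [Algebra A' T] [IsScalarTower A' L T] [Algebra BA T] [IsScalarTower BA BC T]
    [IsScalarTower A' BA T] [Algebra.IsPushout C BC L T] [Algebra.IsPushout A' BA L T] :
    Module.Flat L (L ⊗[A'] NA) ∧
      ∀ (W : Type u) [AddCommGroup W] [Module L W] [Module A' W] [IsScalarTower A' L W] (x : NA ⊗[A'] W),
        (∀ k, g k • x = 0) → x = 0 := by
  let N' := T ⊗[BC] NC
  haveI : SMulCommClass BC L T := ⟨fun a b c => by
    rw [Algebra.smul_def a (b • c), Algebra.smul_def a c, mul_smul_comm]⟩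
  haveI : IsScalarTower L T N' := ⟨fun a b z => by
    induction z using TensorProduct.induction_on with
    | zero => simp only [smul_zero]
    | add x y hx hy => simp only [smul_add, hx, hy]
    | tmul x y => rw [TensorProduct.smul_tmul', TensorProduct.smul_tmul', TensorProduct.smul_tmul', smul_assoc]⟩
  haveI : IsScalarTower C T N' := ⟨fun a b z => by
    induction z using TensorProduct.induction_on with
    | zero => simp only [smul_zero]
    | add x y hx hy => simp only [smul_add, hx, hy]
    | tmul x y => rw [TensorProduct.smul_tmul', TensorProduct.smul_tmul', TensorProduct.smul_tmul', smul_assoc]⟩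
  haveI : IsScalarTower BA T N' := ⟨fun a b z => by
    induction z using TensorProduct.induction_on with
    | zero => simp only [smul_zero]
    | add x y hx hy => simp only [smul_add, hx, hy]
    | tmul x y => rw [TensorProduct.smul_tmul', TensorProduct.smul_tmul', TensorProduct.smul_tmul', smul_assoc]⟩
  haveI : IsScalarTower C L N' := IsScalarTower.of_algebraMap_smul fun c z => by
    rw [← algebraMap_smul T (algebraMap C L c) z, ← IsScalarTower.algebraMap_apply, algebraMap_smul]
  haveI : IsScalarTower BA BC N' := IsScalarTower.of_algebraMap_smul fun r z => by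
    rw [← algebraMap_smul T (algebraMap BA BC r) z, ← IsScalarTower.algebraMap_apply, algebraMap_smul]
  let g2 : NC →ₗ[BC] N' := TensorProduct.mk BC T NC 1
  have hg2 : IsBaseChange T g2 := TensorProduct.isBaseChange BC NC T
  let f' : NA →ₗ[BA] N' := (g2.restrictScalars BA).comp f
  have hf' : IsBaseChange T f' := hf.comp hg2
  exact flat_and_detect_aux NA g P hP L T N' g2 hg2 f' hf'

/-- The base change to the local ring is flat, and the multiplications detect its tensors. -/
theorem flat_and_detect :
    Module.Flat (Localization.AtPrime P) (Localization.AtPrime P ⊗[A'] NA) ∧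
      ∀ (W : Type u) [AddCommGroup W] [Module (Localization.AtPrime P) W] [Module A' W]
        [IsScalarTower A' (Localization.AtPrime P) W] (x : NA ⊗[A'] W), (∀ k, g k • x = 0) → x = 0 := by
  let L := Localization.AtPrime P
  haveI : SMulCommClass C BA BC := ⟨fun a b c => by simp only [Algebra.smul_def]; ring⟩
  let T := BC ⊗[C] L
  haveI : IsScalarTower A' L T := IsScalarTower.of_algebraMap_eq fun a => by
    show algebraMap A' BC a ⊗ₜ[C] (1 : L) = (1 : BC) ⊗ₜ[C] algebraMap A' L a
    rw [IsScalarTower.algebraMap_apply A' C BC, IsScalarTower.algebraMap_apply A' C L,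
      Algebra.algebraMap_eq_smul_one (R := C) (A := BC), TensorProduct.smul_tmul, ← Algebra.algebraMap_eq_smul_one]
  haveI hpoL : Algebra.IsPushout C BC L T := inferInstance
  haveI : Algebra.IsPushout A' C BA BC := Algebra.IsPushout.symm ‹_›
  haveI : Algebra.IsPushout C L BC T := hpoL.symm
  haveI : Algebra.IsPushout A' L BA T := (Algebra.IsPushout.comp_iff A' C BA BC (T := L)).2 ‹_›
  haveI hpo : Algebra.IsPushout A' BA L T := Algebra.IsPushout.symm ‹_›
  haveI : IsScalarTower BA BC T := inferInstance
  exact flat_and_detect_model NA g f hf P hP L T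

end Groth.Agent.Lib.RG57.PureStageLocal
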