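import Groth.Agent.Lib.RG57.PureStage
import Groth.Agent.Lib.RG57.PureStageModel

/-!
# Descent of a flat pure fibre along a directed colimit
-/

set_option autoImplicit false
set_option linter.style.haveILetI false

universe u

open scoped TensorProduct

attribute [local instance] Algebra.TensorProduct.rightAlgebra

namespace Groth.Agent.Lib.RG57.PureStageMain

/-- A model over a base gives one over any algebra in between. -/
theorem exists_push {R S A B : Type u} [CommRing R] [CommRing S] [CommRing A] [CommRing B] [Algebra R S] [Algebra R A]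
    [Algebra A B] [Algebra S B] [Algebra R B] [IsScalarTower R A B] [IsScalarTower R S B] [Algebra.IsPushout R S A B]
    {M N : Type u} [AddCommGroup M] [Module S M] [AddCommGroup N] [Module B N] [Module S N] [IsScalarTower S B N]
    (k : M →ₗ[S] N) (hk : IsBaseChange B k)
    (R' : Type u) [CommRing R'] [Algebra R R'] [Algebra R' A] [IsScalarTower R R' A] [Algebra R' B]
    [IsScalarTower R' A B] :
    ∃ (_ : Algebra (R' ⊗[R] S) B) (_ : IsScalarTower R' (R' ⊗[R] S) B) (_ : IsScalarTower S (R' ⊗[R] S) B)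
      (_ : Module (R' ⊗[R] S) N) (_ : IsScalarTower (R' ⊗[R] S) B N)
      (f : (R' ⊗[R] S) ⊗[S] M →ₗ[R' ⊗[R] S] N),
      Algebra.IsPushout R' (R' ⊗[R] S) A B ∧ IsBaseChange B f := by
  haveI : IsScalarTower R R' B := IsScalarTower.of_algebraMap_eq fun r => by
    rw [IsScalarTower.algebraMap_apply R' A B, ← IsScalarTower.algebraMap_apply R R' A,
      ← IsScalarTower.algebraMap_apply R A B]
  let σ : R' ⊗[R] S →ₐ[R] B := Algebra.TensorProduct.lift (IsScalarTower.toAlgHom R R' B)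
    (IsScalarTower.toAlgHom R S B) fun _ _ => Commute.all _ _
  letI : Algebra (R' ⊗[R] S) B := σ.toRingHom.toAlgebra
  haveI : IsScalarTower R' (R' ⊗[R] S) B := IsScalarTower.of_algebraMap_eq (R := R') (S := R' ⊗[R] S) (A := B) fun r =>
    ((Algebra.TensorProduct.lift_tmul _ _ _ r 1).trans (by rw [map_one, mul_one]; rfl)).symm
  haveI : IsScalarTower S (R' ⊗[R] S) B := IsScalarTower.of_algebraMap_eq (R := S) (S := R' ⊗[R] S) (A := B) fun s =>
    ((Algebra.TensorProduct.lift_tmul _ _ _ 1 s).trans (by rw [map_one, one_mul]; rfl)).symm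
  haveI : IsScalarTower R (R' ⊗[R] S) B := IsScalarTower.of_algebraMap_eq fun r => (σ.commutes r).symm
  haveI : Algebra.IsPushout R A S B := Algebra.IsPushout.symm ‹_›
  haveI : Algebra.IsPushout R R' S (R' ⊗[R] S) := inferInstance
  have hpo : Algebra.IsPushout R' (R' ⊗[R] S) A B :=
    ((Algebra.IsPushout.comp_iff R R' S (R' ⊗[R] S) (T := A)).1 ‹_›).symm
  letI : Module (R' ⊗[R] S) N := Module.compHom N (algebraMap (R' ⊗[R] S) B)
  haveI : IsScalarTower (R' ⊗[R] S) B N := IsScalarTower.of_algebraMap_smul fun _ _ => rfl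
  haveI : IsScalarTower S (R' ⊗[R] S) N := IsScalarTower.of_algebraMap_smul fun s n => by
    show algebraMap (R' ⊗[R] S) B (algebraMap S (R' ⊗[R] S) s) • n = s • n
    rw [← IsScalarTower.algebraMap_apply, algebraMap_smul]
  let j := TensorProduct.mk S (R' ⊗[R] S) M 1
  have hj : IsBaseChange (R' ⊗[R] S) j := TensorProduct.isBaseChange S M _
  exact ⟨inferInstance, inferInstance, inferInstance, inferInstance, inferInstance, hj.lift k, hpo,
    (IsBaseChange.comp_iff hj).1 (by rw [hj.lift_comp]; exact hk)⟩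

section Steps

variable {R S M : Type u} [CommRing R] [CommRing S] [Algebra R S] [Algebra.FinitePresentation R S]
  [AddCommGroup M] [Module S M] [Module R M] [IsScalarTower R S M] [Module.FinitePresentation S M]
  {ι : Type u} [Preorder ι] (G : ι → Type u) [∀ i, CommRing (G i)] [∀ i, Algebra R (G i)]
  (g : ∀ i j, i ≤ j → G i →ₐ[R] G j) {A : Type u} [CommRing A] [Algebra R A] [∀ i, Algebra (G i) A]
  [∀ i, IsScalarTower R (G i) A] (hcolim : FlatCA.IsDirectedColimitRing G (fun i j h => (g i j h).toRingHom) A)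
  {B N : Type u} [CommRing B] [Algebra A B] [Algebra S B] [Algebra R B]
  [IsScalarTower R A B] [IsScalarTower R S B] [Algebra.IsPushout R S A B]
  [AddCommGroup N] [Module B N] [Module S N] [IsScalarTower S B N] [Module A N] [IsScalarTower A B N]
  (k : M →ₗ[S] N) (hk : IsBaseChange B k) (p : Ideal A) [p.IsPrime]
  (hflat : ∀ (q : Ideal B) [q.IsPrime], q.LiesOver p → _root_.FlatCA.FlatAt A q N)

include hcolim hk hflat

omit [IsScalarTower R S M] in
/-- Flatness along the fibre descends to a stage. -/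
theorem flat_stage : ∃ j, ∀ (q : Ideal (G j ⊗[R] S)) [q.IsPrime], q.LiesOver (p.comap (algebraMap (G j) A)) →
    Module.Flat (G j) (LocalizedModule q.primeCompl ((G j ⊗[R] S) ⊗[S] M)) := by
  have hpo : Algebra.IsPushout R S A B := ‹_›
  have hflatA : ∀ q : PrimeSpectrum (A ⊗[R] S), q.asIdeal.comap (algebraMap A (A ⊗[R] S)) = p →
      Module.Flat A (LocalizedModule q.asIdeal.primeCompl ((A ⊗[R] S) ⊗[S] M)) := by
    intro q hq
    haveI : Algebra.IsPushout (R) A S B := Algebra.IsPushout.symm hpo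
    let e : A ⊗[R] S ≃ₐ[A] B := Algebra.IsPushout.equiv (R) A S B
    letI : Algebra (A ⊗[R] S) B := e.toAlgHom.toRingHom.toAlgebra
    haveI : IsScalarTower A (A ⊗[R] S) B := IsScalarTower.of_algebraMap_eq fun a => (e.commutes a).symm
    haveI : IsScalarTower S (A ⊗[R] S) B :=
      IsScalarTower.of_algebraMap_eq (R := S) (S := A ⊗[R] S) (A := B) fun s => by
        show algebraMap S B s = e ((1 : A) ⊗ₜ[R] s)
        rw [Algebra.IsPushout.equiv_tmul, map_one, one_mul]
    haveI : Module.Flat (A ⊗[R] S) B :=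
      Module.Flat.of_linearEquiv (LinearEquiv.ofBijective (Algebra.linearMap (A ⊗[R] S) B) e.bijective).symm
    let Q : Ideal B := q.asIdeal.comap e.symm.toAlgHom.toRingHom
    haveI : Q.IsPrime := Ideal.IsPrime.comap _
    have hQ : Q.comap (algebraMap (A ⊗[R] S) B) = q.asIdeal := Ideal.ext fun z => by
      show e.symm (e z) ∈ q.asIdeal ↔ _
      rw [AlgEquiv.symm_apply_apply]
    haveI : SMulCommClass S A (A ⊗[R] S) := ⟨fun a b c => by simp only [Algebra.smul_def]; ring⟩
    have hl : Q.LiesOver p := ⟨by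
      rw [← hq, ← hQ, Ideal.under_def, Ideal.comap_comap, ← IsScalarTower.algebraMap_eq]⟩
    have h := (H47.FlatLocusColim.flatAt_iff_of_isBaseChange (A := A) (T := A ⊗[R] S) (B := B) k hk Q).1
      (hflat Q hl)
    have key : ∀ (I : Ideal (A ⊗[R] S)) (_ : I.IsPrime), Q.comap (algebraMap (A ⊗[R] S) B) = I →
        Module.Flat A (LocalizedModule I.primeCompl ((A ⊗[R] S) ⊗[S] M)) := by
      rintro I _ rfl
      exact h
    exact key _ _ hQ
  obtain ⟨j, hflat₁⟩ := H47.FlatLocusColim.exists_stage_var (R := R) (S₀ := S) (M₀ := M)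
    G g A hcolim
    (fun i => (p.comap (algebraMap (G i) A)).map (algebraMap (G i) (G i ⊗[R] S)))
    (fun i j h => Ideal.map_le_iff_le_comap.2 fun a ha => by
      rw [Ideal.mem_comap, Ideal.mem_comap]
      show H47.FlatLocusColim.stageMap (g i j h) (a ⊗ₜ (1 : S)) ∈ _
      rw [Algebra.TensorProduct.map_tmul, map_one]
      refine Ideal.mem_map_of_mem (algebraMap (G j) (G j ⊗[R] S)) ?_
      show algebraMap (G j) A (g i j h a) ∈ p
      rw [show algebraMap (G j) A (g i j h a) = algebraMap (G i) A a from RingHom.congr_fun (hcolim.2.2.2.2.1 i j h) a]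
      exact ha)
    (fun i => (p.comap (algebraMap (G i) A)).primeCompl.map (algebraMap (G i) (G i ⊗[R] S)))
    (fun i j h => by
      rintro _ ⟨a, ha, rfl⟩
      refine ⟨g i j h a, fun hmem => ha ?_, ?_⟩
      · have h' : algebraMap (G j) A (g i j h a) ∈ p := hmem
        rw [show algebraMap (G j) A (g i j h a) = algebraMap (G i) A a from
          RingHom.congr_fun (hcolim.2.2.2.2.1 i j h) a] at h'
        exact h'
      · show g i j h a ⊗ₜ (1 : S) = H47.FlatLocusColim.stageMap (g i j h) (a ⊗ₜ (1 : S))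
        rw [Algebra.TensorProduct.map_tmul, map_one])
    fun q hW hJ => hflatA q (Ideal.ext fun a => by
      obtain ⟨i, x, rfl⟩ := hcolim.2.2.2.2.2.1 a
      have he : H47.FlatLocusColim.stageMap (IsScalarTower.toAlgHom (R) (G i) A)
          (algebraMap (G i) (G i ⊗[R] S) x) = algebraMap A (A ⊗[R] S) (algebraMap (G i) A x) := by
        show H47.FlatLocusColim.stageMap (IsScalarTower.toAlgHom (R) (G i) A) (x ⊗ₜ (1 : S)) = _
        rw [Algebra.TensorProduct.map_tmul, map_one]
        rfl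
      rw [Ideal.mem_comap, ← he]
      refine ⟨fun hmem => ?_, fun hx => hJ i _ (Ideal.mem_map_of_mem _ hx)⟩
      by_contra hx
      exact hW i _ ⟨x, hx, rfl⟩ hmem)
  refine ⟨j, fun q _ hl => hflat₁ ⟨q, inferInstance⟩ ?_ ?_⟩
  · rintro _ ⟨a, ha, rfl⟩ hmem
    exact ha ((Ideal.mem_of_liesOver q (p.comap (algebraMap (G j) A)) a).2 hmem)
  · exact Ideal.map_le_iff_le_comap.2 fun a ha => (Ideal.mem_of_liesOver q (p.comap (algebraMap (G j) A)) a).1 ha

/-- From a flat fibre over the base, a stage with pure flat fibre. -/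
theorem pure_model (hflat₀ : ∀ (q : Ideal S) [q.IsPrime], q.LiesOver (p.comap (algebraMap R A)) →
      _root_.FlatCA.FlatAt R q M) (hpure : _root_.FlatCA.IsPureAlong A B N p) :
    ∃ (i : ι) (Bi Ni : Type u) (_ : CommRing Bi) (_ : Algebra (G i) Bi) (_ : Algebra Bi B) (_ : Algebra (G i) B)
      (_ : IsScalarTower (G i) A B) (_ : IsScalarTower (G i) Bi B)
      (_ : AddCommGroup Ni) (_ : Module Bi Ni) (_ : Module (G i) Ni) (_ : IsScalarTower (G i) Bi Ni)
      (_ : Module Bi N) (_ : IsScalarTower Bi B N) (f : Ni →ₗ[Bi] N),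
      Algebra.FinitePresentation (G i) Bi ∧ Algebra.IsPushout (G i) Bi A B ∧ Module.FinitePresentation Bi Ni ∧ IsBaseChange B f ∧
      FlatCA.IsPureAlong (G i) Bi Ni (p.comap (algebraMap (G i) A)) ∧
      ∀ (q : Ideal Bi) [q.IsPrime], q.LiesOver (p.comap (algebraMap (G i) A)) → FlatCA.FlatAt (G i) q Ni := by
  obtain ⟨j, hpurej⟩ := PureStage.exists_pure_stage M G g hcolim k hk p hflat₀ hflat hpure
  letI : Algebra (G j) B := ((algebraMap A B).comp (algebraMap (G j) A)).toAlgebra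
  haveI : IsScalarTower (G j) A B := .of_algebraMap_eq' rfl
  obtain ⟨aB, tB, _, mN, tN, k₂, hpo₂, hk₂⟩ := exists_push (R := R) (S := S) (A := A) k hk (G j)
  refine ⟨j, G j ⊗[R] S, (G j ⊗[R] S) ⊗[S] M, inferInstance, inferInstance, aB, inferInstance, inferInstance, tB,
    inferInstance, inferInstance, inferInstance, inferInstance, mN, tN, k₂, inferInstance, hpo₂, inferInstance, hk₂,
    hpurej, fun q _ hl => ?_⟩
  haveI : Algebra.IsPushout R (G j) S (G j ⊗[R] S) := inferInstance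
  refine H47.FlatLocusColim.flat_baseChange (A := R) (B := S) (A' := G j) M ⟨q, inferInstance⟩ (hflat₀ _ ⟨?_⟩)
  ext a
  show algebraMap R A a ∈ p ↔ algebraMap S (G j ⊗[R] S) (algebraMap R S a) ∈ q
  rw [← IsScalarTower.algebraMap_apply R S (G j ⊗[R] S), IsScalarTower.algebraMap_apply R (G j) (G j ⊗[R] S),
    IsScalarTower.algebraMap_apply R (G j) A]
  exact Ideal.mem_of_liesOver q (p.comap (algebraMap (G j) A)) _

end Steps

theorem tail_isColimit {ι : Type u} [Preorder ι] {G : ι → Type u} [∀ i, CommRing (G i)]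
    {g : ∀ i j, i ≤ j → G i →+* G j} {A : Type u} [CommRing A] [∀ i, Algebra (G i) A]
    (hcolim : FlatCA.IsDirectedColimitRing G g A) (i₀ : ι) :
    FlatCA.IsDirectedColimitRing (fun i : {i // i₀ ≤ i} => G i.1) (fun i j h => g i.1 j.1 h) A := by
  obtain ⟨hdir, hne, hid, htrans, hcomp, hsurj, hker⟩ := hcolim
  have : IsDirectedOrder ι := hdir
  refine ⟨⟨fun i j => ?_⟩, ⟨⟨i₀, le_rfl⟩⟩, fun i => hid i.1, fun i j l hij hjl => htrans i.1 j.1 l.1 hij hjl,
    fun i j h => hcomp i.1 j.1 h, fun a => ?_, fun i x hx => ?_⟩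
  · obtain ⟨l, hil, hjl⟩ := exists_ge_ge i.1 j.1
    exact ⟨⟨l, i.2.trans hil⟩, hil, hjl⟩
  · obtain ⟨i, x, hx⟩ := hsurj a
    obtain ⟨l, hil, h0l⟩ := exists_ge_ge i i₀
    exact ⟨⟨l, h0l⟩, g i l hil x, (RingHom.congr_fun (hcomp i l hil) x).trans hx⟩
  · obtain ⟨j, hij, hj⟩ := hker i.1 x hx
    exact ⟨⟨j, i.2.trans hij⟩, hij, hj⟩

variable {ι : Type u} [Preorder ι]

/-- Purity and flatness along a fibre descend to a stage. -/
theorem exists_stage (G : ι → Type u) [∀ i, CommRing (G i)]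
    (g : ∀ i j, i ≤ j → G i →+* G j) {A : Type u} [CommRing A] [∀ i, Algebra (G i) A]
    (hcolim : FlatCA.IsDirectedColimitRing G g A)
    {B : Type u} [CommRing B] [Algebra A B] [Algebra.FinitePresentation A B]
    (N : Type u) [AddCommGroup N] [Module B N] [Module A N] [IsScalarTower A B N] [Module.FinitePresentation B N]
    (p : Ideal A) [p.IsPrime] (hpure : FlatCA.IsPureAlong A B N p)
    (hflat : ∀ (q : Ideal B) [q.IsPrime], q.LiesOver p → FlatCA.FlatAt A q N) :
    ∃ (i : ι) (Bi Ni : Type u) (_ : CommRing Bi) (_ : Algebra (G i) Bi) (_ : Algebra Bi B) (_ : Algebra (G i) B)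
      (_ : IsScalarTower (G i) A B) (_ : IsScalarTower (G i) Bi B)
      (_ : AddCommGroup Ni) (_ : Module Bi Ni) (_ : Module (G i) Ni) (_ : IsScalarTower (G i) Bi Ni)
      (_ : Module Bi N) (_ : IsScalarTower Bi B N) (f : Ni →ₗ[Bi] N),
      Algebra.FinitePresentation (G i) Bi ∧ Algebra.IsPushout (G i) Bi A B ∧ Module.FinitePresentation Bi Ni ∧ IsBaseChange B f ∧
      FlatCA.IsPureAlong (G i) Bi Ni (p.comap (algebraMap (G i) A)) ∧
      ∀ (q : Ideal Bi) [q.IsPrime], q.LiesOver (p.comap (algebraMap (G i) A)) → FlatCA.FlatAt (G i) q Ni := by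
  obtain ⟨i₀, S, _, _, _, _, _, _, M, _, _, _, _, _, _, k, hS, hpo, hM, hk⟩ :=
    PureStageModel.exists_model G g hcolim B N
  haveI := hS
  haveI := hpo
  haveI := hM
  obtain ⟨-, -, -, htrans, hcomp, -, -⟩ := id hcolim
  letI : ∀ i : {i // i₀ ≤ i}, Algebra (G i₀) (G i.1) := fun i => (g i₀ i.1 i.2).toAlgebra
  haveI : ∀ i : {i // i₀ ≤ i}, IsScalarTower (G i₀) (G i.1) A := fun i =>
    IsScalarTower.of_algebraMap_eq fun r => (RingHom.congr_fun (hcomp i₀ i.1 i.2) r).symm
  obtain ⟨⟨j₁, hj₁⟩, hflat₁⟩ := flat_stage (R := G i₀) (S := S) (M := M) (fun i : {i // i₀ ≤ i} => G i.1)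
    (fun i j h => { g i.1 j.1 h with commutes' := fun r => RingHom.congr_fun (htrans i₀ i.1 j.1 i.2 h) r })
    (tail_isColimit hcolim i₀) k hk p hflat
  letI : Algebra (G i₀) (G j₁) := (g i₀ j₁ hj₁).toAlgebra
  letI : Algebra (G j₁) B := ((algebraMap A B).comp (algebraMap (G j₁) A)).toAlgebra
  haveI : IsScalarTower (G j₁) A B := .of_algebraMap_eq' rfl
  haveI : IsScalarTower (G i₀) (G j₁) A :=
    IsScalarTower.of_algebraMap_eq fun r => (RingHom.congr_fun (hcomp i₀ j₁ hj₁) r).symm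
  obtain ⟨_, _, _, _, _, k₁, hpo₁, hk₁⟩ := exists_push (R := G i₀) (S := S) (A := A) k hk (G j₁)
  haveI := hpo₁
  letI : ∀ i : {i // j₁ ≤ i}, Algebra (G j₁) (G i.1) := fun i => (g j₁ i.1 i.2).toAlgebra
  haveI : ∀ i : {i // j₁ ≤ i}, IsScalarTower (G j₁) (G i.1) A := fun i =>
    IsScalarTower.of_algebraMap_eq fun r => (RingHom.congr_fun (hcomp j₁ i.1 i.2) r).symm
  obtain ⟨⟨j, hj⟩, hrest⟩ := pure_model (R := G j₁) (S := G j₁ ⊗[G i₀] S) (M := (G j₁ ⊗[G i₀] S) ⊗[S] M)
    (fun i : {i // j₁ ≤ i} => G i.1)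
    (fun i l h => { g i.1 l.1 h with commutes' := fun r => RingHom.congr_fun (htrans j₁ i.1 l.1 i.2 h) r })
    (tail_isColimit hcolim j₁) k₁ hk₁ p hflat hflat₁ hpure
  exact ⟨j, hrest⟩

end Groth.Agent.Lib.RG57.PureStageMain
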