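import Groth.Agent.H2.SplitPerm.Noeth
import Groth.Agent.H26.RegKindsImm
import Groth.Agent.H54.TorDimHom
import Groth.Agent.H56.LCI.Cancel
import Groth.Agent.H26.RegImmKind
import Groth.Agent.H80.RegularExtend

/-!
The inner factor of a regular immersion is regular when it has finite tor dimension.
-/

set_option autoImplicit false
set_option linter.style.haveILetI false
universe u

open CategoryTheory CategoryTheory.Limits AlgebraicGeometry TopologicalSpace Opposite RingTheory.Sequence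
open Groth.Agent.Lib Groth.Agent.Lib.Synt92

namespace Groth.Agent.Lib.RG57.RegFactor

/-- Finite tor dimension read on quotients of the source. -/
theorem finTor_quot {A B C : Type u} [CommRing A] [CommRing B] [CommRing C] (φ : A →+* B) (ψ : B →+* C)
    (hφ : Function.Surjective φ) (hψ : Function.Surjective ψ)
    (h : letI := ψ.toAlgebra; DRing.HasFiniteTorDim B C)
    (hle : RingHom.ker φ ≤ RingHom.ker (ψ.comp φ)) :
    letI := (Ideal.Quotient.factor hle).toAlgebra
    DRing.HasFiniteTorDim (A ⧸ RingHom.ker φ) (A ⧸ RingHom.ker (ψ.comp φ)) := by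
  letI := ψ.toAlgebra
  obtain ⟨d, hd⟩ := h
  let eI := RingHom.quotientKerEquivOfSurjective hφ
  let eJ := RingHom.quotientKerEquivOfSurjective (f := ψ.comp φ) (hψ.comp hφ)
  letI : Algebra B (A ⧸ RingHom.ker φ) := eI.symm.toRingHom.toAlgebra
  letI : Algebra (A ⧸ RingHom.ker φ) C := (ψ.comp eI.toRingHom).toAlgebra
  haveI : IsScalarTower B (A ⧸ RingHom.ker φ) C := IsScalarTower.of_algebraMap_eq fun b => by
    show ψ b = ψ (eI (eI.symm b))
    rw [eI.apply_symm_apply]
  haveI : IsLocalization (⊥ : Submonoid B) (A ⧸ RingHom.ker φ) := by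
    rw [isLocalization_iff]
    refine ⟨fun y => ?_, fun z => ⟨(eI z, 1), ?_⟩, fun {x y} hxy => ⟨1, ?_⟩⟩
    · rw [(Submonoid.mem_bot.1 y.2), map_one]; exact isUnit_one
    · show z * eI.symm (1 : B) = eI.symm (eI z)
      rw [map_one, mul_one, eI.symm_apply_apply]
    · rw [eI.symm.injective hxy]
  have h1 := Groth.Agent.H54.TorDimHom.hasTorDimLE_localization (A' := A ⧸ RingHom.ker φ)
    (⊥ : Submonoid B) C hd
  letI := (Ideal.Quotient.factor hle).toAlgebra
  refine Groth.Agent.H56.LCI.Cancel.hasFiniteTorDim_congr ?_ ⟨d, h1⟩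
  refine LinearEquiv.symm { eJ with map_smul' := fun a b => ?_ }
  obtain ⟨a, rfl⟩ := Ideal.Quotient.mk_surjective a
  obtain ⟨b, rfl⟩ := Ideal.Quotient.mk_surjective b
  show eJ (Ideal.Quotient.factor hle (Ideal.Quotient.mk _ a) * Ideal.Quotient.mk _ b) =
    ψ (eI (Ideal.Quotient.mk _ a)) * eJ (Ideal.Quotient.mk _ b)
  rw [map_mul]
  rfl

/-- The algebra step. -/
theorem isRegularIdeal_inner {A B C : Type u} [CommRing A] [IsNoetherianRing A] [IsLocalRing A]
    [CommRing B] [CommRing C] [Nontrivial C] (φ : A →+* B) (ψ : B →+* C)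
    (hφ : Function.Surjective φ) (hψ : Function.Surjective ψ)
    (h : letI := ψ.toAlgebra; DRing.HasFiniteTorDim B C)
    (hreg : CInt.IsRegularIdeal (RingHom.ker (ψ.comp φ))) : CInt.IsRegularIdeal (RingHom.ker ψ) := by
  have hle : RingHom.ker φ ≤ RingHom.ker (ψ.comp φ) := fun x hx => by
    rw [RingHom.mem_ker, RingHom.comp_apply, RingHom.mem_ker.1 hx, map_zero]
  have hfd := finTor_quot φ ψ hφ hψ h hle
  letI := (Ideal.Quotient.factor hle).toAlgebra
  haveI : IsScalarTower A (A ⧸ RingHom.ker φ) (A ⧸ RingHom.ker (ψ.comp φ)) :=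
    IsScalarTower.of_algebraMap_eq fun _ => rfl
  obtain ⟨rs, hrs, hJ⟩ := hreg
  obtain ⟨-, rs', h1, h2⟩ := Groth.Agent.H80.RegularExtend.main _ _ hle (RingHom.ker_ne_top _) hfd
    ⟨rs, hJ, hrs⟩
  let e := RingHom.quotientKerEquivOfSurjective hφ
  refine ⟨rs'.map e, ?_, ?_⟩
  · exact ((e.toAddEquiv.isRegular_congr (as := rs') (bs := rs'.map e)
      (List.forall₂_map_right_iff.2 (List.forall₂_same.2 fun r _ x =>
        show e (r * x) = e r * e x from map_mul e r x)))).1 h2
  · rw [show rs'.map e = rs'.map (e.toRingHom) from rfl, ← Ideal.map_ofList, h1, Ideal.map_map,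
      show e.toRingHom.comp (Ideal.Quotient.mk (RingHom.ker φ)) = φ from RingHom.ext fun a => rfl,
      ← RingHom.comap_ker, Ideal.map_comap_of_surjective φ hφ]

variable {X Z : Scheme.{u}}

/-- A regular kernel on stalks spreads out. -/
theorem regularAt_of_isRegularIdeal [IsLocallyNoetherian X] (i : Z ⟶ X) [IsImmersion i] (z : Z)
    (h : CInt.IsRegularIdeal (RingHom.ker (i.stalkMap z).hom)) :
    RegImm.IsRegularImmersionAt .regular i z := by
  obtain ⟨⟨U, hU⟩, hzU, -, hci⟩ := KRImm.exists_closed_chart i z (O := ⊤) trivial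
  haveI : IsClosedImmersion (i ∣_ U) := hci
  haveI : IsNoetherianRing Γ(X, U) := IsLocallyNoetherian.component_noetherian ⟨U, hU⟩
  letI := TopCat.Presheaf.algebra_section_stalk X.presheaf (⟨i z, hzU⟩ : U)
  haveI := hU.isLocalization_stalk ⟨i z, hzU⟩
  obtain ⟨rs, hrs, hrsI⟩ := h
  obtain ⟨a, ha, fs, hfs⟩ := H26.RegImmLocal.exists_away (hU.primeIdealOf ⟨i z, hzU⟩).asIdeal
    (X.presheaf.stalk (i z)) (RingHom.ker (i.app U).hom) rs hrs.toIsWeaklyRegular
    (hrsI.trans (H26.RegImmKind.ker_stalkMap i hU z hzU))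
  haveI := hU.isLocalization_basicOpen a
  obtain ⟨hwD, hI⟩ := hfs Γ(X, X.basicOpen a)
  have hzD : i z ∈ X.basicOpen a := (KRImm.mem_basicOpen_iff hU a ⟨i z, hzU⟩).2 ha
  have hkerD : RingHom.ker (i.app (X.basicOpen a)).hom =
      Ideal.ofList (fs.map (algebraMap Γ(X, U) Γ(X, X.basicOpen a))) := by
    rw [KRImm.ker_app_basicOpen i hU hci a]
    exact hI
  refine ⟨⟨_, hU.basicOpen a⟩, hzD, KRImm.closed_of_le i (X.basicOpen_le a) hci, _, ⟨hwD, ?_⟩, hkerD⟩
  rw [smul_eq_mul, Ideal.mul_top, ← hkerD]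
  intro h
  haveI : Nontrivial Γ(Z, i ⁻¹ᵁ X.basicOpen a) := by
    refine ⟨0, 1, fun h01 => ?_⟩
    have := congrArg (Z.presheaf.germ (i ⁻¹ᵁ X.basicOpen a) z hzD) h01
    rw [map_zero, map_one] at this
    exact zero_ne_one this
  exact RingHom.ker_ne_top (i.app (X.basicOpen a)).hom h.symm

/-- Any kind over a locally Noetherian scheme gives the regular kind. -/
theorem regularAt_of_kind [IsLocallyNoetherian X] (k : RegImm.Kind) {i : Z ⟶ X} {z : Z}
    (h : RegImm.IsRegularImmersionAt k i z) : RegImm.IsRegularImmersionAt .regular i z := by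
  obtain ⟨U, h1, h2, rs, h3, h4⟩ := h
  cases k with
  | regular => exact ⟨U, h1, h2, rs, h3, h4⟩
  | koszul => exact H2.SplitPerm.regularAt_of_h1At ⟨U, h1, h2, rs, H26.RegKinds.h1_of_koszul rs h3, h4⟩
  | h1 => exact H2.SplitPerm.regularAt_of_h1At ⟨U, h1, h2, rs, h3, h4⟩
  | quasi => exact H26.RegQuasi.regular_of_quasi i z ⟨U, h1, h2, rs, h3, h4⟩

/-- The regular kind gives every kind. -/
theorem kindAt_of_regular (k : RegImm.Kind) {i : Z ⟶ X} {z : Z}
    (h : RegImm.IsRegularImmersionAt .regular i z) : RegImm.IsRegularImmersionAt k i z := by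
  obtain ⟨U, h1, h2, rs, h3, h4⟩ := h
  have hk := H26.RegKinds.koszul_of_regular rs h3
  cases k with
  | regular => exact ⟨U, h1, h2, rs, h3, h4⟩
  | koszul => exact ⟨U, h1, h2, rs, hk, h4⟩
  | h1 => exact ⟨U, h1, h2, rs, H26.RegKinds.h1_of_koszul rs hk, h4⟩
  | quasi => exact ⟨U, h1, h2, rs, H26.H1Quasi.isQuasiRegular (H26.RegKinds.h1_of_koszul rs hk), h4⟩

end Groth.Agent.Lib.RG57.RegFactor
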