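import Groth.Agent.Lib.RG57.UnivPurePiece
import Groth.Agent.Lib.RG57.PureCover
import Groth.Agent.Lib.RG.NearApply
import Groth.Agent.Lib.RelAss.Base

/-!
# Pure along a flat fibre implies universally pure
-/

set_option autoImplicit false
set_option linter.style.haveILetI false

universe u

open scoped TensorProduct

attribute [local instance] Algebra.TensorProduct.rightAlgebra

namespace Groth.Agent.Lib.RG57.UnivPure

variable {A B : Type u} [CommRing A] [CommRing B] [Algebra A B] [Algebra.FiniteType A B]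
  (N : Type u) [AddCommGroup N] [Module B N] [Module A N] [IsScalarTower A B N] [Module.Finite B N]

omit [Module A N] [IsScalarTower A B N] in
/-- An impurity is excluded by a universally pure étale piece over which its point lifts. -/
theorem false_of_piece {p : Ideal A} [p.IsPrime]
    (A' : Type u) [CommRing A'] [Algebra A A'] [Algebra.Etale A A'] (p' : Ideal A') [p'.IsPrime] [p'.LiesOver p]
    (B' : Type u) [CommRing B'] [Algebra B B'] [Algebra A' B'] [Algebra A B'] [IsScalarTower A B B']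
    [IsScalarTower A A' B'] [Algebra.Etale B B']
    (G : Type u) [AddCommGroup G] [Module B' G] [Module B G] [IsScalarTower B B' G] [Module A' G]
    [IsScalarTower A' B' G] (f : N →ₗ[B] G) (hf : IsBaseChange B' f)
    (hpure : _root_.FlatCA.IsUnivPureAlong A' B' G p')
    (toB' : B ⊗[A] A' →ₐ[A] B') (htoB : ∀ b, toB' (b ⊗ₜ 1) = algebraMap B B' b)
    (htoA : ∀ a, toB' ((1 : B) ⊗ₜ a) = algebraMap A' B' a)
    (A3 : Type u) [CommRing A3] [Algebra A A3] [Algebra A' A3] [IsScalarTower A A' A3]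
    (t3 u : Ideal A3) [t3.IsPrime] [u.IsPrime] [u.LiesOver p']
    (B3 N3 : Type u) [CommRing B3] [Algebra B B3] [Algebra A3 B3] [Algebra A B3] [IsScalarTower A B B3]
    [IsScalarTower A A3 B3] [AddCommGroup N3] [Module B3 N3] [Module B N3] [IsScalarTower B B3 N3] [Module A3 N3]
    [IsScalarTower A3 B3 N3] (f3 : N →ₗ[B] N3) (P3 : Ideal B3) [P3.IsPrime]
    (himp : _root_.FlatCA.IsImpurity A B N p A3 B3 N3 f3 t3 u P3)
    (ψ : B ⊗[A] A' →ₐ[A] B3) (hψB : ∀ b, ψ (b ⊗ₜ 1) = algebraMap B B3 b)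
    (hψA : ∀ a, ψ ((1 : B) ⊗ₜ a) = algebraMap A3 B3 (algebraMap A' A3 a))
    (hQ : ∃ Q' : Ideal B', Q'.IsPrime ∧ Q'.comap toB'.toRingHom = P3.comap ψ.toRingHom) : False := by
  obtain ⟨hpo3, hf3, hle, -, hP3t, hP3ass, hno3⟩ := himp
  haveI := hP3t
  let BA := B ⊗[A] A'
  letI : Algebra BA B' := toB'.toRingHom.toAlgebra
  haveI : IsScalarTower B BA B' := IsScalarTower.of_algebraMap_eq fun b => (htoB b).symm
  haveI : IsScalarTower A' BA B' := IsScalarTower.of_algebraMap_eq fun a => (htoA a).symm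
  haveI : Algebra.Etale B BA := inferInstance
  haveI : Algebra.Etale BA B' := Algebra.Etale.of_restrictScalars (R := B) (A := BA) (B := B')
  letI : Algebra BA B3 := ψ.toRingHom.toAlgebra
  letI : Algebra A' B3 := ((algebraMap A3 B3).comp (algebraMap A' A3)).toAlgebra
  haveI : IsScalarTower A' A3 B3 := .of_algebraMap_eq' rfl
  haveI : IsScalarTower B BA B3 := IsScalarTower.of_algebraMap_eq fun b => (hψB b).symm
  haveI : IsScalarTower A' BA B3 := IsScalarTower.of_algebraMap_eq fun a => (hψA a).symm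
  haveI : IsScalarTower A A' B3 := IsScalarTower.of_algebraMap_eq fun a => by
    rw [IsScalarTower.algebraMap_apply A' A3 B3, ← IsScalarTower.algebraMap_apply A A' A3,
      ← IsScalarTower.algebraMap_apply A A3 B3]
  haveI : IsScalarTower A BA B3 := IsScalarTower.of_algebraMap_eq fun a => (ψ.commutes a).symm
  haveI : Algebra.IsPushout A A3 B B3 := hpo3.symm
  haveI : Algebra.IsPushout A A' B BA := inferInstance
  haveI hpoR : Algebra.IsPushout A' BA A3 B3 := ((Algebra.IsPushout.comp_iff A A' B BA (T := A3)).1 ‹_›).symm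
  letI : Module BA N3 := Module.compHom N3 (algebraMap BA B3)
  haveI : IsScalarTower BA B3 N3 := IsScalarTower.of_algebraMap_smul fun _ _ => rfl
  haveI : IsScalarTower B BA N3 := IsScalarTower.of_algebraMap_smul fun b n => by
    show algebraMap BA B3 (algebraMap B BA b) • n = b • n
    rw [← IsScalarTower.algebraMap_apply B BA B3, algebraMap_smul]
  let NA := BA ⊗[B] N
  let fA : N →ₗ[B] NA := TensorProduct.mk B BA N 1
  have hfA : IsBaseChange BA fA := TensorProduct.isBaseChange B N BA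
  let g := hfA.lift f3
  have hg : IsBaseChange B3 g := (IsBaseChange.comp_iff hfA).1 (by rw [hfA.lift_comp]; exact hf3)
  obtain ⟨Q', hQ', hQ'Q⟩ := hQ
  haveI := hQ'
  let Q := P3.comap (algebraMap BA B3)
  haveI : Q'.LiesOver Q := ⟨hQ'Q.symm⟩
  haveI : P3.LiesOver Q := ⟨rfl⟩
  obtain ⟨Ps, hPs, hPsP3, hPsQ'⟩ := S1217.exists_prime_tensor Q P3 Q'
  haveI := hPs
  haveI := hPsP3
  haveI := hPsQ'
  haveI : SMulCommClass BA A3 B3 := ⟨fun a b c => by simp only [Algebra.smul_def]; ring⟩
  let Bs := B3 ⊗[BA] B'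
  haveI : SMulCommClass B3 B' Bs := ⟨fun a b c => by simp only [Algebra.smul_def]; ring⟩
  haveI : IsScalarTower A' B' Bs := IsScalarTower.of_algebraMap_eq fun a => by
    rw [IsScalarTower.algebraMap_apply A' BA Bs, IsScalarTower.algebraMap_apply A' BA B',
      ← IsScalarTower.algebraMap_apply BA B' Bs]
  haveI : Algebra.IsPushout BA B' B3 Bs := Algebra.IsPushout.symm inferInstance
  have hpos : Algebra.IsPushout A' B' A3 Bs := (Algebra.IsPushout.comp_iff A' BA A3 B3 (T := B')).2 ‹_›
  let Ns := Bs ⊗[B3] N3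
  let g2 : N3 →ₗ[B3] Ns := TensorProduct.mk B3 Bs N3 1
  have hg2 : IsBaseChange Bs g2 := TensorProduct.isBaseChange B3 N3 Bs
  letI : Module BA G := Module.compHom G (algebraMap BA B')
  haveI : IsScalarTower BA B' G := IsScalarTower.of_algebraMap_smul fun _ _ => rfl
  haveI : IsScalarTower B BA G := IsScalarTower.of_algebraMap_smul fun b n => by
    show algebraMap BA B' (algebraMap B BA b) • n = b • n
    rw [← IsScalarTower.algebraMap_apply B BA B', algebraMap_smul]
  have hgN : IsBaseChange B' (hfA.lift f) := (IsBaseChange.comp_iff hfA).1 (by rw [hfA.lift_comp]; exact hf)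
  let g' : G →ₗ[B'] Ns := hgN.lift ((g2.restrictScalars BA).comp g)
  have hg' : IsBaseChange Bs g' := (IsBaseChange.comp_iff hgN).1 (by rw [hgN.lift_comp]; exact hg.comp hg2)
  haveI : Algebra.FiniteType A3 B3 :=
    .equiv (Algebra.FiniteType.baseChange A3 (A := B)) (Algebra.IsPushout.equiv A A3 B B3)
  haveI : Module.Finite B3 N3 := Module.Finite.of_surjective hf3.equiv.toLinearMap hf3.equiv.surjective
  haveI : Ps.LiesOver t3 := Ideal.LiesOver.trans Ps P3 t3
  have hPsass := (EtaleAssoc.assoc_iff g2 hg2 t3 P3 Ps).2 hP3ass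
  refine hpure A3 Bs Ns g' t3 u Ps ⟨hpos, hg', hle, inferInstance, inferInstance, hPsass, fun P₁ _ hle' hl => ?_⟩
  refine hno3 (P₁.comap (algebraMap B3 Bs)) (hPsP3.over.le.trans (Ideal.comap_mono hle')) ⟨?_⟩
  rw [Ideal.under_def, Ideal.comap_comap, ← IsScalarTower.algebraMap_eq]
  exact hl.over

set_option maxHeartbeats 800000 in
/-- A module flat along a fibre and pure along it is universally pure along it. -/
theorem isUnivPureAlong_of_isPureAlong (p : Ideal A) [p.IsPrime]
    (hflat : ∀ (q : Ideal B) [q.IsPrime], q.LiesOver p → _root_.FlatCA.FlatAt A q N)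
    (hpN : _root_.FlatCA.IsPureAlong A B N p) : _root_.FlatCA.IsUnivPureAlong A B N p := by
  classical
  intro A1 B1 N1 _ _ _ _ _ _ _ _ _ _ _ _ _ _ f1 t' t _ _ P _ himp
  haveI := himp.2.2.2.1
  -- the pieces and a common neighbourhood
  let ι := {P : Ideal B // P.LiesOver p ∧ P ∈ associatedPrimes B (_root_.FlatCA.fiberMod p B N)}
  haveI : Finite ι := RelAss.Base.finite_assoc p
  haveI := Fintype.ofFinite ι
  haveI : ∀ i : ι, i.1.IsPrime := fun i => i.2.2.1
  choose R S cR cS aAR aBS aRS aAS tARS tABS r hr hft G gG mSG mBG tBSG mRG tRSG fG hnR hetS hfG hQpt hpureG using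
    fun i : ι => (haveI := i.2.1; UnivPurePiece.exists_piece N p i.1 (hflat i.1 i.2.1))
  obtain ⟨A', cA', aA', p', hp', het, hg⟩ := RG.NearApply.exists_common (Finset.univ : Finset ι) p R r hnR
  haveI := het.1
  haveI : p'.LiesOver p := het.2.choose
  -- the impurity over the common neighbourhood
  obtain ⟨u0, hu0, hu0t, hu0p⟩ := S1217.exists_prime_tensor p t p'
  haveI := hu0
  haveI := hu0t
  haveI := hu0p
  let A3 := A1 ⊗[A] A'
  obtain ⟨t3, ht3u, ht3, ht3t⟩ := u0.exists_ideal_le_liesOver_of_le (p := t') (q := t) himp.2.2.1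
  haveI := ht3
  haveI := ht3t
  obtain ⟨B3, N3, _, _, _, _, _, _, _, _, _, _, _, _, f3, P3, _, himp3⟩ :=
    FlatCA.ImpurityReduce.up_exact himp A3 t3 u0 ht3u
  haveI := himp3.2.2.2.2.1
  let BA := B ⊗[A] A'
  let NA := BA ⊗[B] N
  haveI : SMulCommClass B A' BA := ⟨fun a b c => by simp only [Algebra.smul_def]; ring⟩
  haveI : IsScalarTower A' BA NA := IsScalarTower.of_algebraMap_smul fun r z => by
    induction z using TensorProduct.induction_on with
    | zero => simp
    | add a b ha hb => simp only [smul_add, ha, hb]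
    | tmul a b => rw [TensorProduct.smul_tmul', TensorProduct.smul_tmul', algebraMap_smul]
  let fA : N →ₗ[B] NA := TensorProduct.mk B BA N 1
  have hfA : IsBaseChange BA fA := TensorProduct.isBaseChange B N BA
  letI : Algebra A' B3 := ((algebraMap A3 B3).comp (algebraMap A' A3)).toAlgebra
  haveI : IsScalarTower A' A3 B3 := .of_algebraMap_eq' rfl
  haveI : IsScalarTower A A' B3 := IsScalarTower.of_algebraMap_eq fun a => by
    rw [IsScalarTower.algebraMap_apply A' A3 B3, ← IsScalarTower.algebraMap_apply A A' A3,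
      ← IsScalarTower.algebraMap_apply A A3 B3]
  let ψ : BA →ₐ[A] B3 := Algebra.TensorProduct.lift (IsScalarTower.toAlgHom A B B3) (IsScalarTower.toAlgHom A A' B3)
    fun _ _ => Commute.all _ _
  have hψB : ∀ b, ψ (b ⊗ₜ 1) = algebraMap B B3 b := fun b =>
    (Algebra.TensorProduct.lift_tmul _ _ _ b 1).trans (by rw [map_one, mul_one]; rfl)
  have hψA : ∀ a, ψ ((1 : B) ⊗ₜ a) = algebraMap A' B3 a := fun a =>
    (Algebra.TensorProduct.lift_tmul _ _ _ 1 a).trans (by rw [map_one, one_mul]; rfl)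
  letI : Algebra BA B3 := ψ.toRingHom.toAlgebra
  haveI : IsScalarTower B BA B3 := IsScalarTower.of_algebraMap_eq fun b => (hψB b).symm
  haveI : IsScalarTower A' BA B3 := IsScalarTower.of_algebraMap_eq fun a => (hψA a).symm
  haveI : IsScalarTower A BA B3 := IsScalarTower.of_algebraMap_eq fun a => (ψ.commutes a).symm
  haveI : Algebra.IsPushout A A3 B B3 := himp3.1.symm
  haveI : Algebra.IsPushout A A' B BA := inferInstance
  haveI hpoR : Algebra.IsPushout A' BA A3 B3 := ((Algebra.IsPushout.comp_iff A A' B BA (T := A3)).1 ‹_›).symm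
  letI : Module BA N3 := Module.compHom N3 (algebraMap BA B3)
  haveI : IsScalarTower BA B3 N3 := IsScalarTower.of_algebraMap_smul fun _ _ => rfl
  haveI : IsScalarTower B BA N3 := IsScalarTower.of_algebraMap_smul fun b n => by
    show algebraMap BA B3 (algebraMap B BA b) • n = b • n
    rw [← IsScalarTower.algebraMap_apply B BA B3, algebraMap_smul]
  have hg3 : IsBaseChange B3 (hfA.lift f3) :=
    (IsBaseChange.comp_iff hfA).1 (by rw [hfA.lift_comp]; exact himp3.2.1)
  let tA := t3.comap (algebraMap A' A3)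
  haveI : t3.LiesOver tA := ⟨rfl⟩
  obtain ⟨hQt, hQass⟩ := FlatCA.FibreDescend.assoc_comap hpoR (hfA.lift f3) hg3 tA t3 P3 himp3.2.2.2.2.2.1
  let Q := P3.comap (algebraMap BA B3)
  haveI : Q.LiesOver tA := hQt
  have htle : tA ≤ p' := (Ideal.comap_mono ht3u).trans hu0p.over.ge
  obtain ⟨hftA, hfinA, hetB⟩ := PureCover.finiteType_and_finite N p A' p' BA NA fA hfA het
  haveI := hftA
  haveI := hfinA
  haveI := hetB
  -- a specialisation of the image point over the point of the neighbourhood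
  obtain ⟨P', hP', hQP', hP't⟩ : ∃ P' : Ideal BA, P'.IsPrime ∧ Q ≤ P' ∧ P'.LiesOver p' := by
    by_contra hcon
    exact hpN A' BA NA fA tA p' Q het
      ⟨inferInstance, hfA, htle, inferInstance, inferInstance, hQass, fun P' hP' hle hl => hcon ⟨P', hP', hle, hl⟩⟩
  haveI : IsScalarTower A BA NA := IsScalarTower.of_algebraMap_smul fun r z => by
    induction z using TensorProduct.induction_on with
    | zero => simp
    | add a b ha hb => simp only [smul_add, ha, hb]
    | tmul a b => rw [TensorProduct.smul_tmul', TensorProduct.smul_tmul', algebraMap_smul]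
  haveI : IsScalarTower A A' NA := IsScalarTower.of_algebraMap_smul fun a n => by
    rw [← algebraMap_smul BA (algebraMap A A' a) n, ← IsScalarTower.algebraMap_apply, algebraMap_smul]
  haveI : IsScalarTower A B NA := IsScalarTower.of_algebraMap_smul fun a n => by
    rw [← algebraMap_smul BA (algebraMap A B a) n, ← IsScalarTower.algebraMap_apply, algebraMap_smul]
  obtain ⟨q₁, hq₁, hQq₁, hq₁p', hq₁ass⟩ := S1221.result NA p' (fun q₁ _ hl => by
    haveI := hl
    haveI : q₁.LiesOver p := Ideal.LiesOver.trans q₁ p' p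
    haveI : (q₁.comap (algebraMap B BA)).LiesOver p := ⟨by
      rw [Ideal.under_def, Ideal.comap_comap, ← IsScalarTower.algebraMap_eq]
      exact Ideal.LiesOver.over⟩
    exact ((S1231.result (R := A) (T := A') NA q₁).1).1
      (RG.FibrePoint.flatAt_up fA hfA (q₁.comap (algebraMap B BA)) q₁ rfl (hflat _ inferInstance)))
    tA htle Q hQass ⟨P', hP', hQP', hP't⟩
  haveI := hq₁
  haveI := hq₁p'
  haveI : q₁.LiesOver p := Ideal.LiesOver.trans q₁ p' p
  obtain ⟨hql, hqass⟩ := FlatCA.FibreDescend.assoc_comap (inferInstance : Algebra.IsPushout A B A' BA) fA hfA p p' q₁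
    hq₁ass
  haveI := hql
  let i : ι := ⟨q₁.comap (algebraMap B BA), hql, (FlatCA.FibreAss.assoc_iff N p _).1 hqass⟩
  obtain ⟨g, hgr⟩ := hg i (Finset.mem_univ i)
  -- move everything to the neighbourhood of the piece
  letI : Algebra (R i) A' := g.toRingHom.toAlgebra
  haveI : IsScalarTower A (R i) A' := IsScalarTower.of_algebraMap_eq fun a => (g.commutes a).symm
  letI : Algebra (R i) A3 := ((algebraMap A' A3).comp (algebraMap (R i) A')).toAlgebra
  haveI : IsScalarTower (R i) A' A3 := .of_algebraMap_eq' rfl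
  haveI : IsScalarTower A (R i) A3 := IsScalarTower.of_algebraMap_eq fun a => by
    rw [IsScalarTower.algebraMap_apply (R i) A' A3, ← IsScalarTower.algebraMap_apply A (R i) A',
      ← IsScalarTower.algebraMap_apply A A' A3]
  haveI := (hnR i).1
  haveI : (r i).LiesOver p := (hnR i).2.choose
  haveI : p'.LiesOver (r i) := ⟨hgr.symm⟩
  haveI : u0.LiesOver (r i) := Ideal.LiesOver.trans u0 p' (r i)
  let σ : B ⊗[A] R i →ₐ[A] BA := Algebra.TensorProduct.map (AlgHom.id A B) g
  let toB : B ⊗[A] R i →ₐ[A] S i := Algebra.TensorProduct.lift (IsScalarTower.toAlgHom A B (S i))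
    (IsScalarTower.toAlgHom A (R i) (S i)) fun _ _ => Commute.all _ _
  have htoB : ∀ b, toB (b ⊗ₜ 1) = algebraMap B (S i) b := fun b => by simp [toB]
  have htoA : ∀ a, toB ((1 : B) ⊗ₜ a) = algebraMap (R i) (S i) a := fun a => by simp [toB]
  haveI := hft i
  haveI := hetS i
  refine false_of_piece N (R i) (r i) (S i) (G i) (fG i) (hfG i) (hpureG i) toB htoB htoA A3 t3 u0 B3 N3 f3 P3 himp3
    (ψ.comp σ) (fun b => ?_) (fun a => ?_) ?_
  · show ψ (σ (b ⊗ₜ 1)) = _
    rw [show σ (b ⊗ₜ 1) = b ⊗ₜ (g 1) from Algebra.TensorProduct.map_tmul _ _ _ _, map_one]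
    exact hψB b
  · show ψ (σ ((1 : B) ⊗ₜ a)) = _
    rw [show σ ((1 : B) ⊗ₜ a) = (1 : B) ⊗ₜ (g a) from Algebra.TensorProduct.map_tmul _ _ _ _]
    exact hψA (g a)
  -- the lift
  obtain ⟨Qi, hQi, hQiq, hQir⟩ := hQpt i
  haveI := hQi
  letI : Algebra (B ⊗[A] R i) (S i) := toB.toRingHom.toAlgebra
  haveI : IsScalarTower B (B ⊗[A] R i) (S i) := IsScalarTower.of_algebraMap_eq fun b => (htoB b).symm
  haveI : IsScalarTower (R i) (B ⊗[A] R i) (S i) := IsScalarTower.of_algebraMap_eq fun a => (htoA a).symm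
  haveI : Algebra.Etale B (B ⊗[A] R i) := inferInstance
  haveI : Algebra.Etale (B ⊗[A] R i) (S i) :=
    Algebra.Etale.of_restrictScalars (R := B) (A := B ⊗[A] R i) (B := S i)
  have heq : Qi.comap (algebraMap (B ⊗[A] R i) (S i)) = q₁.comap σ.toRingHom := by
    refine PureCover.point_unique p (r i) (hnR i) (q₁.comap (algebraMap B BA)) _ _ ?_ ?_ ?_ ?_
    · rw [Ideal.comap_comap, ← IsScalarTower.algebraMap_eq]
      exact hQiq
    · rw [Ideal.comap_comap, ← IsScalarTower.algebraMap_eq, hQir]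
    · refine Ideal.ext fun b => ?_
      show σ (b ⊗ₜ 1) ∈ q₁ ↔ algebraMap B BA b ∈ q₁
      rw [show σ (b ⊗ₜ 1) = b ⊗ₜ (g 1) from Algebra.TensorProduct.map_tmul _ _ _ _, map_one]
      rfl
    · refine Ideal.ext fun a => ?_
      show σ ((1 : B) ⊗ₜ a) ∈ q₁ ↔ a ∈ r i
      rw [← hgr]
      rw [show σ ((1 : B) ⊗ₜ a) = (1 : B) ⊗ₜ (g a) from Algebra.TensorProduct.map_tmul _ _ _ _]
      exact (Ideal.mem_of_liesOver q₁ p' (g a)).symm
  haveI : Qi.LiesOver (q₁.comap σ.toRingHom) := ⟨heq.symm⟩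
  obtain ⟨Q', -, hQ', hQ'Q⟩ := Qi.exists_ideal_le_liesOver_of_le (p := Q.comap σ.toRingHom) (q := q₁.comap σ.toRingHom)
    (Ideal.comap_mono hQq₁)
  exact ⟨Q', hQ', hQ'Q.over.symm⟩

end Groth.Agent.Lib.RG57.UnivPure
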