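import Groth.Agent.Lib.RG57.PureProj
import Groth.Agent.Lib.RG.OpenMain
import Groth.Agent.Lib.RG.Near

/-!
# Universally pure étale pieces of a finite module near a flat point
-/

set_option autoImplicit false
set_option linter.style.haveILetI false

universe u

open scoped TensorProduct

attribute [local instance] Algebra.TensorProduct.rightAlgebra

namespace Groth.Agent.Lib.RG57.UnivPurePiece

open RG.StepModel (BijAt)
open RG.NhdPoint (inR)

section Model

variable {A : Type u} [CommRing A] {P : Type u} [CommRing P] [Algebra A P] [Algebra.FinitePresentation A P]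
  (N : Type u) [AddCommGroup N] [Module P N] [Module A N] [IsScalarTower A P N] [Module.Finite P N]

/-- Near a flat point a finite module agrees, after an étale neighbourhood of the base, with a finitely
presented module having a projective chart. -/
theorem exists_model_chart (p : Ideal A) [p.IsPrime] (q : Ideal P) [q.IsPrime] [q.LiesOver p]
    (hflat : Module.Flat A (LocalizedModule q.primeCompl N)) :
    ∃ (R : Type u) (_ : CommRing R) (_ : Algebra A R) (r : Ideal R) (_ : r.IsPrime),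
      _root_.FlatCA.IsEtaleNhd A R p r ∧ ∃ (N₀ : Type u) (_ : AddCommGroup N₀) (_ : Module P N₀) (θ : N₀ →ₗ[P] N)
        (w : P ⊗[A] R),
        (∀ Q : Ideal (P ⊗[A] R), Q.IsPrime → Q.comap (algebraMap P (P ⊗[A] R)) = q → Q.comap inR = r → w ∉ Q) ∧
        Module.Projective R (RG.OpenProj.Model N₀ w) ∧
        ∀ Q : Ideal (P ⊗[A] R), Q.IsPrime → w ∉ Q → Q.comap inR ≤ r →
          ∀ (_ : (Q.comap (algebraMap P (P ⊗[A] R))).IsPrime), BijAt (Q.comap (algebraMap P (P ⊗[A] R))) θ := by
  obtain ⟨R₁, _, _, r₁, hr₁, het₁, h, hh, hgood⟩ := RG.Near.near_of_flat p q hflat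
  obtain ⟨k, π, hπ⟩ := Module.Finite.exists_fin' P N
  obtain ⟨T, hT, hgen⟩ := hgood.2 k π hπ
  let K : Submodule P (Fin k → P) := Submodule.span P (T : Set (Fin k → P))
  let N₀ := (Fin k → P) ⧸ K
  let θ : N₀ →ₗ[P] N := K.liftQ π (Submodule.span_le.2 fun t ht => LinearMap.mem_ker.2 (hT t ht))
  haveI : Module.FinitePresentation P N₀ :=
    Module.finitePresentation_of_surjective K.mkQ K.mkQ_surjective (by rw [K.ker_mkQ]; exact ⟨T, rfl⟩)
  have hθ : ∀ Q ∈ RG.Near.shadow r₁ h, ∀ (_ : Q.IsPrime), BijAt Q θ := by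
    intro Q hQ hQp
    refine ⟨fun y => ⟨1, Q.primeCompl.one_mem, ?_⟩, fun v hv => ?_⟩
    · obtain ⟨x, rfl⟩ := hπ y
      exact ⟨Submodule.Quotient.mk x, (Submodule.liftQ_apply _ _ _).trans (one_smul P (π x)).symm⟩
    · obtain ⟨x, rfl⟩ := Submodule.Quotient.mk_surjective _ v
      obtain ⟨w, hw, hwx⟩ := hgen x hv Q hQ
      exact ⟨w, hw, by rw [← Submodule.Quotient.mk_smul, Submodule.Quotient.mk_eq_zero]; exact hwx⟩
  have hqshadow : q ∈ RG.Near.shadow r₁ h := by
    obtain ⟨Q, hQ, hQq, hQr⟩ := RG.NhdPoint.exists_point (S := P) p r₁ q het₁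
    exact ⟨Q, hQ, hh Q hQ hQq hQr, hQr.le, hQq⟩
  have hbij := hθ q hqshadow inferInstance
  have hflat₀ : Module.Flat A (LocalizedModule q.primeCompl N₀) := by
    refine (H19.FlatLocus.flat_iff_killed q.primeCompl (LocalizedModule.mkLinearMap q.primeCompl N₀)).2 fun J ξ hξ => ?_
    let θJ := TensorProduct.AlgebraTensorModule.rTensor A J θ
    have h0 : J.subtype.lTensor N (θJ ξ) = 0 := by
      show J.subtype.lTensor N ((θ.restrictScalars A).rTensor J ξ) = 0
      rw [← LinearMap.comp_apply, LinearMap.lTensor_comp_rTensor, ← LinearMap.rTensor_comp_lTensor,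
        LinearMap.comp_apply, hξ, map_zero]
    obtain ⟨w, hw, hwξ⟩ := (H19.FlatLocus.flat_iff_killed q.primeCompl
      (LocalizedModule.mkLinearMap q.primeCompl N)).1 hflat J _ h0
    obtain ⟨d, hd, hdξ⟩ := (RelAss.FlatAtPoint.bijAt_rTensor q hbij J).2 (w • ξ) (by rw [map_smul]; exact hwξ)
    exact ⟨d * w, q.primeCompl.mul_mem hd hw, by rw [mul_smul, hdξ]⟩
  obtain ⟨R₂, _, _, r₂, hr₂, het₂, v, hv⟩ := RG.OpenMain.exists_chart p q hflat₀
  haveI := het₂.2.choose
  obtain ⟨r₃, hr₃, hr₃₂, hr₃₁⟩ := RG.NhdPoint.exists_point (S := R₂) p r₁ r₂ het₁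
  haveI := hr₃
  let R₃ := R₂ ⊗[A] R₁
  have het₂₃ := RG.NhdPoint.isEtaleNhd p r₁ r₂ het₁ r₃ hr₃₂ hr₃₁
  have het₃ := RG.NhdPoint.trans het₂ het₂₃
  have hgood₃ := RG.OpenProj.good_push N₀ p r₂ r₃ q het₂ het₂₃ hv
  haveI : IsScalarTower A R₁ R₃ := IsScalarTower.of_algebraMap_eq fun a =>
    (AlgHom.commutes (Algebra.TensorProduct.includeRight : R₁ →ₐ[A] R₂ ⊗[A] R₁) a).symm
  let σ : P ⊗[A] R₁ →ₐ[A] P ⊗[A] R₃ :=
    Algebra.TensorProduct.map (AlgHom.id A P) (IsScalarTower.toAlgHom A R₁ R₃)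
  have hσl : ∀ x, σ (algebraMap P (P ⊗[A] R₁) x) = algebraMap P (P ⊗[A] R₃) x := fun x => RG.OpenProj.sig_left x
  have hσr : ∀ x, σ (inR x) = inR (algebraMap R₁ R₃ x) := fun x => RG.OpenProj.sig_inR x
  have hσ : ∀ Q : Ideal (P ⊗[A] R₃), Q.comap inR ≤ r₃ → (Q.comap σ.toRingHom).comap inR ≤ r₁ ∧
      (Q.comap σ.toRingHom).comap (algebraMap P (P ⊗[A] R₁)) = Q.comap (algebraMap P (P ⊗[A] R₃)) := by
    intro Q hQ
    refine ⟨fun x hx => ?_, Ideal.ext fun x => ?_⟩
    · rw [← hr₃₁]
      refine hQ ?_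
      show inR (algebraMap R₁ R₃ x) ∈ Q
      rw [← hσr]
      exact hx
    · show σ (algebraMap P _ x) ∈ Q ↔ _
      rw [hσl]
      rfl
  obtain ⟨R, _, _, _, _, r, hr, het₄, -, hgood⟩ := RG.OpenProj.exists_shrink N₀ p r₃ q het₃ hgood₃ (σ h)
    (fun Q hQ hQq hQr => hh (Q.comap σ.toRingHom) (hQ.comap _) ((hσ Q hQr.le).2.trans hQq) (Ideal.ext fun x => by
      show σ (inR x) ∈ Q ↔ _
      rw [hσr, ← hr₃₁, ← hQr]
      rfl))
    1 r₃.primeCompl.one_mem
  obtain ⟨hw, hproj, -⟩ := hgood
  refine ⟨R, inferInstance, inferInstance, r, hr, RG.NhdPoint.trans het₃ het₄, N₀, inferInstance, inferInstance, θ,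
    _, hw, hproj, fun Q hQ hwQ hQr hp => hθ _ ?_ hp⟩
  haveI := het₄.2.choose
  let Q₃ := Q.comap (RG.OpenProj.sig (R' := R₃) (R'' := R)).toRingHom
  have hQ₃r : Q₃.comap inR ≤ r₃ := fun x hx => by
    rw [r.over_def r₃]
    refine hQr ?_
    show inR (algebraMap R₃ R x) ∈ Q
    rw [← RG.OpenProj.sig_inR]
    exact hx
  refine ⟨Q₃.comap σ.toRingHom, (hQ.comap _).comap _, fun hmem => hwQ ?_, (hσ Q₃ hQ₃r).1, ?_⟩
  · rw [map_mul]
    exact Q.mul_mem_left _ hmem
  · rw [(hσ Q₃ hQ₃r).2]
    refine Ideal.ext fun x => ?_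
    show RG.OpenProj.sig (algebraMap P _ x) ∈ Q ↔ _
    rw [RG.OpenProj.sig_left]
    rfl

end Model

section Local

variable {P X : Type u} [CommRing P] [CommRing X] [Algebra P X] [Module.Flat P X]
  {R : Type u} [CommRing R] [Algebra R X] (r : Ideal R) [r.IsPrime]

omit [Module.Flat P X] in
theorem tower (M : Type u) [AddCommGroup M] [Module P M] [SMulCommClass P R X] : IsScalarTower R X (X ⊗[P] M) := by
  refine IsScalarTower.of_algebraMap_smul fun c z => ?_
  induction z using TensorProduct.induction_on with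
  | zero => simp
  | add a b ha hb => simp only [smul_add, ha, hb]
  | tmul a b => rw [TensorProduct.smul_tmul', TensorProduct.smul_tmul', algebraMap_smul]

/-- A map bijective at all points seen by the chart becomes bijective over the local ring of the base point. -/
theorem exists_local_equiv {M N : Type u} [AddCommGroup M] [Module P M] [AddCommGroup N] [Module P N]
    (θ : M →ₗ[P] N) [SMulCommClass P R X]
    (hθ : ∀ Q : Ideal X, Q.IsPrime → Q.comap (algebraMap R X) ≤ r → ∀ (_ : (Q.comap (algebraMap P X)).IsPrime),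
      BijAt (Q.comap (algebraMap P X)) θ) :
    Nonempty (Localization.AtPrime r ⊗[R] (X ⊗[P] M) ≃ₗ[Localization.AtPrime r]
      Localization.AtPrime r ⊗[R] (X ⊗[P] N)) := by
  let L := Localization.AtPrime r
  haveI := tower (P := P) (X := X) (R := R) M
  haveI := tower (P := P) (X := X) (R := R) N
  let ψ : X ⊗[P] M →ₗ[X] X ⊗[P] N := θ.baseChange X
  have key : ∀ I : Ideal X, (∀ Q : Ideal X, Q.IsPrime → Q.comap (algebraMap R X) ≤ r →
      ∀ (_ : (Q.comap (algebraMap P X)).IsPrime), ∃ c, c ∉ Q ∧ c ∈ I) → ∃ s ∉ r, algebraMap R X s ∈ I := by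
    intro I hI
    by_contra hcon
    push Not at hcon
    obtain ⟨Q, hQ, hle, hd⟩ := Ideal.exists_le_prime_disjoint I (r.primeCompl.map (algebraMap R X))
      (Set.disjoint_left.2 fun a ha ha' => by
        obtain ⟨s, hs, rfl⟩ := ha'
        exact hcon s hs ha)
    obtain ⟨c, hcQ, hcI⟩ := hI Q hQ (fun x hx => by
      by_contra hxr
      exact Set.disjoint_left.1 hd hx (Submonoid.mem_map_of_mem (algebraMap R X) hxr)) (hQ.comap _)
    exact hcQ (hle hcI)
  have hker : ∀ z, ψ z = 0 → ∃ s ∉ r, algebraMap R X s • z = 0 := by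
    intro z hz
    obtain ⟨η, rfl⟩ := (Module.Flat.lTensor_exact X (LinearMap.exact_subtype_ker_map θ) z).1 hz
    induction η using TensorProduct.induction_on with
    | zero => exact ⟨1, r.primeCompl.one_mem, by simp⟩
    | add a b ha hb =>
      have h0 : ∀ η, ψ ((LinearMap.ker θ).subtype.lTensor X η) = 0 := fun η =>
        ((Module.Flat.lTensor_exact X (LinearMap.exact_subtype_ker_map θ)) _).2 ⟨η, rfl⟩
      obtain ⟨s, hs, has⟩ := ha (h0 a)
      obtain ⟨t, ht, hbt⟩ := hb (h0 b)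
      refine ⟨s * t, r.primeCompl.mul_mem hs ht, ?_⟩
      rw [map_add, smul_add, map_mul, mul_smul, mul_smul _ _ ((LinearMap.ker θ).subtype.lTensor X b), hbt, smul_zero,
        smul_comm, has, smul_zero, add_zero]
    | tmul x m =>
      obtain ⟨s, hs, hsI⟩ := key (Submodule.span X {(1 : X) ⊗ₜ[P] (m : M)}).annihilator fun Q hQ hQr hp => by
        obtain ⟨w, hw, hwm⟩ := (hθ Q hQ hQr hp).2 m m.2
        refine ⟨algebraMap P X w, hw, (Submodule.mem_annihilator_span_singleton _ _).2 ?_⟩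
        rw [algebraMap_smul, ← TensorProduct.tmul_smul, hwm, TensorProduct.tmul_zero]
      refine ⟨s, hs, ?_⟩
      rw [LinearMap.lTensor_tmul, show x ⊗ₜ[P] (LinearMap.ker θ).subtype m = x • ((1 : X) ⊗ₜ[P] (m : M)) by
        rw [TensorProduct.smul_tmul', smul_eq_mul, mul_one]; rfl, smul_comm,
        (Submodule.mem_annihilator_span_singleton _ _).1 hsI, smul_zero]
  have hsurj : ∀ y, ∃ s ∉ r, algebraMap R X s • y ∈ LinearMap.range ψ := by
    intro y
    induction y using TensorProduct.induction_on with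
    | zero => exact ⟨1, r.primeCompl.one_mem, by rw [smul_zero]; exact zero_mem _⟩
    | add a b ha hb =>
      obtain ⟨s, hs, has⟩ := ha
      obtain ⟨t, ht, hbt⟩ := hb
      refine ⟨s * t, r.primeCompl.mul_mem hs ht, ?_⟩
      rw [smul_add, map_mul]
      refine add_mem ?_ ?_
      · rw [mul_comm, mul_smul]; exact Submodule.smul_mem _ _ has
      · rw [mul_smul]; exact Submodule.smul_mem _ _ hbt
    | tmul x n =>
      obtain ⟨s, hs, hsI⟩ := key ((LinearMap.range ψ).comap (LinearMap.toSpanSingleton X _ ((1 : X) ⊗ₜ[P] n)))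
        fun Q hQ hQr hp => by
        obtain ⟨w, hw, m, hwm⟩ := (hθ Q hQ hQr hp).1 n
        refine ⟨algebraMap P X w, hw, (1 : X) ⊗ₜ[P] m, ?_⟩
        rw [LinearMap.toSpanSingleton_apply, algebraMap_smul, ← TensorProduct.tmul_smul, ← hwm]
        rfl
      refine ⟨s, hs, ?_⟩
      rw [show x ⊗ₜ[P] n = x • ((1 : X) ⊗ₜ[P] n) by rw [TensorProduct.smul_tmul', smul_eq_mul, mul_one], smul_comm]
      exact Submodule.smul_mem _ _ hsI
  let Ψ : L ⊗[R] (X ⊗[P] M) →ₗ[L] L ⊗[R] (X ⊗[P] N) := (ψ.restrictScalars R).baseChange L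
  refine ⟨LinearEquiv.ofBijective Ψ ⟨(injective_iff_map_eq_zero _).2 fun z hz => ?_, fun y => ?_⟩⟩
  · haveI : IsLocalizedModule r.primeCompl (TensorProduct.mk R L (X ⊗[P] M) 1) :=
      (isLocalizedModule_iff_isBaseChange r.primeCompl L _).2 (TensorProduct.isBaseChange R (X ⊗[P] M) L)
    haveI : IsLocalizedModule r.primeCompl (TensorProduct.mk R L (X ⊗[P] N) 1) :=
      (isLocalizedModule_iff_isBaseChange r.primeCompl L _).2 (TensorProduct.isBaseChange R (X ⊗[P] N) L)
    obtain ⟨⟨m, ⟨s, hs⟩⟩, hm⟩ := IsLocalizedModule.surj r.primeCompl (TensorProduct.mk R L (X ⊗[P] M) 1) z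
    change s • z = (1 : L) ⊗ₜ[R] m at hm
    have h0 : TensorProduct.mk R L (X ⊗[P] N) 1 (ψ m) = 0 := by
      show Ψ ((1 : L) ⊗ₜ[R] m) = 0
      rw [← hm, LinearMap.map_smul_of_tower, hz, smul_zero]
    obtain ⟨⟨s', hs'⟩, hsm⟩ := (IsLocalizedModule.eq_zero_iff r.primeCompl _).1 h0
    change s' • ψ m = 0 at hsm
    obtain ⟨s'', hs'', hsm'⟩ := hker (algebraMap R X s' • m) (by rw [map_smul, algebraMap_smul, hsm])
    have h1 : TensorProduct.mk R L (X ⊗[P] M) 1 m = 0 :=
      (IsLocalizedModule.eq_zero_iff r.primeCompl _).2 ⟨⟨s'' * s', r.primeCompl.mul_mem hs'' hs'⟩, by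
        show (s'' * s') • m = 0
        rw [← algebraMap_smul X, map_mul, mul_smul, hsm']⟩
    rw [TensorProduct.mk_apply] at h1
    rw [h1] at hm
    exact ((Module.End.isUnit_iff _).1 (IsLocalizedModule.map_units (TensorProduct.mk R L (X ⊗[P] M) 1)
      (⟨s, hs⟩ : r.primeCompl))).1 (show s • z = s • (0 : L ⊗[R] (X ⊗[P] M)) by rw [hm, smul_zero])
  · induction y using TensorProduct.induction_on with
    | zero => exact ⟨0, map_zero _⟩
    | add a b ha hb =>
      obtain ⟨a', rfl⟩ := ha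
      obtain ⟨b', rfl⟩ := hb
      exact ⟨a' + b', map_add _ _ _⟩
    | tmul l n =>
      obtain ⟨s, hs, v, hv⟩ := hsurj n
      obtain ⟨u, hu⟩ := IsLocalization.map_units L (⟨s, hs⟩ : r.primeCompl)
      refine ⟨((↑u⁻¹ : L) * l) ⊗ₜ[R] v, ?_⟩
      show ((↑u⁻¹ : L) * l) ⊗ₜ[R] ψ v = _
      rw [hv, algebraMap_smul, ← TensorProduct.smul_tmul, Algebra.smul_def, ← hu, ← mul_assoc, Units.mul_inv, one_mul]

end Local

section Piece

variable {A B : Type u} [CommRing A] [CommRing B] [Algebra A B] [Algebra.FiniteType A B]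
  (N : Type u) [AddCommGroup N] [Module B N] [Module A N] [IsScalarTower A B N] [Module.Finite B N]

set_option maxHeartbeats 800000 in
/-- A flat point of a finite module has an étale piece universally pure over an étale neighbourhood. -/
theorem exists_piece (p : Ideal A) [p.IsPrime] (q : Ideal B) [q.IsPrime] [q.LiesOver p]
    (hflat : _root_.FlatCA.FlatAt A q N) :
    ∃ (R S : Type u) (_ : CommRing R) (_ : CommRing S) (_ : Algebra A R) (_ : Algebra B S) (_ : Algebra R S)
      (_ : Algebra A S) (_ : IsScalarTower A R S) (_ : IsScalarTower A B S) (r : Ideal R) (_ : r.IsPrime)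
      (_ : Algebra.FiniteType R S)
      (G : Type u) (_ : AddCommGroup G) (_ : Module S G) (_ : Module B G) (_ : IsScalarTower B S G) (_ : Module R G)
      (_ : IsScalarTower R S G) (f : N →ₗ[B] G),
      _root_.FlatCA.IsEtaleNhd A R p r ∧ Algebra.Etale B S ∧ IsBaseChange S f ∧
      (∃ Q : Ideal S, Q.IsPrime ∧ Q.comap (algebraMap B S) = q ∧ Q.comap (algebraMap R S) = r) ∧
      _root_.FlatCA.IsUnivPureAlong R S G r := by
  obtain ⟨n, π, hπ⟩ := Algebra.FiniteType.iff_quotient_mvPolynomial''.1 (inferInstance : Algebra.FiniteType A B)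
  let P := MvPolynomial (Fin n) A
  letI : Algebra P B := π.toRingHom.toAlgebra
  haveI : IsScalarTower A P B := IsScalarTower.of_algebraMap_eq fun a => (π.commutes a).symm
  letI : Module P N := Module.compHom N π.toRingHom
  haveI : IsScalarTower P B N := IsScalarTower.of_algebraMap_smul fun _ _ => rfl
  haveI : IsScalarTower A P N := IsScalarTower.of_algebraMap_smul fun a x => by
    show π (algebraMap A P a) • x = a • x
    rw [π.commutes, algebraMap_smul]
  haveI : Module.Finite P B := Module.Finite.of_surjective (Algebra.linearMap P B) hπ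
  haveI : Module.Finite P N := Module.Finite.trans B N
  let q₀ := q.comap (algebraMap P B)
  haveI : q₀.LiesOver p := ⟨by
    rw [Ideal.under_def, Ideal.comap_comap, ← IsScalarTower.algebraMap_eq]
    exact q.over_def p⟩
  haveI : q.LiesOver q₀ := ⟨rfl⟩
  have hflat₀ : Module.Flat A (LocalizedModule q₀.primeCompl N) := by
    refine (H19.FlatLocus.flat_iff_killed q₀.primeCompl (LocalizedModule.mkLinearMap q₀.primeCompl N)).2
      fun J ξ hξ => ?_
    obtain ⟨w, hw, hwξ⟩ := (H19.FlatLocus.flat_iff_killed q.primeCompl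
      (LocalizedModule.mkLinearMap q.primeCompl N)).1 hflat J ξ hξ
    obtain ⟨a, rfl⟩ := hπ w
    exact ⟨a, hw, (algebraMap_smul B a ξ).symm.trans hwξ⟩
  obtain ⟨R, _, _, r, hr, het, N₀, _, _, θ, w, hw, hproj, hθ⟩ := exists_model_chart (P := P) N p q₀ hflat₀
  haveI := het.1
  obtain ⟨Q₀, hQ₀, hQ₀q, hQ₀r⟩ := RG.NhdPoint.exists_point (S := P) p r q₀ het
  haveI := hQ₀
  obtain ⟨hQ₁, hQ₁u⟩ := FlatCA.FiniteCriterion.isEtaleNhd_away Q₀ (hw Q₀ hQ₀ hQ₀q hQ₀r)
  haveI := hQ₁
  let X := Localization.Away w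
  let Q₁ := Q₀.map (algebraMap (P ⊗[A] R) X)
  haveI : Q₁.LiesOver Q₀ := hQ₁u.2.choose
  haveI : Q₁.LiesOver q₀ := ⟨by
    rw [Ideal.under_def, IsScalarTower.algebraMap_eq P (P ⊗[A] R) X, ← Ideal.comap_comap]
    exact hQ₀q.symm.trans (congrArg _ hQ₁u.2.choose.over)⟩
  obtain ⟨Q, hQ, hQX, hQq⟩ := S1217.exists_prime_tensor q₀ Q₁ q
  haveI := hQX
  haveI := hQq
  let S := X ⊗[P] B
  haveI : Algebra.Etale P X := by
    haveI : Algebra.Etale (P ⊗[A] R) X := Algebra.Etale.of_isLocalizationAway w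
    exact Algebra.Etale.comp P (P ⊗[A] R) X
  haveI : SMulCommClass P R X := ⟨fun a b c => by simp only [Algebra.smul_def]; ring⟩
  haveI : SMulCommClass P A X := ⟨fun a b c => by simp only [Algebra.smul_def]; ring⟩
  haveI : Algebra.Etale B S := Algebra.Etale.of_equiv (Algebra.IsPushout.equiv P B X S)
  haveI : IsScalarTower A B S := IsScalarTower.of_algebraMap_eq fun a => by
    rw [IsScalarTower.algebraMap_apply A P B, ← IsScalarTower.algebraMap_apply P B S,
      IsScalarTower.algebraMap_apply P X S, ← IsScalarTower.algebraMap_apply A P X,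
      ← IsScalarTower.algebraMap_apply A X S]
  haveI : Algebra.FinitePresentation R (P ⊗[A] R) :=
    (Algebra.FinitePresentation.baseChange R (A := P) : Algebra.FinitePresentation R (R ⊗[A] P)).equiv
      (Algebra.TensorProduct.commRight A R P)
  haveI : Algebra.FiniteType R X := by
    haveI : Algebra.FiniteType (P ⊗[A] R) X := IsLocalization.finiteType_of_monoid_fg (Submonoid.powers w) X
    exact Algebra.FiniteType.trans (inferInstance : Algebra.FiniteType R (P ⊗[A] R)) inferInstance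
  haveI : Algebra.FiniteType X S := inferInstance
  haveI : Algebra.FiniteType R S := Algebra.FiniteType.trans (inferInstance : Algebra.FiniteType R X) inferInstance
  let G := S ⊗[B] N
  haveI : SMulCommClass B R S := ⟨fun a b c => by rw [Algebra.smul_def a (b • c), Algebra.smul_def a c, mul_smul_comm]⟩
  haveI : IsScalarTower R S G := tower (P := B) (X := S) (R := R) N
  refine ⟨R, S, inferInstance, inferInstance, inferInstance, inferInstance, inferInstance, inferInstance,
    inferInstance, inferInstance, r, hr, inferInstance, G, inferInstance, inferInstance, inferInstance, inferInstance,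
    inferInstance, inferInstance, TensorProduct.mk B S N 1, het, inferInstance, TensorProduct.isBaseChange B N S,
    ⟨Q, hQ, hQq.over.symm, ?_⟩, ?_⟩
  · rw [IsScalarTower.algebraMap_eq R X S, ← Ideal.comap_comap]
    refine (congrArg _ hQX.over.symm).trans ?_
    rw [IsScalarTower.algebraMap_eq R (P ⊗[A] R) X, ← Ideal.comap_comap]
    exact (congrArg _ hQ₁u.2.choose.over.symm).trans hQ₀r
  let L := Localization.AtPrime r
  haveI : (IsLocalRing.maximalIdeal L).LiesOver r := ⟨(IsLocalization.AtPrime.comap_maximalIdeal L r).symm⟩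
  haveI : Module.Flat R L := IsLocalization.flat L r.primeCompl
  haveI : IsScalarTower R X G := IsScalarTower.of_algebraMap_smul fun c z => by
    rw [← algebraMap_smul S (algebraMap R X c) z, ← IsScalarTower.algebraMap_apply, algebraMap_smul]
  haveI : IsScalarTower R X (X ⊗[P] N₀) := tower (P := P) (X := X) (R := R) N₀
  haveI : IsScalarTower R X (X ⊗[P] N) := tower (P := P) (X := X) (R := R) N
  obtain ⟨e⟩ := exists_local_equiv (P := P) (X := X) r θ fun Q' hQ' hQ'r hp => by
    have hwQ : w ∉ Q'.comap (algebraMap (P ⊗[A] R) X) := fun h =>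
      hQ'.ne_top (Ideal.eq_top_of_isUnit_mem _ h (IsLocalization.Away.algebraMap_isUnit w))
    have hc : (Q'.comap (algebraMap (P ⊗[A] R) X)).comap (algebraMap P (P ⊗[A] R)) = Q'.comap (algebraMap P X) := by
      rw [Ideal.comap_comap, ← IsScalarTower.algebraMap_eq]
    have hb := hθ (Q'.comap (algebraMap (P ⊗[A] R) X)) (hQ'.comap _) hwQ (fun x hx => hQ'r (by
      show algebraMap R X x ∈ Q'
      rw [IsScalarTower.algebraMap_apply R (P ⊗[A] R) X]
      exact hx)) ((hQ'.comap _).comap _)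
    simpa only [hc] using hb
  haveI : Module.Projective R (X ⊗[P] N₀) := hproj
  haveI : Module.Projective L (L ⊗[R] (X ⊗[P] N)) := Module.Projective.of_equiv e
  let eG : G ≃ₗ[R] X ⊗[P] N := (Algebra.IsPushout.cancelBaseChange P X B S N).restrictScalars R
  haveI : Module.Projective L (L ⊗[R] G) :=
    Module.Projective.of_equiv (TensorProduct.AlgebraTensorModule.congr (LinearEquiv.refl L L) eG).symm
  exact PureProj.isUnivPureAlong_of_projective_tensor G r L (IsLocalRing.maximalIdeal L)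

end Piece

end Groth.Agent.Lib.RG57.UnivPurePiece
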