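import Groth.Agent.Lib.CurveFF.DivisorEmb
import Groth.Agent.Lib.CurveFF.Drop
import Groth.Agent.Lib.CurveFF.ClosedImmersionCrit
import Groth.Agent.Lib.CurveFF.Embedded

/-!
A very ample divisor drops by two at any two places.
-/

noncomputable section
set_option autoImplicit false
set_option linter.style.haveILetI false
universe u

open CategoryTheory CategoryTheory.Limits AlgebraicGeometry TopologicalSpace Opposite WithZero
open Groth.Agent.Lib.TensorMod Groth.Agent.Lib.TensorMod.Gen
open Groth.Agent.Lib.ProjSpace Groth.Agent.Lib.Ample.GenLocus Groth.Agent.Lib.ProjMor.Sec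
open Groth.Agent.Lib.TensorMod.Dual Groth.Agent.Lib.TensorMod.Basic

namespace Groth.Agent.Lib.RG57.VeryAmpleCrit

open Groth.Agent.Lib.CurveFF Groth.Agent.Lib.FunFld

attribute [local instance] Curv2.stalkAlgebra

variable {k : Type u} [Field k] {n : ℕ} {X : Scheme.{u}} [X.Over (Spec (CommRingCat.of k))]
  [IsIntegral X]

local notation "𝒜" => CohB1.polyGrading n k

/-- The function of a global section. -/
def gs {L : X.Modules} (R : LineDiv.Rep L) (t : Γ(L, ⊤)) : X.functionField :=
  R.coord (L.presheaf.germ ⊤ (genericPoint X) trivial t)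

/-- Around each point an embedded curve has an affine locus generated by ratios. -/
theorem exists_chart {L : X.Modules} (R : LineDiv.Rep L)
    (r : X ⟶ CohB1.ProjSpace n k) [IsClosedImmersion r]
    (hr : r ≫ CohB1.ProjSpace.toSpec n k = X ↘ Spec (CommRingCat.of k))
    (τ : (Scheme.Modules.pullback r).obj (Twist.twistProjSpace n k 1) ≅ L) (x : X) :
    ∃ (U : X.Opens) (_ : IsAffineOpen U) (t : Γ(L, ⊤)), x ∈ U ∧ locus t = U ∧
      ∀ (hη : genericPoint X ∈ U) (P : X.functionField → Prop),
        (∀ c, P (algebraMap k X.functionField c)) → (∀ a b, P a → P b → P (a + b)) →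
        (∀ a b, P a → P b → P (a * b)) → (∀ s, P (gs R s / gs R t)) →
        ∀ a : Γ(X, U), P (X.presheaf.germ U (genericPoint X) hη a) := by
  classical
  let el : Fin (n + 1) → 𝒜 1 := fun i => ⟨MvPolynomial.X i, MvPolynomial.isHomogeneous_X k i⟩
  obtain ⟨l, hl⟩ : ∃ l, r x ∈ Proj.basicOpen 𝒜 (MvPolynomial.X l) :=
    Opens.mem_iSup.mp ((Basic.iSup_basicOpen_X_eq_top n k).ge trivial)
  let D : (CohB1.ProjSpace n k).Opens := Proj.basicOpen 𝒜 (MvPolynomial.X l)
  have hD : IsAffineOpen D := Basic.isAffineOpen_basicOpen_X (R := k) l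
  let U : X.Opens := r ⁻¹ᵁ D
  have hU : IsAffineOpen U := hD.preimage r
  let s : Fin (n + 1) → Γ(L, ⊤) := fun i =>
    τ.hom.app ⊤ (ProjUP.pullSec r (Twist.twistProjSpace n k 1) (ProjUP.coord n k i))
  have hinv : PicF.IsInvertible (Twist.twist 𝒜 1) :=
    ProjTilde.Invertible.twist_isInvertible_of_cover (fun y => by
      obtain ⟨c, hc⟩ := ProjMor.Main.cover (ProjMor.Poly.lin_mem n k) (ProjMor.Poly.adjoin_lin n k) y
      exact ⟨c, c.2, hc⟩) 1
  have hloc : locus (s l) = U := by
    rw [show U = r ⁻¹ᵁ Proj.basicOpen 𝒜 (el l : MvPolynomial (Fin (n + 1)) k) from rfl,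
      ← ProjMor.Frame.locus_g (ProjMor.Main.cover (ProjMor.Poly.lin_mem n k) (ProjMor.Poly.adjoin_lin n k)) (el l)]
    exact (locus_iso τ _).trans (locus_pullback hinv r _)
  refine ⟨U, hU, s l, hl, hloc, fun hη P hC hadd hmul hrat => ?_⟩
  -- the ratio relation at the generic point
  have hrel : ∀ j, gs R (s j) = X.presheaf.germ U (genericPoint X) hη
      (r.app D (ProjMor.Frame.fr 𝒜 (el l) (el j))) * gs R (s l) := by
    intro j
    have h1 := ProjMor.Embed.ratio_of_iso (a := el l) (b := el j) (va := s l) (vb := s j) τ rfl rfl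
      (U := U) le_rfl
    have h2 := congrArg (fun v => R.coord (L.presheaf.germ U (genericPoint X) hη v)) h1
    refine Eq.trans ?_ (h2.trans ?_)
    · exact congrArg R.coord (TopCat.Presheaf.germ_res_apply L.presheaf _ _ hη (s j)).symm
    · rw [Modules.StalkModule.germ_smul, map_smul, smul_eq_mul]
      refine congrArg₂ (fun a b : X.functionField => a * b) ?_ ?_
      · exact congrArg (fun φ => X.presheaf.germ U (genericPoint X) hη (φ (ProjMor.Frame.fr 𝒜 (el l) (el j))))
          (Scheme.Hom.appLE_eq_app r)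
      · exact congrArg R.coord (TopCat.Presheaf.germ_res_apply L.presheaf _ _ hη (s l))
  have hne : gs R (s l) ≠ 0 := by
    intro h0
    have hgen : IsGen L U (rs L le_top (s l)) := by
      have h := (isGen_locus (s l)).res hloc.ge
      rwa [rs_rs] at h
    have hg0 : L.presheaf.germ U (genericPoint X) hη (rs L (le_top : U ≤ ⊤) (s l)) =
        L.presheaf.germ U (genericPoint X) hη 0 := by
      rw [map_zero]
      exact R.coord.injective (((congrArg R.coord (TopCat.Presheaf.germ_res_apply L.presheaf _ _ hη (s l))).trans h0).trans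
        (map_zero R.coord).symm)
    obtain ⟨W, hW, i₁, i₂, hW0⟩ := TopCat.Presheaf.germ_eq L.presheaf _ hη hη _ _ hg0
    rw [map_zero] at hW0
    haveI : Nonempty W := ⟨⟨_, hW⟩⟩
    refine one_ne_zero (α := Γ(X, W)) ((hgen W i₁.le).1 ?_)
    simp only [one_smul, zero_smul]
    exact hW0
  let ψ : MvPolynomial {j : Fin (n + 1) // j ≠ l} k →+* X.functionField :=
    ((X.presheaf.germ U (genericPoint X) hη).hom.comp (r.app D).hom).comp
      ((Proj.awayToSection 𝒜 (MvPolynomial.X l)).hom.comp (Charts.fromPoly k l))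
  have hψC : ∀ c, ψ (MvPolynomial.C c) = algebraMap k X.functionField c := by
    intro c
    show X.presheaf.germ U (genericPoint X) hη
      (r.app D (Proj.awayToSection 𝒜 (MvPolynomial.X l) (Charts.fromPoly k l (MvPolynomial.C c)))) = _
    rw [Charts.fromPoly_C]
    have h1' : Proj.awayToSection 𝒜 (MvPolynomial.X l) (Charts.constHom k l c) =
        (CohB1.ProjSpace.toSpec n k).appLE ⊤ D le_top ((Scheme.ΓSpecIso (CommRingCat.of k)).inv c) :=
      congrArg (fun φ => φ c) (congrArg CommRingCat.Hom.hom (Embedded.constants_chart (k := k) (n := n) l))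
    refine (congrArg (fun z => X.presheaf.germ U (genericPoint X) hη (r.app D z)) h1').trans ?_
    have h2 : r.app D ((CohB1.ProjSpace.toSpec n k).appLE ⊤ D le_top
        ((Scheme.ΓSpecIso (CommRingCat.of k)).inv c)) =
        X.presheaf.map (homOfLE (le_top : U ≤ ⊤)).op (Coh.toGlobal (X ↘ Spec (CommRingCat.of k)) c) := by
      have key : ∀ (p : X ⟶ Spec (CommRingCat.of k)), r ≫ CohB1.ProjSpace.toSpec n k = p →
          (r ≫ CohB1.ProjSpace.toSpec n k).appLE ⊤ U le_top = p.appLE ⊤ U le_top := by
        rintro p rfl; rfl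
      have h3 := key _ hr
      rw [← Scheme.Hom.appLE_comp_appLE r (CohB1.ProjSpace.toSpec n k) ⊤ D U le_top le_rfl,
        Scheme.Hom.appLE_eq_app r] at h3
      exact congrArg (fun φ => φ.hom ((Scheme.ΓSpecIso (CommRingCat.of k)).inv c)) h3
    exact (congrArg _ h2).trans (TopCat.Presheaf.germ_res_apply X.presheaf _ _ hη _)
  have hψX : ∀ j, ψ (MvPolynomial.X j) = gs R (s j.1) / gs R (s l) := by
    intro j
    show X.presheaf.germ U (genericPoint X) hη
      (r.app D (Proj.awayToSection 𝒜 (MvPolynomial.X l) (Charts.fromPoly k l (MvPolynomial.X j)))) = _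
    rw [eq_div_iff hne, hrel j.1]
    refine congrArg (fun z => X.presheaf.germ U (genericPoint X) hη (r.app D z) * gs R (s l)) ?_
    refine congrArg (Proj.awayToSection 𝒜 (MvPolynomial.X l)) ?_
    refine HomogeneousLocalization.val_injective _ ?_
    refine (congrArg HomogeneousLocalization.val (Charts.fromPoly_X l j)).trans ?_
    rw [Charts.val_coord, HomogeneousLocalization.Away.val_mk]
    simp only [pow_one]
    rfl
  have hψP : ∀ p, P (ψ p) := by
    intro p
    induction p using MvPolynomial.induction_on with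
    | C c => rw [hψC]; exact hC c
    | add a b ha hb => rw [map_add]; exact hadd _ _ ha hb
    | mul_X a j ha => rw [map_mul, hψX]; exact hmul _ _ ha (hrat _)
  intro a
  haveI : IsAffine D := hD
  obtain ⟨b, rfl⟩ := r.app_surjective D hD a
  obtain ⟨c, rfl⟩ := (ConcreteCategory.bijective_of_isIso
    (Proj.basicOpenIsoAway 𝒜 (MvPolynomial.X l) (Charts.X_mem_one l) one_pos).hom).2 b
  obtain ⟨p, rfl⟩ := (Charts.fromPoly_bijective (R := k) l).2 c
  exact hψP p

variable [IsProper (X ↘ Spec (CommRingCat.of k))] (h : CurveHyp X)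
  (hK : _root_.FunFld.IsFunctionField k X.functionField) {L : X.Modules} (R : LineDiv.Rep L)

include h hK

theorem val_gs_le (t : Γ(L, ⊤)) : gs R t ∈ _root_.FunFld.L (R.div (k := k) h hK) := by
  intro P
  obtain ⟨x, rfl⟩ := placeOf_surjective (k := k) h P
  exact (R.mem_div h hK x _).1 ⟨_, R.pr_germ (U := ⊤) (x := x.1) trivial t⟩

/-- A section generates exactly where its function has the allowed pole. -/
theorem mem_locus_iff (t : Γ(L, ⊤)) (x : CPt X) :
    x.1 ∈ locus t ↔
      (placeOf k h x).1 (gs R t) = exp (R.div h hK (placeOf k h x)) := by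
  haveI := h.dvr x.1 x.2
  obtain ⟨W, e, hxW, he⟩ := Gen.isInvertible_iff.1 R.inv x.1
  obtain ⟨a, ha⟩ := exists_coord he (gl t W)
  have hxη : genericPoint X ∈ W := (genericPoint_specializes x.1).mem_open W.2 hxW
  have hgen : ∀ v : L.presheaf.stalk x.1, ∃ a : X.presheaf.stalk x.1,
      a • L.presheaf.germ W x.1 hxW e = v := fun v => by
    obtain ⟨V, hyV, m, rfl⟩ := TopCat.Presheaf.germ_exist (F := L.presheaf) v
    obtain ⟨c, hc⟩ := (he (V ⊓ W) inf_le_right).2 (rs L inf_le_left m)
    simp only at hc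
    have hxVW : x.1 ∈ V ⊓ W := ⟨hyV, hxW⟩
    refine ⟨X.presheaf.germ _ x.1 hxVW c, ?_⟩
    rw [← TopCat.Presheaf.germ_res_apply L.presheaf (homOfLE (inf_le_right : V ⊓ W ≤ W)) x.1 hxVW e,
      ← Modules.StalkModule.germ_smul]
    exact (congrArg _ hc).trans (TopCat.Presheaf.germ_res_apply L.presheaf
      (homOfLE (inf_le_left : V ⊓ W ≤ V)) x.1 hxVW m)
  have hve : (placeOf k h x).1 (R.pr x.1 (L.presheaf.germ W x.1 hxW e)) =
      exp (R.div h hK (placeOf k h x)) := by
    refine le_antisymm ((R.mem_div h hK x _).1 ⟨_, rfl⟩) ?_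
    rw [R.div_placeOf, ← R.val_gen h x]
    obtain ⟨b, hb⟩ := hgen (R.gen x.1)
    rw [← hb, R.pr_smul, map_mul]
    exact mul_le_of_le_one_left' ((mem_O_placeOf h x).2 ⟨b, rfl⟩)
  have hgs : gs R t = algebraMap (X.presheaf.stalk x.1) X.functionField
      (X.presheaf.germ W x.1 hxW a) * R.pr x.1 (L.presheaf.germ W x.1 hxW e) := by
    rw [← R.pr_smul, ← Modules.StalkModule.germ_smul, ← ha]
    refine Eq.trans ?_ (congrArg (R.pr x.1)
      (TopCat.Presheaf.germ_res_apply L.presheaf (homOfLE (le_top : W ≤ ⊤)) x.1 hxW t)).symm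
    exact (R.pr_germ (U := ⊤) (x := x.1) trivial t).symm
  have h1 : x.1 ∈ locus t ↔ IsUnit (X.presheaf.germ W x.1 hxW a) := by
    rw [← X.mem_basicOpen a x.1 hxW, ← locus_inf_eq he ha]
    exact ⟨fun hx => ⟨hx, hxW⟩, fun hx => hx.1⟩
  rw [h1, hgs, map_mul, hve]
  have h2 := ClosedImmersionCrit.val_lt_one_iff (k := k) h x (X.presheaf.germ W x.1 hxW a)
  constructor
  · intro hu
    have h3 := (mem_O_placeOf (k := k) h x).2 ⟨X.presheaf.germ W x.1 hxW a, rfl⟩
    rw [le_antisymm h3 (not_lt.1 fun hlt => h2.1 hlt hu), one_mul]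
  · intro heq
    by_contra hu
    have hlt := h2.2 hu
    have := (mul_eq_right₀ exp_ne_zero).1 heq
    exact hlt.ne this

variable [IsAlgClosed k]

/-- A very ample divisor drops by two at any two places. -/
theorem ell_sub_two (r : X ⟶ CohB1.ProjSpace n k) [IsClosedImmersion r]
    (hr : r ≫ CohB1.ProjSpace.toSpec n k = X ↘ Spec (CommRingCat.of k))
    (τ : (Scheme.Modules.pullback r).obj (Twist.twistProjSpace n k 1) ≅ L)
    (P Q : _root_.FunFld.Place k X.functionField) :
    _root_.FunFld.ell (R.div h hK - Finsupp.single P 1 - Finsupp.single Q 1) + 2 ≤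
      _root_.FunFld.ell (R.div h hK) := by
  classical
  set D := R.div h hK with hDdef
  by_contra hcon
  obtain ⟨x, rfl⟩ := placeOf_surjective (k := k) h P
  obtain ⟨y, rfl⟩ := placeOf_surjective (k := k) h Q
  set P := placeOf k h x with hPdef
  set Q := placeOf k h y with hQdef
  have hdrop : ∀ z : CPt X, _root_.FunFld.ell (D - Finsupp.single (placeOf k h z) 1) + 1 ≤
      _root_.FunFld.ell D := fun z => by
    obtain ⟨U, -, t, hz, hloc, -⟩ := exists_chart R r hr τ z.1
    exact Drop.drop_single hK (val_gs_le h hK R t) ((mem_locus_iff h hK R t z).1 (hloc ▸ hz))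
  haveI := Degree.finiteDimensional_L hK (D - Finsupp.single P 1)
  haveI := Degree.finiteDimensional_L hK (D - Finsupp.single Q 1)
  have hPQ : _root_.FunFld.L (D - Finsupp.single P 1 - Finsupp.single Q 1) =
      _root_.FunFld.L (D - Finsupp.single P 1) := by
    refine Submodule.eq_of_le_of_finrank_le (Degree.L_mono (Drop.sub_single_le _ Q)) ?_
    have := hdrop x
    change _root_.FunFld.ell _ ≤ _root_.FunFld.ell _
    rw [← hPdef] at this
    omega
  have hQP : _root_.FunFld.L (D - Finsupp.single P 1 - Finsupp.single Q 1) =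
      _root_.FunFld.L (D - Finsupp.single Q 1) := by
    rw [sub_right_comm]
    refine Submodule.eq_of_le_of_finrank_le (Degree.L_mono (Drop.sub_single_le _ P)) ?_
    have := hdrop y
    change _root_.FunFld.ell _ ≤ _root_.FunFld.ell _
    rw [← hQdef] at this
    rw [sub_right_comm]
    omega
  have hbelow : ∀ {z : X.functionField} {T : _root_.FunFld.Place k X.functionField},
      z ∈ _root_.FunFld.L D → T.1 z < exp (D T) →
      z ∈ _root_.FunFld.L (D - Finsupp.single T 1) := by
    intro z T hz hlt S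
    rw [Finsupp.sub_apply, Finsupp.single_apply]
    split_ifs with hTS
    · subst hTS
      rcases eq_or_ne z 0 with rfl | hz0
      · rw [map_zero]; exact zero_le'
      · rw [Place.val_eq_exp T hz0, exp_lt_exp] at hlt
        rw [Place.val_eq_exp T hz0, exp_le_exp]
        omega
    · rw [sub_zero]; exact hz S
  obtain ⟨U, hU, t, hxU, hloc, hind⟩ := exists_chart R r hr τ x.1
  have htP : P.1 (gs R t) = exp (D P) := (mem_locus_iff h hK R t x).1 (hloc ▸ hxU)
  have htQ : Q.1 (gs R t) = exp (D Q) := by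
    refine le_antisymm (val_gs_le h hK R t Q) (not_lt.1 fun hlt => ?_)
    have h1 := hbelow (val_gs_le h hK R t) hlt
    rw [← hQP, hPQ] at h1
    have h2 := h1 P
    rw [htP, Finsupp.sub_apply, Finsupp.single_eq_same, exp_le_exp] at h2
    omega
  have hyU : y.1 ∈ U := hloc ▸ (mem_locus_iff h hK R t y).2 htQ
  have hη : genericPoint X ∈ U := (genericPoint_specializes x.1).mem_open U.2 hxU
  let δ : _root_.FunFld.Divisor k X.functionField := Finsupp.single P 1 + Finsupp.single Q 1
  let Small : X.functionField → Prop := fun z => ∀ T, (T = P ∨ T = Q) → T.1 z ≤ exp (-(δ T))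
  have hsmall : ∀ {z : X.functionField}, Small z → ∀ T, (T = P ∨ T = Q) → T.1 z < 1 := by
    intro z hz T hT
    refine (hz T hT).trans_lt ?_
    rw [← exp_zero, exp_lt_exp]
    have : 1 ≤ δ T := by
      simp only [δ, Finsupp.add_apply, Finsupp.single_apply]
      rcases hT with rfl | rfl <;> split_ifs <;> simp_all
    omega
  let Good : X.functionField → Prop := fun f => ∃ c : k, Small (f - algebraMap k X.functionField c)
  have hadd0 : ∀ a b, Small a → Small b → Small (a + b) := fun a b ha hb T hT =>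
    (T.1.map_add a b).trans (max_le (ha T hT) (hb T hT))
  have hmul0 : ∀ a b, Small a → (∀ T, (T = P ∨ T = Q) → T.1 b ≤ 1) → Small (a * b) :=
    fun a b ha hb T hT => by
      rw [map_mul]; exact (mul_le_mul' (ha T hT) (hb T hT)).trans_eq (mul_one _)
  have hbd : ∀ f, Good f → ∀ T, (T = P ∨ T = Q) → T.1 f ≤ 1 := by
    rintro f ⟨c, hc⟩ T hT
    have := T.1.map_add (f - algebraMap k X.functionField c) (algebraMap k X.functionField c)
    rw [sub_add_cancel] at this
    exact this.trans (max_le (hsmall hc T hT).le (Place.val_algebraMap_le T c))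
  have hC : ∀ c, Good (algebraMap k X.functionField c) := fun c =>
    ⟨c, fun T _ => by rw [sub_self, map_zero]; exact zero_le'⟩
  have hadd : ∀ a b, Good a → Good b → Good (a + b) := by
    rintro a b ⟨c, hc⟩ ⟨d, hd⟩
    refine ⟨c + d, ?_⟩
    rw [map_add, add_sub_add_comm]
    exact hadd0 _ _ hc hd
  have hmul : ∀ a b, Good a → Good b → Good (a * b) := by
    rintro a b ⟨c, hc⟩ hb
    have hb' := hbd b hb
    obtain ⟨d, hd⟩ := hb
    refine ⟨c * d, ?_⟩
    rw [show a * b - algebraMap k X.functionField (c * d) =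
      (a - algebraMap k X.functionField c) * b +
        (b - algebraMap k X.functionField d) * algebraMap k X.functionField c by rw [map_mul]; ring]
    exact hadd0 _ _ (hmul0 _ _ hc hb') (hmul0 _ _ hd fun T _ => Place.val_algebraMap_le T c)
  haveI := h.dvr x.1 x.2
  have hgerm : ∀ (z : CPt X) (hz : z.1 ∈ U) (a : Γ(X, U)),
      algebraMap (X.presheaf.stalk z.1) X.functionField (X.presheaf.germ U z.1 hz a) =
        X.presheaf.germ U (genericPoint X) hη a := fun z hz a =>
    X.presheaf.germ_stalkSpecializes_apply hz (genericPoint_specializes z.1) a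
  have hlt_iff : ∀ (z : CPt X) (hz : z.1 ∈ U) (a : Γ(X, U)),
      (placeOf k h z).1 (X.presheaf.germ U (genericPoint X) hη a) < 1 ↔
        a ∈ (hU.primeIdealOf ⟨z.1, hz⟩).asIdeal := fun z hz a => by
    rw [← hgerm z hz a, ClosedImmersionCrit.val_lt_one_iff (k := k) h z,
      ← ClosedImmersionCrit.mem_prime_iff hU hz]
  have hne : gs R t ≠ 0 := fun e => by
    rw [e, map_zero] at htP; exact exp_ne_zero htP.symm
  have hrat : ∀ s, Good (gs R s / gs R t) := by
    intro s
    obtain ⟨a, ha⟩ : ∃ a : Γ(X, U), X.presheaf.germ U (genericPoint X) hη a = gs R s / gs R t := by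
      have hgen : IsGen L U (gl t U) := by
        have h := (isGen_locus t).res hloc.ge
        rwa [show rs L hloc.ge (gl t (locus t)) = gl t U from rs_rs _ _ _ _] at h
      obtain ⟨a, ha⟩ := exists_coord hgen (gl s U)
      refine ⟨a, ?_⟩
      rw [eq_div_iff hne]
      have h2 := congrArg (fun v => R.coord (L.presheaf.germ U (genericPoint X) hη v)) ha
      simp only [Modules.StalkModule.germ_smul, map_smul, smul_eq_mul] at h2
      exact ((congrArg R.coord (TopCat.Presheaf.germ_res_apply L.presheaf _ _ hη s)).symm.trans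
        (h2.trans (congrArg (X.presheaf.germ U (genericPoint X) hη a * ·)
          (congrArg R.coord (TopCat.Presheaf.germ_res_apply L.presheaf _ _ hη t))))).symm
    obtain ⟨c, hc⟩ := Curves.SepCriterion.exists_scalar (k := k) hU x.2 hxU a
    refine ⟨c, ?_⟩
    have hv : P.1 (gs R s / gs R t - algebraMap k X.functionField c) < 1 := by
      have h1 := (hlt_iff x hxU _).2 hc
      rw [map_sub, ha] at h1
      have h2 : X.presheaf.germ U (genericPoint X) hη (Curves.SepCriterion.scl (k := k) X U c) =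
          algebraMap k X.functionField c :=
        TopCat.Presheaf.germ_res_apply X.presheaf _ _ hη _
      rwa [h2] at h1
    set z := gs R s - algebraMap k X.functionField c * gs R t with hz
    have hquot : gs R s / gs R t - algebraMap k X.functionField c = z / gs R t := by
      rw [hz, sub_div, mul_div_cancel_right₀ _ hne]
    rw [hquot] at hv ⊢
    have hzL : z ∈ _root_.FunFld.L D := by
      refine sub_mem (val_gs_le h hK R s) ?_
      rw [← Algebra.smul_def]
      exact Submodule.smul_mem _ c (val_gs_le h hK R t)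
    have hzP : P.1 z < exp (D P) := by
      rw [map_div₀, htP, div_lt_one₀ (zero_lt_iff.2 exp_ne_zero)] at hv
      exact hv
    have hz2 := hbelow hzL hzP
    rw [← hPQ] at hz2
    intro T hT
    have hTt : T.1 (gs R t) = exp (D T) := by
      rcases hT with rfl | rfl
      · exact htP
      · exact htQ
    rw [map_div₀, hTt, div_le_iff₀ (zero_lt_iff.2 exp_ne_zero), ← exp_add]
    refine (hz2 T).trans_eq (congrArg exp ?_)
    simp only [δ, Finsupp.add_apply, Finsupp.sub_apply]
    ring
  have hall := hind hη Good hC hadd hmul hrat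
  -- the constant of a small function vanishes
  have hc0 : ∀ {f : X.functionField} {c : k}, Small (f - algebraMap k X.functionField c) →
      P.1 f < 1 → c = 0 := by
    intro f c hc hf
    by_contra hc0
    have h1 := P.1.map_sub f (f - algebraMap k X.functionField c)
    rw [sub_sub_cancel, Place.val_algebraMap P hc0] at h1
    exact (max_lt hf (hsmall hc P (Or.inl rfl))).not_ge h1
  by_cases hxy : x = y
  · subst hxy
    obtain ⟨f, hf⟩ := P.2.2 (exp (-1))
    have hf1 : P.1 f ≤ 1 := by rw [hf, ← exp_zero, exp_le_exp]; omega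
    obtain ⟨a, ha⟩ := (mem_O_placeOf h x).1 hf1
    letI := TopCat.Presheaf.algebra_section_stalk X.presheaf (⟨x.1, hxU⟩ : U)
    have := hU.isLocalization_stalk ⟨x.1, hxU⟩
    obtain ⟨⟨α, σ⟩, hασ⟩ := IsLocalization.surj (hU.primeIdealOf ⟨x.1, hxU⟩).asIdeal.primeCompl a
    have hσ : P.1 (X.presheaf.germ U (genericPoint X) hη σ.1) = 1 := by
      refine le_antisymm (hbd _ (hall _) P (Or.inl rfl)) (not_lt.1 fun hlt => ?_)
      exact σ.2 ((hlt_iff x hxU _).1 hlt)
    have hα : P.1 (X.presheaf.germ U (genericPoint X) hη α) = exp (-1) := by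
      rw [← hgerm x hxU α, show X.presheaf.germ U x.1 hxU α = a * X.presheaf.germ U x.1 hxU σ.1
        from hασ.symm, map_mul, map_mul, ha, hf, hgerm x hxU, hσ, mul_one]
    obtain ⟨c, hc⟩ := hall α
    have hlt : P.1 (X.presheaf.germ U (genericPoint X) hη α) < 1 := by
      rw [hα, ← exp_zero, exp_lt_exp]; omega
    have h0 := hc0 hc hlt
    subst h0
    have h2 := hc P (Or.inl rfl)
    rw [map_zero, sub_zero, hα, exp_le_exp] at h2
    have hQeq : Q = P := by rw [hPdef, hQdef]
    simp only [δ, hQeq, Finsupp.add_apply, Finsupp.single_eq_same] at h2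
    omega
  · have hm := hU.primeIdealOf_isMaximal_of_isClosed ⟨x.1, hxU⟩ x.2
    obtain ⟨a, hax, hay⟩ : ∃ a, a ∈ (hU.primeIdealOf ⟨x.1, hxU⟩).asIdeal ∧
        a ∉ (hU.primeIdealOf ⟨y.1, hyU⟩).asIdeal := by
      refine SetLike.not_le_iff_exists.1 fun hle => hxy (Subtype.ext ?_)
      have h2 : hU.primeIdealOf ⟨x.1, hxU⟩ = hU.primeIdealOf ⟨y.1, hyU⟩ :=
        PrimeSpectrum.ext (hm.eq_of_le (hU.primeIdealOf ⟨y.1, hyU⟩).isPrime.ne_top hle)
      have h3 := congrArg hU.fromSpec h2
      rwa [hU.fromSpec_primeIdealOf, hU.fromSpec_primeIdealOf] at h3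
    obtain ⟨c, hc⟩ := hall a
    have h0 := hc0 hc ((hlt_iff x hxU a).2 hax)
    subst h0
    have h2 := hsmall hc Q (Or.inr rfl)
    rw [map_zero, sub_zero] at h2
    exact hay ((hlt_iff y hyU a).1 h2)

end Groth.Agent.Lib.RG57.VeryAmpleCrit
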