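import Groth.Prelude.Def_FlatFun
import Mathlib.AlgebraicGeometry.Morphisms.ClosedImmersion
import Mathlib.AlgebraicGeometry.Morphisms.FinitePresentation
import Mathlib.Algebra.Module.Projective

/-!
# Weil restriction of a closed subscheme along a projective algebra
-/

set_option autoImplicit false
set_option linter.style.haveILetI false

universe u

open CategoryTheory CategoryTheory.Limits AlgebraicGeometry Opposite
open scoped TensorProduct

namespace Groth.Agent.Lib.RG57.WeilClosed

section Ring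

variable (A : Type u) {B : Type u} [CommRing A] [CommRing B] [Algebra A B] [Module.Projective A B]

/-- The coefficient ideal: an ideal of the extension dies in a base change exactly when this ideal does. -/
theorem exists_coeff (J : Ideal B) :
    ∃ I : Ideal A, (∀ (C : Type u) [CommRing C] [Algebra A C],
        (∀ j ∈ J, (j ⊗ₜ[A] (1 : C)) = 0) ↔ ∀ a ∈ I, algebraMap A C a = 0) ∧ (J.FG → I.FG) := by
  classical
  obtain ⟨s, hs⟩ := (Module.projective_def (R := A) (P := B)).1 inferInstance
  let I : Ideal A := Ideal.span {a | ∃ j ∈ J, ∃ b, s j b = a}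
  have hrepr : ∀ (C : Type u) [CommRing C] [Algebra A C] (j : B), (∀ b, algebraMap A C (s j b) = 0) →
      j ⊗ₜ[A] (1 : C) = 0 := by
    intro C _ _ j hj
    rw [← hs j, Finsupp.linearCombination_apply, Finsupp.sum, TensorProduct.sum_tmul]
    refine Finset.sum_eq_zero fun b _ => ?_
    rw [TensorProduct.smul_tmul, Algebra.smul_def, mul_one, hj b, TensorProduct.tmul_zero]
  have hiff : ∀ (C : Type u) [CommRing C] [Algebra A C],
      (∀ j ∈ J, (j ⊗ₜ[A] (1 : C)) = 0) ↔ ∀ a ∈ I, algebraMap A C a = 0 := by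
    intro C _ _
    refine ⟨fun h => ?_, fun h j hj => hrepr C j fun b => h _ (Ideal.subset_span ⟨j, hj, b, rfl⟩)⟩
    suffices I ≤ RingHom.ker (algebraMap A C) from fun a ha => this ha
    refine Ideal.span_le.2 ?_
    rintro a ⟨j, hj, b, rfl⟩
    let φ : B →ₗ[A] A := (Finsupp.lapply b).comp s
    have := congrArg (TensorProduct.lid A C ∘ φ.rTensor C) (h j hj)
    simp only [Function.comp_apply, LinearMap.rTensor_tmul, TensorProduct.lid_tmul, map_zero] at this
    rw [Algebra.smul_def, mul_one] at this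
    exact this
  refine ⟨I, hiff, fun hJ => ?_⟩
  obtain ⟨T, hT⟩ := hJ
  refine ⟨T.biUnion fun j => (s j).support.image (s j), le_antisymm (Ideal.span_le.2 ?_) fun a ha => ?_⟩
  · intro a ha
    simp only [Finset.coe_biUnion, Set.mem_iUnion, Finset.coe_image, Set.mem_image] at ha
    obtain ⟨j, hj, b, -, rfl⟩ := ha
    exact Ideal.subset_span ⟨j, hT ▸ Ideal.subset_span hj, b, rfl⟩
  · let I' : Ideal A := Ideal.span (T.biUnion fun j => (s j).support.image (s j) : Finset A)
    have h0 : ∀ j ∈ J, (j ⊗ₜ[A] (1 : A ⧸ I')) = 0 := by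
      intro j hj
      let L : Ideal B := RingHom.ker (Algebra.TensorProduct.includeLeftRingHom (A := B) (B := A ⧸ I') (R := A))
      suffices J ≤ L from this hj
      rw [← hT]
      refine Ideal.span_le.2 fun t ht => hrepr _ t fun b => ?_
      rw [Ideal.Quotient.algebraMap_eq, Ideal.Quotient.eq_zero_iff_mem]
      by_cases hb : b ∈ (s t).support
      · refine Ideal.subset_span ?_
        simp only [Finset.coe_biUnion, Set.mem_iUnion, Finset.coe_image, Set.mem_image]
        exact ⟨t, ht, b, hb, rfl⟩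
      · rw [Finsupp.notMem_support_iff.1 hb]
        exact zero_mem _
    have := (hiff (A ⧸ I')).1 h0 a ha
    rwa [Ideal.Quotient.algebraMap_eq, Ideal.Quotient.eq_zero_iff_mem] at this

end Ring

/-- The base change of a monomorphism is an isomorphism exactly when the map factors through it. -/
theorem isIso_snd_iff {X Y W : Scheme.{u}} (i : Y ⟶ X) [Mono i] (h : W ⟶ X) :
    IsIso (pullback.snd i h) ↔ ∃ g, g ≫ i = h := by
  refine ⟨fun _ => ⟨inv (pullback.snd i h) ≫ pullback.fst i h, ?_⟩, fun ⟨g, hg⟩ => ?_⟩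
  · rw [Category.assoc, pullback.condition, IsIso.inv_hom_id_assoc]
  · refine ⟨pullback.lift g (𝟙 W) (by rw [hg, Category.id_comp]), ?_, pullback.lift_snd _ _ _⟩
    rw [← cancel_mono (pullback.snd i h), Category.assoc, pullback.lift_snd, Category.id_comp, Category.comp_id]

variable {A B : Type u} [CommRing A] [CommRing B] [Algebra A B]

/-- The Weil restriction of a closed subscheme along a projective algebra is a closed subscheme. -/
theorem exists_representableBy [Module.Projective A B] {Y : Scheme.{u}} (i : Y ⟶ Spec (CommRingCat.of B))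
    [IsClosedImmersion i] [Algebra.FinitePresentation A B] :
    ∃ Z : Over (Spec (CommRingCat.of A)), IsClosedImmersion Z.hom ∧
      Nonempty ((FlatFun.genPSp (Spec (CommRingCat.of A)) (fun T =>
        IsIso (pullback.snd i (pullback.fst (Spec.map (CommRingCat.ofHom (algebraMap A B))) T.hom)))).RepresentableBy Z) ∧
      (LocallyOfFinitePresentation (i ≫ Spec.map (CommRingCat.ofHom (algebraMap A B))) →
        LocallyOfFinitePresentation Z.hom) := by
  obtain ⟨J, e, he⟩ := IsClosedImmersion.Spec_iff.1 ‹IsClosedImmersion i›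
  obtain ⟨I, hI, hIfg⟩ := exists_coeff A J
  let f := Spec.map (CommRingCat.ofHom (algebraMap A B))
  let j := Spec.map (CommRingCat.ofHom (Ideal.Quotient.mk J))
  let Z : Over (Spec (CommRingCat.of A)) := Over.mk (Spec.map (CommRingCat.ofHom (Ideal.Quotient.mk I)))
  haveI hZ : IsClosedImmersion Z.hom := IsClosedImmersion.spec_of_quotient_mk (R := CommRingCat.of A) I
  let Q : Over (Spec (CommRingCat.of A)) → Prop := fun T => IsIso (pullback.snd i (pullback.fst f T.hom))
  have hQ : ∀ T, Q T ↔ ∃ g, g ≫ j = pullback.fst f T.hom := fun T => by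
    refine (isIso_snd_iff i _).trans ⟨fun ⟨g, hg⟩ => ⟨g ≫ e.hom, ?_⟩, fun ⟨g, hg⟩ => ⟨g ≫ e.inv, ?_⟩⟩
    · rw [Category.assoc, ← he, hg]
    · rw [he, Category.assoc, Iso.inv_hom_id_assoc, hg]
  have hstab : ∀ ⦃T T₀ : Over (Spec (CommRingCat.of A))⦄ (_ : T ⟶ T₀), Q T₀ → Q T := by
    intro T T₀ g h
    obtain ⟨k, hk⟩ := (hQ T₀).1 h
    refine (hQ T).2 ⟨pullback.map f T.hom f T₀.hom (𝟙 _) g.left (𝟙 _) (by simp) (by simp) ≫ k, ?_⟩
    rw [Category.assoc, hk, pullback.lift_fst, Category.comp_id]
  -- the affine case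
  have haff : ∀ (C : Type u) [CommRing C] [Algebra A C],
      Q (Over.mk (Spec.map (CommRingCat.ofHom (algebraMap A C)))) ↔ ∀ a ∈ I, algebraMap A C a = 0 := by
    intro C _ _
    rw [← hI C, hQ]
    constructor
    · rintro ⟨g, hg⟩ b hb
      have h1 : ((pullbackSpecIso A B C).inv ≫ g) ≫ j =
          Spec.map (CommRingCat.ofHom (Algebra.TensorProduct.includeLeftRingHom : B →+* B ⊗[A] C)) := by
        rw [Category.assoc, show g ≫ j = pullback.fst _ _ from hg]
        exact pullbackSpecIso_inv_fst A B C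
      rw [← Spec.map_preimage ((pullbackSpecIso A B C).inv ≫ g), ← Spec.map_comp] at h1
      have h2 := congrArg (fun φ => φ.hom b) (Spec.map_injective h1)
      simp only [CommRingCat.hom_comp, RingHom.comp_apply, CommRingCat.hom_ofHom,
        Ideal.Quotient.eq_zero_iff_mem.2 hb, map_zero] at h2
      exact h2.symm
    · intro h
      let ψ : B ⧸ J →+* B ⊗[A] C := Ideal.Quotient.lift J Algebra.TensorProduct.includeLeftRingHom h
      refine ⟨(pullbackSpecIso A B C).hom ≫ Spec.map (CommRingCat.ofHom ψ), ?_⟩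
      rw [Category.assoc, ← Spec.map_comp]
      exact pullbackSpecIso_hom_fst A B C
  have hQZ : Q Z := (haff (A ⧸ I)).2 fun a ha => Ideal.Quotient.eq_zero_iff_mem.2 ha
  have hiff : ∀ T, Q T ↔ Nonempty (T ⟶ Z) := by
    refine fun T => ⟨fun hT => ?_, fun ⟨g⟩ => hstab g hQZ⟩
    let 𝒰 := T.left.affineCover
    have hloc : ∀ k, ∃ g : 𝒰.X k ⟶ Z.left, g ≫ Z.hom = 𝒰.f k ≫ T.hom := by
      intro k
      let v := (𝒰.X k).isoSpec.inv ≫ 𝒰.f k
      let φ := Spec.preimage (v ≫ T.hom)
      letI : Algebra A Γ(𝒰.X k, ⊤) := φ.hom.toAlgebra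
      have hv : Spec.map (CommRingCat.ofHom (algebraMap A Γ(𝒰.X k, ⊤))) = v ≫ T.hom := Spec.map_preimage _
      have h0 := (haff _).1 (hstab (Over.homMk v hv.symm :
        Over.mk (Spec.map (CommRingCat.ofHom (algebraMap A Γ(𝒰.X k, ⊤)))) ⟶ T) hT)
      let ψ : A ⧸ I →+* Γ(𝒰.X k, ⊤) := Ideal.Quotient.lift I (algebraMap A _) h0
      refine ⟨(𝒰.X k).isoSpec.hom ≫ Spec.map (CommRingCat.ofHom ψ), ?_⟩
      show ((𝒰.X k).isoSpec.hom ≫ Spec.map _) ≫ Spec.map _ = _
      rw [Category.assoc, ← Spec.map_comp]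
      show (𝒰.X k).isoSpec.hom ≫ Spec.map (CommRingCat.ofHom (algebraMap A Γ(𝒰.X k, ⊤))) = _
      exact (congrArg ((𝒰.X k).isoSpec.hom ≫ ·) hv).trans
        ((congrArg ((𝒰.X k).isoSpec.hom ≫ ·) (Category.assoc _ _ _)).trans (Iso.hom_inv_id_assoc _ _))
    choose g hg using hloc
    refine ⟨Over.homMk (Scheme.Cover.glueMorphisms 𝒰 g fun x y => ?_) ?_⟩
    · rw [← cancel_mono Z.hom, Category.assoc, Category.assoc, hg, hg, pullback.condition_assoc]
    · refine Scheme.Cover.hom_ext 𝒰 _ _ fun k => ?_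
      rw [← Category.assoc, Scheme.Cover.ι_glueMorphisms, hg]
  have hsub : ∀ T : Over (Spec (CommRingCat.of A)), Subsingleton (T ⟶ Z) := fun T => ⟨fun a b => by
    ext : 1
    exact (cancel_mono Z.hom).1 ((Over.w a).trans (Over.w b).symm)⟩
  refine ⟨Z, hZ, ⟨{ homEquiv := fun {T} => ?_, homEquiv_comp := fun _ _ => Subsingleton.elim _ _ }⟩, fun hfp => ?_⟩
  · have := hsub T
    exact
      { toFun := fun g => (FlatFun.genPSp_nonempty_of _ ((hiff T).2 ⟨g⟩)).some
        invFun := fun x => ((hiff T).1 ((FlatFun.genPSp_nonempty_iff_of_stable _ hstab T).1 ⟨x⟩)).some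
        left_inv := fun _ => Subsingleton.elim _ _
        right_inv := fun _ => Subsingleton.elim _ _ }
  · rw [he, Category.assoc, MorphismProperty.cancel_left_of_respectsIso @LocallyOfFinitePresentation,
      ← Spec.map_comp, LocallyOfFinitePresentation.SpecMap_iff] at hfp
    haveI : Algebra.FinitePresentation A (B ⧸ J) := by
      rw [← RingHom.finitePresentation_algebraMap]
      exact hfp
    have hJ : J.FG := by
      have := Algebra.FinitePresentation.ker_fG_of_surjective (Ideal.Quotient.mkₐ A J)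
        (Ideal.Quotient.mkₐ_surjective A J)
      change (RingHom.ker (Ideal.Quotient.mk J)).FG at this
      rwa [Ideal.mk_ker] at this
    refine (LocallyOfFinitePresentation.SpecMap_iff _).2 ?_
    exact RingHom.FinitePresentation.of_surjective _ Ideal.Quotient.mk_surjective (by
      show (RingHom.ker (Ideal.Quotient.mk I)).FG
      rw [Ideal.mk_ker]; exact hIfg hJ)

end Groth.Agent.Lib.RG57.WeilClosed
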